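import Cfsg.Agent.Lib.SpFourExotic.Module

/-!
With a common fixed vector off the plane, the conjugates of the Sylow subgroup fix an axis and
induce `SL₂` on the quotient.
-/

set_option autoImplicit false

namespace Cfsg.Agent.Lib.SpFourExotic

variable {K : Type*} [Field K] [Fintype K] [CharP K 2]
variable {G : Type*} [Group G] [Finite G]

namespace Setting

variable [DistribMulAction G (K × K × K)] {φ : K → K → K}

local notation "M" => (K × K × K)

variable (X : Setting G φ)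

/-- A vector on the axis is fixed by all conjugates of the Sylow subgroup. -/
def HasFixed : Prop :=
  ∃ c : K, c ≠ 0 ∧ ∀ (g : G) (s : K), (g * X.tr s * g⁻¹) • ((0, 0, c) : M) = (0, 0, c)

theorem moves_of_ne {g : G} {m : M} (hm : m.1 = 0) (hg : (g • m).1 ≠ 0) : X.Moves g := by
  by_contra h
  rw [Moves] at h
  push Not at h
  have h1 := h _ (X.tr_mem 1)
  have hn : g * X.tr 1 * g⁻¹ ≠ 1 := by
    intro e
    rw [conj_eq_one_iff] at e
    exact one_ne_zero ((X.tr_eq_one_iff _).1 e)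
  refine hg (X.mem_Z_of_fix h1 hn ?_)
  rw [mul_smul, mul_smul, inv_smul_smul, X.fix_tr 1 hm]

theorem fixed_of_mem {g : G} {m : M} (hm : (g⁻¹ • m).1 = 0) (s : K) :
    (g * X.tr s * g⁻¹) • m = m := by
  rw [mul_smul, mul_smul, X.fix_tr s hm, smul_inv_smul]

theorem mem_of_fixed {g : G} {m : M} {s : K} (hs : s ≠ 0)
    (h : (g * X.tr s * g⁻¹) • m = m) : (g⁻¹ • m).1 = 0 := by
  refine X.mem_Z_of_fix (X.tr_mem s) (fun e => hs ((X.tr_eq_one_iff _).1 e)) ?_
  rw [mul_smul, mul_smul, smul_eq_iff_eq_inv_smul] at h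
  exact h

/-- A common fixed vector lies on the axis. -/
theorem common_zero (hF : X.HasFixed) {g : G} (hg : X.Moves g) {m : M} (h0 : m.1 = 0)
    (hgm : (g⁻¹ • m).1 = 0) : m.2.1 = 0 := by
  obtain ⟨v, z, c⟩ := m
  change v = 0 at h0
  subst h0
  by_contra hz
  change z ≠ 0 at hz
  obtain ⟨c1, hc1, hfix⟩ := hF
  have hfm := fun r => X.fixed_of_mem hgm r
  rcases X.axis hg hfm with h | h
  · exact hz h
  subst h
  have h2 : ∀ r, (g * X.tr r * g⁻¹) • ((0, z, c1) : M) = (0, z, c1) := fun r => by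
    have h3 := smul_add (g * X.tr r * g⁻¹) ((0, z, 0) : M) (0, 0, c1)
    rw [hfm r, hfix g r] at h3
    simpa using h3
  rcases X.axis hg h2 with h | h
  · exact hz h
  · exact hc1 h


/-- The fixed points of a moved Sylow subgroup are a graph over the first and last coordinates. -/
theorem graph (hF : X.HasFixed) {g : G} (hg : X.Moves g) (v c : K) :
    ∃ z : K, (g⁻¹ • ((v, z, c) : M)).1 = 0 ∧
      ∀ z' : K, (g⁻¹ • ((v, z', c) : M)).1 = 0 → z' = z := by
  have huniq : ∀ v' c' z z' : K, (g⁻¹ • ((v', z, c') : M)).1 = 0 →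
      (g⁻¹ • ((v', z', c') : M)).1 = 0 → z' = z := by
    intro v' c' z z' h h'
    have h3 : (g⁻¹ • (((v', z', c') : M) - (v', z, c'))).1 = 0 := by
      rw [smul_sub, Prod.fst_sub, h, h', sub_zero]
    have := X.common_zero hF hg (m := ((v', z', c') : M) - (v', z, c')) (by simp) h3
    exact sub_eq_zero.1 this
  let f : K × K → K × K := fun w => ((g • ((0, w.1, w.2) : M)).1, (g • ((0, w.1, w.2) : M)).2.2)
  have hf : Function.Injective f := by
    rintro ⟨a, b⟩ ⟨a', b'⟩ h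
    simp only [f, Prod.mk.injEq] at h
    set m := g • ((0, a, b) : M) with hm
    set m' := g • ((0, a', b') : M) with hm'
    have h1 : (g⁻¹ • ((m.1, m.2.1, m.2.2) : M)).1 = 0 := by
      show (g⁻¹ • m).1 = 0
      rw [hm, inv_smul_smul]
    have h2 : (g⁻¹ • ((m.1, m'.2.1, m.2.2) : M)).1 = 0 := by
      rw [h.1, h.2]
      show (g⁻¹ • m').1 = 0
      rw [hm', inv_smul_smul]
    have h3 := huniq _ _ _ _ h1 h2
    have h4 : m = m' := Prod.ext h.1 (Prod.ext h3.symm h.2)
    have h5 := MulAction.injective g h4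
    simpa using h5
  obtain ⟨⟨a, b⟩, hab⟩ := (Finite.injective_iff_surjective.1 hf) (v, c)
  simp only [f, Prod.mk.injEq] at hab
  refine ⟨(g • ((0, a, b) : M)).2.1, ?_, fun z' hz' => huniq v c _ z' ?_ hz'⟩ <;>
    rw [← hab.1, ← hab.2] <;> show (g⁻¹ • g • ((0, a, b) : M)).1 = 0 <;> rw [inv_smul_smul]

/-- Every conjugate of the Sylow subgroup fixes the axis. -/
theorem fix_axis (hF : X.HasFixed) (g : G) (c : K) : (g⁻¹ • ((0, 0, c) : M)).1 = 0 := by
  by_cases hg : X.Moves g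
  · obtain ⟨z, hz, -⟩ := X.graph hF hg 0 c
    have := X.common_zero hF hg (m := ((0, z, c) : M)) rfl hz
    change z = 0 at this
    rwa [this] at hz
  · rw [Moves] at hg
    push Not at hg
    refine X.mem_of_fixed one_ne_zero ?_
    obtain ⟨s, hs⟩ := X.exists_tr (hg _ (X.tr_mem 1))
    rw [← hs]
    exact X.fix_tr s rfl

/-- The axis is invariant. -/
theorem smul_axis (hF : X.HasFixed) (g : G) (c : K) :
    ∃ c' : K, g • ((0, 0, c) : M) = (0, 0, c') := by
  set m := g • ((0, 0, c) : M) with hm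
  have hall : ∀ x : G, (x⁻¹ • m).1 = 0 := by
    intro x
    have h := X.fix_axis hF (g⁻¹ * x) c
    rwa [mul_inv_rev, inv_inv, mul_smul] at h
  obtain ⟨g0, x, hx, hxn⟩ := X.exists_move
  have h0 : m.1 = 0 := by have := hall 1; rwa [inv_one, one_smul] at this
  refine ⟨m.2.2, Prod.ext h0 (Prod.ext ?_ rfl)⟩
  exact X.common_zero hF ⟨x, hx, hxn⟩ h0 (hall g0)

theorem fix_mem_closure (hF : X.HasFixed) {g : G}
    (hg : g ∈ Subgroup.normalClosure ((X.P : Subgroup G) : Set G)) (c : K) :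
    g • ((0, 0, c) : M) = (0, 0, c) := by
  induction hg using Subgroup.closure_induction generalizing c with
  | mem x hx =>
    obtain ⟨a, ha, hax⟩ := Group.mem_conjugatesOfSet_iff.1 hx
    obtain ⟨y, rfl⟩ := isConj_iff.1 hax
    obtain ⟨s, rfl⟩ := X.exists_tr ha
    exact X.fixed_of_mem (X.fix_axis hF y c) s
  | one => exact one_smul _ _
  | mul x y _ _ hx hy => rw [mul_smul, hy, hx]
  | inv x _ hx => rw [inv_smul_eq_iff, hx]

/-- An element acting trivially on the axis and the quotient is trivial. -/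
theorem eq_one_of_trivial (hF : X.HasFixed) {g : G}
    (h1 : ∀ c : K, g • ((0, 0, c) : M) = (0, 0, c))
    (h2 : ∀ m : M, ∃ c : K, g • m - m = (0, 0, c)) : g = 1 := by
  let N : Subgroup G :=
    { carrier := {g | (∀ c : K, g • ((0, 0, c) : M) = (0, 0, c)) ∧
        ∀ m : M, ∃ c : K, g • m - m = (0, 0, c)}
      one_mem' := ⟨fun c => one_smul _ _, fun m => ⟨0, by rw [one_smul, sub_self]; rfl⟩⟩
      mul_mem' := fun {a b} ha hb => ⟨fun c => by rw [mul_smul, hb.1, ha.1], fun m => by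
        obtain ⟨c, hc⟩ := hb.2 m
        obtain ⟨d, hd⟩ := ha.2 (b • m)
        refine ⟨d + c, ?_⟩
        rw [mul_smul, show a • b • m - m = (a • b • m - b • m) + (b • m - m) by abel, hd, hc]
        simp⟩
      inv_mem' := fun {a} ha => ⟨fun c => by rw [inv_smul_eq_iff, ha.1], fun m => by
        obtain ⟨c, hc⟩ := ha.2 (a⁻¹ • m)
        refine ⟨-c, ?_⟩
        rw [smul_inv_smul] at hc
        rw [← neg_sub m (a⁻¹ • m), hc]
        simp⟩ }
  have hNn : N.Normal := ⟨fun a ha x => ⟨fun c => by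
    obtain ⟨c', hc'⟩ := X.smul_axis hF x⁻¹ c
    rw [mul_smul, mul_smul, hc', ha.1, ← hc', smul_inv_smul], fun m => by
    obtain ⟨c, hc⟩ := ha.2 (x⁻¹ • m)
    obtain ⟨c', hc'⟩ := X.smul_axis hF x c
    refine ⟨c', ?_⟩
    rw [← hc', ← hc, smul_sub, smul_inv_smul, mul_smul, mul_smul]⟩⟩
  have hNp : IsPGroup 2 N := by
    intro a
    refine ⟨1, Subtype.ext (X.faith _ fun m => ?_)⟩
    show ((a : G) ^ (2 ^ 1)) • m = m
    rw [pow_one, pow_two, mul_smul]
    obtain ⟨c, hc⟩ := a.2.2 m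
    rw [eq_add_of_sub_eq hc, smul_add, a.2.1, eq_add_of_sub_eq hc, ← add_assoc, add_self_M,
      zero_add]
  have key : ∀ x : G, x⁻¹ * g * x ∈ (X.P : Subgroup G) := fun x =>
    hNp.le_sylow_of_normal X.P (by simpa using hNn.conj_mem g ⟨h1, h2⟩ x⁻¹)
  obtain ⟨g0, hg0⟩ := X.exists_move
  by_contra hne
  have h0 := key 1
  rw [inv_one, one_mul, mul_one] at h0
  exact X.not_mem_of_moves hg0 h0 hne (key g0)

theorem not_moves_stab {k : G} (hk : ¬ X.Moves k) {m : M} (hm : m.1 = 0) : (k⁻¹ • m).1 = 0 := by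
  rw [Moves] at hk
  push Not at hk
  obtain ⟨s, hs⟩ := X.exists_tr (hk _ (X.tr_mem 1))
  refine X.mem_of_fixed one_ne_zero ?_
  rw [← hs]
  exact X.fix_tr s hm

theorem tr_inv (s : K) : (X.tr s)⁻¹ = X.tr s :=
  inv_eq_of_mul_eq_one_right (X.sq_eq_one (X.tr_mem s))

/-- The lines of the moved Sylow subgroups are translates of one of them. -/
theorem exists_slope (hF : X.HasFixed) {g0 g : G} (h0 : X.Moves g0) (hg : X.Moves g) :
    ∃ s : K, ∀ m : M, (g⁻¹ • m).1 = 0 → (g0⁻¹ • (X.tr s • m)).1 = 0 := by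
  obtain ⟨z1, hz1, -⟩ := X.graph hF hg 1 0
  obtain ⟨c0, hc0, -⟩ := X.graph hF h0 1 0
  refine ⟨z1 + c0, fun m hm => ?_⟩
  set h := X.tr (z1 + c0) * g0 with hh
  have hinv : ∀ m : M, h⁻¹ • m = g0⁻¹ • (X.tr (z1 + c0) • m) := fun m => by
    rw [hh, mul_inv_rev, mul_smul, X.tr_inv]
  have h1 : (h⁻¹ • ((1, z1, 0) : M)).1 = 0 := by
    rw [hinv, X.smul_tr]
    have e : ((1, z1 + (z1 + c0) * 1, 0 + φ (z1 + c0) 1) : M) =
        ((1, c0, 0) : M) + (0, 0, φ (z1 + c0) 1) := by
      simp [← add_assoc, CharTwo.add_self_eq_zero]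
    rw [e, smul_add, Prod.fst_add, hc0, X.fix_axis hF, add_zero]
  have hk : ¬ X.Moves (g⁻¹ * h) := by
    intro hmv
    have hw : ((g⁻¹ * h)⁻¹ • (g⁻¹ • ((1, z1, 0) : M))).1 = 0 := by
      rw [mul_inv_rev, inv_inv, mul_smul, smul_inv_smul]; exact h1
    have hz := X.common_zero hF hmv hz1 hw
    obtain ⟨c', hc'⟩ := X.smul_axis hF g (g⁻¹ • ((1, z1, 0) : M)).2.2
    rw [show ((0, 0, (g⁻¹ • ((1, z1, 0) : M)).2.2) : M) = g⁻¹ • ((1, z1, 0) : M) from
      Prod.ext hz1.symm (Prod.ext hz.symm rfl), smul_inv_smul] at hc'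
    exact one_ne_zero (congrArg Prod.fst hc')
  have := X.not_moves_stab hk hm
  rwa [mul_inv_rev, inv_inv, mul_smul, smul_inv_smul, hinv] at this

/-- The lower transvections modulo the axis. -/
theorem exists_lower (hF : X.HasFixed) : ∃ l : K →+ K, ∀ r : K,
    ∃ b ∈ Subgroup.normalClosure ((X.P : Subgroup G) : Set G), ∀ m : M,
      (b • m).1 = m.1 + r * (m.2.1 + l m.1) ∧
      (b • m).2.1 + l ((b • m).1) = m.2.1 + l m.1 := by
  obtain ⟨g0, h0⟩ : ∃ g0, X.Moves g0 := X.exists_move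
  choose L hL hLu using fun v => X.graph hF h0 v 0
  have hLc : ∀ v c, (g0⁻¹ • ((v, L v, c) : M)).1 = 0 := fun v c => by
    rw [show ((v, L v, c) : M) = ((v, L v, 0) : M) + (0, 0, c) by simp, smul_add, Prod.fst_add, hL,
      X.fix_axis hF, add_zero]
  have hadd : ∀ v w, L (v + w) = L v + L w := fun v w => (hLu (v + w) _ (by
    rw [show ((v + w, L v + L w, 0) : M) = ((v, L v, 0) : M) + (w, L w, 0) by simp, smul_add,
      Prod.fst_add, hL, hL, add_zero])).symm
  let l : K →+ K := AddMonoidHom.mk' L hadd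
  have hmem : ∀ m : M, (g0⁻¹ • m).1 = 0 → m.2.1 = l m.1 := fun ⟨v, z, c⟩ hm => hLu v z (by
    rw [show ((v, z, 0) : M) = ((v, z, c) : M) - (0, 0, c) by simp, smul_sub, Prod.fst_sub, hm,
      X.fix_axis hF, sub_zero])
  refine ⟨l, fun r => ?_⟩
  let b : K → G := fun t => g0 * X.tr t * g0⁻¹
  have hb : ∀ t, b t ∈ Subgroup.normalClosure ((X.P : Subgroup G) : Set G) := fun t =>
    Subgroup.normalClosure_normal.conj_mem _ (Subgroup.subset_normalClosure (X.tr_mem t)) g0
  let D : K → M → M := fun t m => b t • m - m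
  have hD : ∀ t m, D t m = g0 • ((0, t * (g0⁻¹ • m).1, φ t (g0⁻¹ • m).1) : M) := fun t m => by
    show (g0 * X.tr t * g0⁻¹) • m - m = _
    rw [X.dev_conj, X.dev_tr]
  have hDl : ∀ t m, (D t m).2.1 = l (D t m).1 := fun t m => hmem _ (by rw [hD, inv_smul_smul])
  have hDm : ∀ t m, D t m = D t (0, m.2.1 + l m.1, 0) := fun t ⟨v, z, c⟩ => by
    show D t (v, z, c) = D t (0, z + l v, 0)
    have he : (g0⁻¹ • ((v, z, c) : M)).1 = (g0⁻¹ • ((0, z + l v, 0) : M)).1 := by
      rw [show ((v, z, c) : M) = ((0, z + l v, 0) : M) + (v, L v, c) by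
        simp [l, add_assoc, CharTwo.add_self_eq_zero], smul_add, Prod.fst_add, hLc, add_zero]
    rw [hD, hD, he]
  have hne : ∀ t ζ, t ≠ 0 → ζ ≠ 0 → (D t (0, ζ, 0)).1 ≠ 0 := by
    intro t ζ ht hζ hzero
    have h2 := hDl t ((0, ζ, 0) : M)
    rw [hzero, map_zero] at h2
    obtain ⟨c', hc'⟩ := X.smul_axis hF g0⁻¹ (D t ((0, ζ, 0) : M)).2.2
    rw [show ((0, 0, (D t ((0, ζ, 0) : M)).2.2) : M) = D t ((0, ζ, 0) : M) from
      Prod.ext hzero.symm (Prod.ext h2.symm rfl), hD, inv_smul_smul] at hc'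
    have h3 := congrArg (fun m : M => m.2.1) hc'
    refine hζ ((hmem _ ((mul_eq_zero.1 h3).resolve_left ht)).trans ?_)
    exact map_zero l
  have hbm : ∀ t m, b t • m = D t m + m := fun t m => by simp [D]
  have hlin : ∀ t, t ≠ 0 → ∀ ζ, (D t (0, ζ, 0)).1 = (D t (0, 1, 0)).1 * ζ := by
    intro t ht ζ
    have hmv : X.Moves (b t) := X.moves_of_ne (m := ((0, 1, 0) : M)) rfl (by
      rw [hbm, Prod.fst_add]; simpa using hne t 1 ht one_ne_zero)
    obtain ⟨s, hs⟩ := X.exists_slope hF h0 hmv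
    have key : ∀ ζ, ζ = s * (D t (0, ζ, 0)).1 := by
      intro ζ
      have h1 := hmem _ (hs (b t • ((0, ζ, 0) : M)) (by rw [inv_smul_smul]))
      rw [hbm, X.smul_tr _ _ (((D t (0, ζ, 0)) + ((0, ζ, 0) : M)).2.1)] at h1
      simp only [Prod.fst_add, Prod.snd_add, add_zero] at h1
      rw [hDl, add_assoc, add_eq_left] at h1
      exact (CharTwo.add_eq_zero.1 h1)
    have hs0 : s ≠ 0 := fun h => by simpa [h] using key 1
    refine mul_left_cancel₀ hs0 ?_
    rw [← mul_assoc, ← key 1, one_mul]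
    exact (key ζ).symm
  let ρ : K → K := fun t => (D t (0, 1, 0)).1
  have hρ : Function.Injective ρ := by
    intro t t' h
    obtain ⟨u, hu⟩ := X.exists_tr ((X.P : Subgroup G).mul_mem (X.tr_mem t) (X.tr_mem t'))
    have hu' : u = t + t' := by
      have e := congrArg (fun g : G => (g • ((1, 0, 0) : M)).2.1) hu
      simp only [mul_smul, X.smul_tr] at e
      simpa [add_comm] using e
    have hbu : b u = b t * b t' := by
      show g0 * X.tr u * g0⁻¹ = g0 * X.tr t * g0⁻¹ * (g0 * X.tr t' * g0⁻¹)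
      rw [hu]; group
    have hz : (D u (0, 1, 0)).1 = 0 := by
      show (b u • ((0, 1, 0) : M) - (0, 1, 0)).1 = 0
      rw [hbu, mul_smul, hbm t' _, smul_add, hbm t ((0, 1, 0) : M)]
      have h4 : (b t • D t' ((0, 1, 0) : M)).1 = (D t' ((0, 1, 0) : M)).1 := by
        rw [hbm, hDm t (D t' _), hDl t', CharTwo.add_self_eq_zero,
          show D t ((0, 0, 0) : M) = 0 by simp [D, show ((0, 0, 0) : M) = 0 from rfl], zero_add]
      simp only [Prod.fst_add, Prod.fst_sub, h4, zero_add, add_zero, sub_zero]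
      have h' : (D t ((0, 1, 0) : M)).1 = (D t' ((0, 1, 0) : M)).1 := h
      rw [h', CharTwo.add_self_eq_zero]
    by_contra hne'
    exact hne u 1 (by rw [hu']; exact fun e => hne' (CharTwo.add_eq_zero.1 e)) one_ne_zero hz
  obtain ⟨t, ht⟩ := (Finite.injective_iff_surjective.1 hρ) r
  refine ⟨b t, hb t, fun m => ?_⟩
  have hfst : (D t m).1 = r * (m.2.1 + l m.1) := by
    rcases eq_or_ne t 0 with rfl | h
    · have : r = 0 := by
        rw [← ht]
        simp [ρ, D, b, (X.tr_eq_one_iff 0).2 rfl]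
      simp [this, D, b, (X.tr_eq_one_iff 0).2 rfl]
    · rw [hDm, hlin t h]
      show ρ t * _ = _
      rw [ht]
  refine ⟨?_, ?_⟩
  · rw [hbm, Prod.fst_add, hfst, add_comm]
  · rw [hbm, Prod.fst_add, map_add, Prod.snd_add, Prod.fst_add, hDl]
    linear_combination (l (D t m).1) * (CharTwo.two_eq_zero : (2 : K) = 0)

/-- A torus element forces the shift identity for `φ`. -/
theorem torus_phi (hF : X.HasFixed) {r : K} (hr : r ≠ 0) :
    ∃ η : K → K, ∀ s v : K, φ (s * r⁻¹ * r⁻¹) (r * v) = φ s v + η (s * v) := by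
  obtain ⟨l, hl⟩ := X.exists_lower hF
  choose b hb hb1 hb2 using hl
  let T : M → K × K := fun m => (m.1, m.2.1 + l m.1)
  have ha : ∀ s m, T (X.tr s • m) = ((T m).1, (T m).2 + s * (T m).1) := fun s ⟨v, z, c⟩ => by
    rw [X.smul_tr]; simp [T]; ring
  have hbT : ∀ r m, T (b r • m) = ((T m).1 + r * (T m).2, (T m).2) := fun r m =>
    Prod.ext (hb1 r m) (hb2 r m)
  set h := b r * X.tr r⁻¹ * b r * (b 1 * X.tr 1 * b 1) with hh
  have hN : h ∈ Subgroup.normalClosure ((X.P : Subgroup G) : Set G) := by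
    have h1 : ∀ s, X.tr s ∈ Subgroup.normalClosure ((X.P : Subgroup G) : Set G) := fun s =>
      Subgroup.subset_normalClosure (X.tr_mem s)
    exact mul_mem (mul_mem (mul_mem (hb r) (h1 _)) (hb r)) (mul_mem (mul_mem (hb 1) (h1 _)) (hb 1))
  have hT : ∀ m, T (h • m) = (r * (T m).1, r⁻¹ * (T m).2) := by
    intro m
    simp only [hh, mul_smul, hbT, ha]
    have h2 : (2 : K) = 0 := CharTwo.two_eq_zero
    refine Prod.ext ?_ ?_ <;> field_simp <;> grind
  have hstab : ∀ m : M, m.1 = 0 → (h • m).1 = 0 := fun m hm => by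
    have := congrArg Prod.fst (hT m)
    simp [T, hm] at this
    exact this
  have hax := fun c => X.fix_mem_closure hF hN c
  let η : K → K := fun z => (h • ((0, z, 0) : M)).2.2
  have hz : ∀ z c : K, h • ((0, z, c) : M) = (0, r⁻¹ * z, c + η z) := by
    intro z c
    have e : h • ((0, z, c) : M) = h • ((0, z, 0) : M) + (0, 0, c) := by
      rw [← hax c, ← smul_add]; simp
    have h1 := hstab ((0, z, 0) : M) rfl
    have h2 := congrArg Prod.snd (hT ((0, z, 0) : M))
    simp [T, h1] at h2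
    rw [e]
    refine Prod.ext (by simp [h1]) (Prod.ext (by simp [h2]) ?_)
    simp [η, add_comm]
  refine ⟨η, fun s v => ?_⟩
  obtain ⟨s', hs'⟩ := X.exists_tr (X.conj_mem_of_stab (g := h⁻¹⁻¹) (fun m hm => by
    rw [inv_inv]
    by_contra hc
    have := X.moves_of_ne (g := h⁻¹) hm hc
    obtain ⟨x, hx, hxn⟩ := this
    refine hxn (X.conj_mem_of_stab (g := h⁻¹) (fun w hw => ?_) hx)
    rw [inv_inv]; exact hstab w hw) (X.tr_mem s))
  have hdev : ∀ v : K, ((0, r⁻¹ * (s * v), φ s v + η (s * v)) : M) =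
      (0, s' * (r * v), φ s' (r * v)) := by
    intro v
    have h1 := X.dev_conj h s (h • ((v, 0, 0) : M))
    rw [inv_smul_smul, X.dev_tr, hz] at h1
    rw [inv_inv] at hs'
    rw [← hs', X.dev_tr] at h1
    have h3 : (h • ((v, 0, 0) : M)).1 = r * v := congrArg Prod.fst (hT ((v, 0, 0) : M))
    rw [h3] at h1
    exact h1.symm
  have hs : s' = s * r⁻¹ * r⁻¹ := by
    have := congrArg (fun m : M => m.2.1) (hdev 1)
    simp at this
    rw [mul_comm r⁻¹ s] at this
    rw [this]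
    field_simp
  rw [← hs]
  exact (congrArg (fun m : M => m.2.2) (hdev v)).symm

end Setting

end Cfsg.Agent.Lib.SpFourExotic
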