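import Cfsg.Agent.Lib.SpFourExotic.Model
import Cfsg.Agent.Lib.SpFourExotic.Spread
import Cfsg.Agent.Lib.Fusion.Normal
import Cfsg.Agent.Lib.Fusion87.EssentialSmall
import Cfsg.Agent.Lib.Fusion87.TransitiveCommutation

/-!
Saturated systems over the Sylow 2-subgroup of `Sp₄(2ⁿ)`: the essential subgroups are the two
radicals.
-/

set_option autoImplicit false

namespace Cfsg.Agent.Lib.SpFourExotic

open Cfsg Cfsg.FusionSystem Cfsg.Agent.Lib.Fusion Cfsg.Agent.Lib.Fusion87

variable {Ω : Type*} [Group Ω] {S : Subgroup Ω} {K : Type*} [Field K]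

section Frame

variable (e : U4 K ≃* ↥S)

/-- The element with given coordinates. -/
def el (a : U4 K) : Ω := (e a : Ω)

theorem el_mem (a : U4 K) : el e a ∈ S := (e a).2

theorem el_mul (a b : U4 K) : el e (a * b) = el e a * el e b := by simp [el]

theorem el_inv (a : U4 K) : el e a⁻¹ = (el e a)⁻¹ := by simp [el]

theorem el_one : el e 1 = 1 := by simp [el]

theorem el_inj {a b : U4 K} : el e a = el e b ↔ a = b :=
  ⟨fun h => e.injective (Subtype.ext h), fun h => h ▸ rfl⟩

theorem exists_el {g : Ω} (hg : g ∈ S) : ∃ a, el e a = g :=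
  ⟨e.symm ⟨g, hg⟩, by simp [el]⟩

/-- A subgroup given by coordinates. -/
def sub (H : Subgroup (U4 K)) : Subgroup Ω := H.map (S.subtype.comp e.toMonoidHom)

theorem el_mem_sub {H : Subgroup (U4 K)} {a : U4 K} : el e a ∈ sub e H ↔ a ∈ H := by
  constructor
  · rintro ⟨b, hb, h⟩
    rwa [← (el_inj e).1 (h : el e b = el e a)]
  · exact fun h => ⟨a, h, rfl⟩

theorem mem_sub {H : Subgroup (U4 K)} {g : Ω} : g ∈ sub e H ↔ ∃ a ∈ H, el e a = g := Iff.rfl

theorem sub_le (H : Subgroup (U4 K)) : sub e H ≤ S := by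
  rintro _ ⟨a, -, rfl⟩
  exact (e a).2

theorem conj_el (a b : U4 K) : el e a * el e b * (el e a)⁻¹ = el e (a * b * a⁻¹) := by
  rw [el_mul, el_mul, el_inv]

theorem commute_el {a b : U4 K} : el e a * el e b = el e b * el e a ↔ a * b = b * a := by
  rw [← el_mul, ← el_mul, el_inj]

end Frame

/-- The radical with `t = 0`. -/
def rad1 (K : Type*) [Field K] : Subgroup (U4 K) where
  carrier := {a | a.t = 0}
  one_mem' := rfl
  mul_mem' {a b} ha hb := by
    show (a * b).t = 0
    simp [show a.t = 0 from ha, show b.t = 0 from hb]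
  inv_mem' {a} ha := by show a⁻¹.t = 0; simp [show a.t = 0 from ha]

/-- The radical with `u = 0`. -/
def rad2 (K : Type*) [Field K] : Subgroup (U4 K) where
  carrier := {a | a.u = 0}
  one_mem' := rfl
  mul_mem' {a b} ha hb := by
    show (a * b).u = 0
    simp [show a.u = 0 from ha, show b.u = 0 from hb]
  inv_mem' {a} ha := by show a⁻¹.u = 0; simp [show a.u = 0 from ha]

/-- The intersection of the radicals. -/
def mid (K : Type*) [Field K] : Subgroup (U4 K) := rad1 K ⊓ rad2 K

theorem mem_rad1 {a : U4 K} : a ∈ rad1 K ↔ a.t = 0 := Iff.rfl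
theorem mem_rad2 {a : U4 K} : a ∈ rad2 K ↔ a.u = 0 := Iff.rfl
theorem mem_mid {a : U4 K} : a ∈ mid K ↔ a.t = 0 ∧ a.u = 0 := Iff.rfl

variable [CharP K 2]

theorem mid_central {a : U4 K} (ha : a ∈ mid K) (b : U4 K) : a * b = b * a := by
  obtain ⟨ht, hu⟩ := mem_mid.1 ha
  ext <;> simp [ht, hu, CharTwo.two_eq_zero, add_comm]

theorem comm_mem_mid (a b : U4 K) : a * b * a⁻¹ * b⁻¹ ∈ mid K := by
  refine mem_mid.2 ⟨?_, ?_⟩ <;> simp

theorem sq_mem_mid (a : U4 K) : a * a ∈ mid K :=
  mem_mid.2 ⟨by simp [CharTwo.add_self_eq_zero], by simp [CharTwo.add_self_eq_zero]⟩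

theorem sq_mid {a : U4 K} (ha : a ∈ mid K) : a * a = 1 := by
  obtain ⟨ht, hu⟩ := mem_mid.1 ha
  ext <;> simp [ht, hu, CharTwo.two_eq_zero, CharTwo.add_self_eq_zero]

theorem rad1_comm {a b : U4 K} (ha : a ∈ rad1 K) (hb : b ∈ rad1 K) : a * b = b * a := by
  rw [mem_rad1] at ha hb
  ext <;> simp [ha, hb, CharTwo.two_eq_zero, add_comm]

theorem rad2_comm {a b : U4 K} (ha : a ∈ rad2 K) (hb : b ∈ rad2 K) : a * b = b * a := by
  rw [mem_rad2] at ha hb
  ext <;> simp [ha, hb, CharTwo.two_eq_zero, add_comm]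

theorem sq_rad {a : U4 K} (ha : a.t = 0 ∨ a.u = 0) : a * a = 1 := by
  rcases ha with ha | ha <;> ext <;> simp [ha, CharTwo.two_eq_zero, CharTwo.add_self_eq_zero]

theorem t_or_u_of_sq {a : U4 K} (ha : a * a = 1) : a.t = 0 ∨ a.u = 0 := by
  have h := congrArg U4.x ha
  simp only [U4.mul_x, U4.one_x] at h
  rw [← add_assoc, CharTwo.add_self_eq_zero, zero_add] at h
  exact mul_eq_zero.1 h

theorem commute_iff {a b : U4 K} : a * b = b * a ↔
    a.t * b.u = b.t * a.u ∧ a.t * a.t * b.u = b.t * b.t * a.u := by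
  constructor
  · intro h
    have h1 := congrArg U4.x h
    have h2 := congrArg U4.y h
    simp only [U4.mul_x, U4.mul_y, CharTwo.two_eq_zero, zero_mul, add_zero] at h1 h2
    exact ⟨by linear_combination h1, by linear_combination h2⟩
  · rintro ⟨h1, h2⟩
    ext
    · simp [add_comm]
    · simp [add_comm]
    · simp; linear_combination h1
    · simp [CharTwo.two_eq_zero]; linear_combination h2

/-- Commutation is transitive off the middle subgroup. -/
theorem commute_trans {x a b : U4 K} (hx : x ∉ mid K) (ha : x * a = a * x) (hb : x * b = b * x) :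
    a * b = b * a := by
  rw [commute_iff] at ha hb ⊢
  by_cases ht : x.t = 0
  · have hu : x.u ≠ 0 := fun h => hx (mem_mid.2 ⟨ht, h⟩)
    have h1 := ha.1; have h2 := hb.1
    rw [ht, zero_mul, eq_comm, mul_eq_zero, or_iff_left hu] at h1 h2
    simp [h1, h2]
  by_cases hu : x.u = 0
  · have h1 := ha.1; have h2 := hb.1
    rw [hu, mul_zero, mul_eq_zero, or_iff_right ht] at h1 h2
    simp [h1, h2]
  -- both non-zero
  have key : ∀ {c : U4 K}, x.t * c.u = c.t * x.u ∧ x.t * x.t * c.u = c.t * c.t * x.u →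
      (c.t = 0 ∧ c.u = 0) ∨ (c.t = x.t ∧ c.u = x.u) := by
    rintro c ⟨h1, h2⟩
    rcases eq_or_ne c.t 0 with h | h
    · rw [h, zero_mul, mul_eq_zero, or_iff_right ht] at h1
      exact Or.inl ⟨h, h1⟩
    · have h3 : c.t * x.u * x.t = c.t * x.u * c.t := by linear_combination h2 - x.t * h1
      have h4 := mul_left_cancel₀ (mul_ne_zero h hu) h3
      refine Or.inr ⟨h4.symm, mul_left_cancel₀ ht ?_⟩
      rw [h1, ← h4]
  rcases key ha with ⟨p, q⟩ | ⟨p, q⟩ <;> rcases key hb with ⟨p', q'⟩ | ⟨p', q'⟩ <;>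
    simp [p, q, p', q']

variable {F : FusionSystem S}

/-- An essential subgroup in which the middle subgroup is invariant does not exist. -/
theorem false_of_mid_invariant [Finite S] (hS : IsPGroup 2 S) (hF : F.IsSaturated 2)
    (e : U4 K ≃* ↥S) {E : Subgroup Ω} (hE : F.IsEssential 2 E)
    (hinv : ∀ α ∈ F.autGroup E, ∀ x : E, (x : Ω) ∈ sub e (mid K) → (α x : Ω) ∈ sub e (mid K)) :
    False := by
  have : Fact (Nat.Prime 2) := ⟨Nat.prime_two⟩
  have hES := hE.1.1
  haveI : Finite E := finite_of_le hES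
  have := finite_autGroup (F := F) hES
  set z := (sub e (mid K)).subgroupOf E
  have hKp : IsPGroup 2 ((chainStab z).subgroupOf (F.autGroup E)) :=
    (isPGroup_chainStab (hS.to_le hES) _).comap_subtype
  have hTK : autInducedBy S E ≤ chainStab z := fun α hα => by
    obtain ⟨g, hg, hgα⟩ := mem_autInducedBy.1 hα
    obtain ⟨a, rfl⟩ := exists_el e hg
    refine ⟨fun x => ?_, fun x hx => Subtype.ext ?_⟩
    · obtain ⟨b, hb⟩ := exists_el e (hES x.2)
      rw [Subgroup.mem_subgroupOf, Subgroup.coe_mul, Subgroup.coe_inv, hgα x, ← hb, conj_el,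
        ← el_inv, ← el_mul, el_mem_sub]
      have h := comm_mem_mid b⁻¹ a
      rw [inv_inv] at h
      simpa [mul_assoc] using h
    · obtain ⟨b, hb, hbx⟩ := (mem_sub e).1 (Subgroup.mem_subgroupOf.1 hx)
      rw [hgα x, ← hbx, conj_el, ← mid_central hb a, mul_inv_cancel_right]
  obtain ⟨-, R, hR⟩ := isFullyAutomized_of_isFullyNormalized hS hF hE.2.1
  have hKR : (R : Subgroup (F.autGroup E)) = (chainStab z).subgroupOf (F.autGroup E) :=
    (R.3 hKp (hR.le.trans (Subgroup.comap_mono hTK))).symm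
  refine false_of_normal_sylow hE R ?_
  rw [hKR]
  refine ⟨fun k hk a => chainStab_conj (fun y hy => ?_) (fun y hy => ?_) hk⟩
  · exact hinv _ a.2 y hy
  · exact hinv _ ((F.autGroup E).inv_mem a.2) y hy

theorem centralizerIn_el (e : U4 K ≃* ↥S) {E : Subgroup Ω} (hE : F.IsCentric E) {a : U4 K}
    (h : ∀ b : U4 K, el e b ∈ E → a * b = b * a) : el e a ∈ E := by
  refine centralizerIn_le_of_isCentric hE ⟨el_mem e a, fun y hy => ?_⟩
  obtain ⟨b, rfl⟩ := exists_el e (hE.1 hy)
  exact (commute_el e).2 (h b hy).symm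

/-- The essential subgroups are the two radicals. -/
theorem essential_eq [Finite S] (hS : IsPGroup 2 S) (hF : F.IsSaturated 2)
    (e : U4 K ≃* ↥S) {E : Subgroup Ω} (hE : F.IsEssential 2 E) :
    E = sub e (rad1 K) ∨ E = sub e (rad2 K) := by
  have hES := hE.1.1
  have hmid : sub e (mid K) ≤ E := by
    rintro _ ⟨a, ha, rfl⟩
    exact centralizerIn_el e hE.1 fun b _ => mid_central ha b
  by_cases hab : ∀ a b : U4 K, el e a ∈ E → el e b ∈ E → a * b = b * a
  · obtain ⟨x, hxE, hx⟩ : ∃ x : U4 K, el e x ∈ E ∧ x ∉ mid K := by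
      by_contra h
      push Not at h
      have := centralizerIn_el e hE.1 (a := ⟨1, 0, 0, 0⟩) fun b hb => (mid_central (h b hb) _).symm
      exact one_ne_zero (mem_mid.1 (h _ this)).1
    have hC : ∀ a : U4 K, x * a = a * x → el e a ∈ E := fun a ha =>
      centralizerIn_el e hE.1 fun b hb => commute_trans hx ha (hab _ _ hxE hb)
    by_cases ht : x.t = 0
    · have hu : x.u ≠ 0 := fun h => hx (mem_mid.2 ⟨ht, h⟩)
      left
      ext g
      rw [mem_sub]
      refine ⟨fun hg => ?_, ?_⟩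
      · obtain ⟨a, rfl⟩ := exists_el e (hES hg)
        refine ⟨a, ?_, rfl⟩
        have h := (commute_iff.1 (hab _ _ hxE hg)).1
        rw [ht, zero_mul, eq_comm, mul_eq_zero, or_iff_left hu] at h
        exact h
      · rintro ⟨a, ha, rfl⟩
        exact hC a (rad1_comm ht ha)
    by_cases hu : x.u = 0
    · right
      ext g
      rw [mem_sub]
      refine ⟨fun hg => ?_, ?_⟩
      · obtain ⟨a, rfl⟩ := exists_el e (hES hg)
        refine ⟨a, ?_, rfl⟩
        have h := (commute_iff.1 (hab _ _ hxE hg)).1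
        rw [hu, mul_zero, mul_eq_zero, or_iff_right ht] at h
        exact h
      · rintro ⟨a, ha, rfl⟩
        exact hC a (rad2_comm hu ha)
    -- mixed: the involutions of `E` form the middle subgroup
    exfalso
    refine false_of_mid_invariant hS hF e hE fun α hα y hy => ?_
    obtain ⟨b, hb⟩ := exists_el e (hES (α y).2)
    obtain ⟨a, ha, hay⟩ := (mem_sub e).1 hy
    have h2 : α y * α y = 1 := by
      rw [← map_mul, show y * y = 1 from Subtype.ext (by
        show (y : Ω) * y = 1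
        rw [← hay, ← el_mul, sq_mid ha, el_one]), map_one]
    have h3 : b * b = 1 := (el_inj e).1 (by
      rw [el_mul, hb, el_one]; exact congrArg Subtype.val h2)
    have hbE : el e b ∈ E := hb ▸ (α y).2
    have hc := hab _ _ hxE hbE
    rw [← hb, el_mem_sub, mem_mid]
    have h4 := (commute_iff.1 hc).1
    rcases t_or_u_of_sq h3 with h | h
    · refine ⟨h, ?_⟩
      rw [h, zero_mul, mul_eq_zero, or_iff_right ht] at h4
      exact h4
    · refine ⟨?_, h⟩
      rw [h, mul_zero, eq_comm, mul_eq_zero, or_iff_left hu] at h4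
      exact h4
  · -- non-abelian: the middle subgroup is the centre
    exfalso
    refine false_of_mid_invariant hS hF e hE fun α hα y hy => ?_
    obtain ⟨b, hb⟩ := exists_el e (hES (α y).2)
    obtain ⟨a, ha, hay⟩ := (mem_sub e).1 hy
    rw [← hb, el_mem_sub]
    by_contra hbm
    refine hab fun c d hc hd => ?_
    have key : ∀ c : U4 K, el e c ∈ E → b * c = c * b := by
      intro c hc
      refine (commute_el e).1 ?_
      rw [hb]
      obtain ⟨w, hw⟩ := α.surjective ⟨el e c, hc⟩
      obtain ⟨w', hw'⟩ := exists_el e (hES w.2)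
      have h5 : y * w = w * y := Subtype.ext (by
        show (y : Ω) * w = w * y
        rw [← hay, ← hw', commute_el]
        exact mid_central ha _)
      have h6 := congrArg (fun z : E => ((α z : E) : Ω)) h5
      simpa [map_mul, hw] using h6
    exact commute_trans hbm (key c hc) (key d hd)

end Cfsg.Agent.Lib.SpFourExotic
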