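import Cfsg.Agent.Lib.SpFourExotic.Char2

/-!
The automorphism group of an essential radical as a group acting on `K³`.
-/

set_option autoImplicit false

namespace Cfsg.Agent.Lib.SpFourExotic

open Cfsg Cfsg.FusionSystem Cfsg.Agent.Lib.Fusion Cfsg.Agent.Lib.Fusion87

variable {Ω : Type*} [Group Ω] {S : Subgroup Ω} {K : Type*} [Field K] [CharP K 2]

local notation "M" => (K × K × K)

/-- Coordinates of a radical. -/
structure Chart (K : Type*) [Field K] (R : Subgroup (U4 K)) (φ : K → K → K) where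
  /-- the coordinates -/
  j : K × K × K → U4 K
  /-- a complement -/
  par : K → U4 K
  j_add : ∀ m n, j (m + n) = j m * j n
  j_inj : Function.Injective j
  mem_iff : ∀ a, a ∈ R ↔ ∃ m, j m = a
  conj : ∀ s v z c, par s * j (v, z, c) * (par s)⁻¹ = j (v, z + s * v, c + φ s v)
  cover : ∀ a, ∃ m s, a = j m * par s
  ne_zero : ∀ s v : K, s ≠ 0 → v ≠ 0 → φ s v ≠ 0
  unique : ∀ s v s' v' : K, s ≠ 0 → v ≠ 0 → s * v = s' * v' → φ s v = φ s' v' → s = s'
  surj : ∀ z c : K, z ≠ 0 → c ≠ 0 → ∃ s v : K, s * v = z ∧ φ s v = c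

/-- The chart of the first radical. -/
def chart1 : Chart K (rad1 K) (fun s v => s * s * v) where
  j m := ⟨0, m.1, m.2.1, m.2.2⟩
  par s := ⟨s, 0, 0, 0⟩
  j_add m n := by ext <;> simp [CharTwo.two_eq_zero]
  j_inj m n h := by
    simp only [U4.mk.injEq, true_and] at h
    exact Prod.ext h.1 (Prod.ext h.2.1 h.2.2)
  mem_iff a := by
    rw [mem_rad1]
    refine ⟨fun h => ⟨(a.u, a.x, a.y), U4.ext h.symm rfl rfl rfl⟩, ?_⟩
    rintro ⟨m, rfl⟩; rfl
  conj s v z c := by ext <;> simp [CharTwo.two_eq_zero, CharTwo.add_self_eq_zero] <;> ring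
  cover a := ⟨(a.u, a.x, a.y), a.t, by ext <;> simp [CharTwo.two_eq_zero]⟩
  ne_zero s v hs hv := mul_ne_zero (mul_ne_zero hs hs) hv
  unique s v s' v' hs hv h1 h2 := by
    have h3 : s * (s * v) = s' * (s * v) := by linear_combination h2 - s' * h1
    exact mul_right_cancel₀ (mul_ne_zero hs hv) h3
  surj z c hz hc := ⟨c / z, z * z / c, by field_simp, by field_simp⟩

/-- The chart of the second radical. -/
def chart2 : Chart K (rad2 K) (fun s v => v * v * s) where
  j m := ⟨m.1, 0, m.2.1, m.2.2⟩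
  par s := ⟨0, s, 0, 0⟩
  j_add m n := by ext <;> simp [CharTwo.two_eq_zero]
  j_inj m n h := by
    simp only [U4.mk.injEq, true_and] at h
    exact Prod.ext h.1 (Prod.ext h.2.1 h.2.2)
  mem_iff a := by
    rw [mem_rad2]
    refine ⟨fun h => ⟨(a.t, a.x, a.y), U4.ext rfl h.symm rfl rfl⟩, ?_⟩
    rintro ⟨m, rfl⟩; rfl
  conj s v z c := by ext <;> simp [CharTwo.two_eq_zero, CharTwo.neg_eq] <;> grind [CharTwo.two_eq_zero]
  cover a := ⟨(a.t, a.x + a.t * a.u, a.y + a.t * a.t * a.u), a.u, by
    ext <;> simp [CharTwo.two_eq_zero, add_assoc, CharTwo.add_self_eq_zero]⟩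
  ne_zero s v hs hv := mul_ne_zero (mul_ne_zero hv hv) hs
  unique s v s' v' hs hv h1 h2 := by
    have h4 : s * v * v = s * v * v' := by linear_combination h2 - v' * h1
    have h3 : v = v' := mul_left_cancel₀ (mul_ne_zero hs hv) h4
    subst h3
    exact mul_right_cancel₀ hv h1
  surj z c hz hc := ⟨z * z / c, c / z, by field_simp, by field_simp⟩

variable {R : Subgroup (U4 K)} {φ : K → K → K}

/-- The automorphisms of a radical in a system, to act on the coordinates. -/
def Aut' (F : FusionSystem S) (e : U4 K ≃* ↥S) (_ : Chart K R φ) : Type _ :=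
  ↥(F.autGroup (sub e R))

variable {F : FusionSystem S} {e : U4 K ≃* ↥S} {ch : Chart K R φ}

instance : Group (Aut' F e ch) := inferInstanceAs (Group ↥(F.autGroup (sub e R)))

/-- The underlying automorphism. -/
def Aut'.val (g : Aut' F e ch) : MulAut (sub e R) := Subtype.val (g : ↥(F.autGroup (sub e R)))

/-- An automorphism in the system. -/
def Aut'.mk (α : MulAut (sub e R)) (h : α ∈ F.autGroup (sub e R)) : Aut' F e ch :=
  (⟨α, h⟩ : ↥(F.autGroup (sub e R)))

@[simp] theorem Aut'.val_mk (α : MulAut (sub e R)) (h : α ∈ F.autGroup (sub e R)) :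
    (Aut'.mk α h : Aut' F e ch).val = α := rfl

theorem Aut'.val_mul (g h : Aut' F e ch) : (g * h).val = g.val * h.val := rfl
theorem Aut'.val_one : (1 : Aut' F e ch).val = 1 := rfl
theorem Aut'.mem (g : Aut' F e ch) : g.val ∈ F.autGroup (sub e R) :=
  Subtype.prop (g : ↥(F.autGroup (sub e R)))
theorem Aut'.ext {g h : Aut' F e ch} (he : g.val = h.val) : g = h := Subtype.ext he

variable (e ch) in
/-- A vector as an element of the radical. -/
def vec (m : M) : sub e R := ⟨el e (ch.j m), (el_mem_sub e).2 ((ch.mem_iff _).2 ⟨m, rfl⟩)⟩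

theorem vec_add (m n : M) : vec e ch (m + n) = vec e ch m * vec e ch n :=
  Subtype.ext (by simp [vec, ch.j_add, el_mul])

theorem vec_bijective : Function.Bijective (vec e ch) := by
  refine ⟨fun m n h => ch.j_inj ((el_inj e).1 (congrArg Subtype.val h :)), fun x => ?_⟩
  obtain ⟨a, ha, hx⟩ := (mem_sub e).1 x.2
  obtain ⟨m, rfl⟩ := (ch.mem_iff a).1 ha
  exact ⟨m, Subtype.ext hx⟩

variable (e ch) in
/-- The coordinates of an element of the radical. -/
noncomputable def coord : sub e R → M := (Equiv.ofBijective _ (vec_bijective (e := e) (ch := ch))).symm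

theorem vec_coord (x : sub e R) : vec e ch (coord e ch x) = x :=
  (Equiv.ofBijective _ (vec_bijective (e := e) (ch := ch))).apply_symm_apply x

theorem coord_vec (m : M) : coord e ch (vec e ch m) = m :=
  vec_bijective.1 (vec_coord _)

theorem coord_mul (x y : sub e R) : coord e ch (x * y) = coord e ch x + coord e ch y :=
  vec_bijective.1 (by rw [vec_add, vec_coord, vec_coord, vec_coord] : vec e ch _ = vec e ch _)

noncomputable instance : SMul (Aut' F e ch) M := ⟨fun g m => coord e ch (g.val (vec e ch m))⟩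

theorem smul_def (g : Aut' F e ch) (m : M) : g • m = coord e ch (g.val (vec e ch m)) := rfl

theorem vec_smul (g : Aut' F e ch) (m : M) : vec e ch (g • m) = g.val (vec e ch m) := vec_coord _

noncomputable instance : DistribMulAction (Aut' F e ch) M where
  one_smul m := coord_vec m
  mul_smul g h m := by simp only [smul_def, Aut'.val_mul, MulAut.mul_apply, vec_coord]
  smul_add g m n := by simp only [smul_def, vec_add, map_mul, coord_mul]
  smul_zero g := by
    have h1 := coord_mul (e := e) (ch := ch) 1 1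
    rw [mul_one, left_eq_add] at h1
    have h2 : vec e ch 0 = 1 := by rw [← h1, vec_coord]
    show coord e ch (g.val (vec e ch 0)) = 0
    rw [h2, map_one, h1]

instance [Finite S] : Finite (Aut' F e ch) := finite_autGroup (F := F) (sub_le e R)

/-- An element of the radical under a chosen conjugation. -/
theorem sub_conj_mem (ch : Chart K R φ) (a : U4 K) {x : Ω} (hx : x ∈ sub e R) :
    el e a * x * (el e a)⁻¹ ∈ sub e R := by
  obtain ⟨b, hb, rfl⟩ := (mem_sub e).1 hx
  obtain ⟨⟨v, z, c⟩, rfl⟩ := (ch.mem_iff b).1 hb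
  obtain ⟨n, s, rfl⟩ := ch.cover a
  rw [conj_el, el_mem_sub, ch.mem_iff, show ch.j n * ch.par s * ch.j (v, z, c) * (ch.j n * ch.par s)⁻¹ =
    ch.j n * (ch.par s * ch.j (v, z, c) * (ch.par s)⁻¹) * (ch.j n)⁻¹ by group, ch.conj, ← ch.j_add,
    add_comm, ch.j_add, mul_inv_cancel_right]
  exact ⟨_, rfl⟩

variable [Finite S]

theorem normalizerIn_sub (ch : Chart K R φ) : normalizerIn S (sub e R) = S := by
  refine le_antisymm inf_le_left fun g hg => ⟨hg, ?_⟩
  obtain ⟨a, rfl⟩ := exists_el e hg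
  exact Subgroup.mem_normalizer_iff.2 fun x => ⟨sub_conj_mem ch a, fun hx => by
    have := sub_conj_mem ch a⁻¹ hx
    rw [el_inv] at this
    simpa [mul_assoc] using this⟩

theorem mem_normalizer_sub (ch : Chart K R φ) (a : U4 K) :
    el e a ∈ Subgroup.normalizer (sub e R : Set Ω) := by
  have h : el e a ∈ normalizerIn S (sub e R) := by
    rw [normalizerIn_sub ch]; exact el_mem e a
  exact h.2

variable (F e ch) in
/-- Conjugation by an element. -/
def cj (a : U4 K) : Aut' F e ch :=
  Aut'.mk (conjAut (sub e R) (el e a) (mem_normalizer_sub ch a))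
    (autInducedBy_le_autGroup (sub_le e R) (mem_autInducedBy.2 ⟨el e a, el_mem e a, fun x => rfl⟩))

theorem cj_smul (a : U4 K) (m : M) :
    el e (ch.j (cj F e ch a • m)) = el e a * el e (ch.j m) * (el e a)⁻¹ :=
  congrArg Subtype.val (vec_smul (cj F e ch a) m)

theorem cj_par (s v z c : K) : cj F e ch (ch.par s) • ((v, z, c) : M) = (v, z + s * v, c + φ s v) := by
  refine ch.j_inj ((el_inj e).1 ?_)
  rw [cj_smul, conj_el, ch.conj]

theorem faith' (g : Aut' F e ch) (h : ∀ m : M, g • m = m) : g = 1 := by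
  refine Aut'.ext (MulEquiv.ext fun x => ?_)
  obtain ⟨m, rfl⟩ := (vec_bijective (e := e) (ch := ch)).2 x
  rw [← vec_smul, h]
  rfl

variable (F e ch) in
/-- The subgroup induced by `S`. -/
def inner : Subgroup (Aut' F e ch) :=
  ((autInducedBy S (sub e R)).subgroupOf (F.autGroup (sub e R)) : Subgroup ↥(F.autGroup (sub e R)))

theorem mem_inner {g : Aut' F e ch} : g ∈ inner F e ch ↔ ∃ s, cj F e ch (ch.par s) = g := by
  constructor
  · intro hg
    obtain ⟨x, hx, hxg⟩ := mem_autInducedBy.1 (Subgroup.mem_subgroupOf.1 hg)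
    obtain ⟨a, rfl⟩ := exists_el e hx
    obtain ⟨n, s, rfl⟩ := ch.cover a
    refine ⟨s, Aut'.ext (MulEquiv.ext fun y => Subtype.ext ?_)⟩
    refine Eq.trans ?_ (hxg y).symm
    obtain ⟨⟨v, z, c⟩, rfl⟩ := (vec_bijective (e := e) (ch := ch)).2 y
    show el e (ch.par s) * el e (ch.j (v, z, c)) * (el e (ch.par s))⁻¹ =
      el e (ch.j n * ch.par s) * el e (ch.j (v, z, c)) * (el e (ch.j n * ch.par s))⁻¹
    rw [conj_el, conj_el, show ch.j n * ch.par s * ch.j (v, z, c) * (ch.j n * ch.par s)⁻¹ =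
      ch.j n * (ch.par s * ch.j (v, z, c) * (ch.par s)⁻¹) * (ch.j n)⁻¹ by group, ch.conj,
      ← ch.j_add, add_comm n, ch.j_add, mul_inv_cancel_right]
  · rintro ⟨s, rfl⟩
    exact mem_autInducedBy.2 ⟨el e (ch.par s), el_mem e _, fun x => rfl⟩

theorem exists_sylow_inner (hS : IsPGroup 2 S) (hF : F.IsSaturated 2) :
    ∃ P : Sylow 2 (Aut' F e ch), (P : Subgroup (Aut' F e ch)) = inner F e ch := by
  have : Fact (Nat.Prime 2) := ⟨Nat.prime_two⟩
  have hn : F.IsFullyNormalized (sub e R) := ⟨sub_le e R, fun Q _ => by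
    rw [normalizerIn_sub ch]
    exact Subgroup.card_le_of_le (normalizerIn_le Q)⟩
  obtain ⟨-, P, hP⟩ := isFullyAutomized_of_isFullyNormalized hS hF hn
  exact ⟨P, hP⟩

/-- The setting of an essential radical. -/
noncomputable def setting (hS : IsPGroup 2 S) (hF : F.IsSaturated 2)
    (hE : F.IsEssential 2 (sub e R)) : Setting (Aut' F e ch) φ where
  tr s := cj F e ch (ch.par s)
  P := (exists_sylow_inner (ch := ch) hS hF).choose
  range_tr := by
    rw [(exists_sylow_inner (ch := ch) hS hF).choose_spec]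
    ext g
    exact mem_inner.symm
  smul_tr s v z c := cj_par s v z c
  not_normal h := false_of_normal_sylow hE (exists_sylow_inner (ch := ch) hS hF).choose h
  ne_zero := ch.ne_zero
  unique := ch.unique
  surj := ch.surj
  faith := faith'

end Cfsg.Agent.Lib.SpFourExotic
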