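import Mathlib

/-!
A central extension `π : S → R` of a subgroup of index prime to `p` extends to the whole group
when the transported extensions agree on the double coset representatives (stable classes).
-/

set_option autoImplicit false

namespace Cfsg.Agent.Lib.SpFourExotic.Extension

open MulAction

universe u v

variable {S : Type u} [Group S] [Finite S] {H : Type v} [Group H] [Finite H] (π : S →* H)

/-- The part of `S` whose image is moved into the image by `g`. -/
def dom (g : H) : Subgroup S where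
  carrier := {σ | g⁻¹ * π σ * g ∈ π.range}
  one_mem' := ⟨1, by simp⟩
  mul_mem' {a b} ha hb := by
    show g⁻¹ * π (a * b) * g ∈ π.range
    rw [map_mul, show g⁻¹ * (π a * π b) * g = g⁻¹ * π a * g * (g⁻¹ * π b * g) by group]
    exact mul_mem ha hb
  inv_mem' {a} ha := by
    show g⁻¹ * π a⁻¹ * g ∈ π.range
    rw [map_inv, show g⁻¹ * (π a)⁻¹ * g = (g⁻¹ * π a * g)⁻¹ by group]
    exact inv_mem ha

theorem ker_le_dom (g : H) : π.ker ≤ dom π g := fun c hc => by
  show g⁻¹ * π c * g ∈ π.range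
  simp [MonoidHom.mem_ker.1 hc]

variable (χ : H →* MulAut π.ker)

/-- A transported extension at `g`. -/
def Good (g : H) : Prop :=
  ∃ θ : dom π g →* S, (∀ σ, π (θ σ) = g⁻¹ * π σ * g) ∧
    ∀ c : π.ker, θ ⟨c, ker_le_dom π g c.2⟩ = (χ g⁻¹ c : S)

/-- Permuting coordinates. -/
def act (X : Type*) [MulAction H X] : H →* MulAut (X → S) where
  toFun g :=
    { toFun := fun f y => f (g⁻¹ • y)
      invFun := fun f y => f (g • y)
      left_inv := fun f => by ext y; simp
      right_inv := fun f => by ext y; simp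
      map_mul' := fun a b => rfl }
  map_one' := by ext f y; simp
  map_mul' a b := by ext f y; simp [mul_smul]

/-- The extension of the whole group. -/
theorem exists_extension {p : ℕ} [Fact p.Prime] (hS : IsPGroup p S)
    (hC : ∀ c ∈ π.ker, ∀ s : S, c * s = s * c) (hidx : ¬ p ∣ π.range.index)
    (hχ : ∀ h ∈ π.range, χ h = 1)
    (hθ : ∀ x : H, ∃ g : H, (∃ a ∈ π.range, ∃ b ∈ π.range, g = a * x * b) ∧ Good π χ g) :
    ∃ (E : Type (max u v)) (_ : Group E) (_ : Finite E) (ρ : E →* H) (ι : S →* E),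
      Function.Injective ι ∧ Function.Surjective ρ ∧ (∀ s, ρ (ι s) = π s) ∧
      (∀ e, ρ e = 1 → ∃ c : π.ker, e = ι c) ∧ (∃ T : Sylow p E, (T : Subgroup E) = ι.range) ∧
      ∀ (e : E) (c : π.ker), e * ι c * e⁻¹ = ι (χ (ρ e) c : S) := by
  classical
  let R := π.range
  let X := H ⧸ R
  letI : MulAction S X := MulAction.compHom X π
  have hsmul : ∀ (s : S) (y : X), s • y = π s • y := fun s y => rfl
  letI := Fintype.ofFinite X
  letI : CommGroup π.ker :=
    { (inferInstance : Group π.ker) with mul_comm := fun a b => Subtype.ext (hC a a.2 b) }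
  let O := orbitRel.Quotient S X
  let o : X → O := fun y => Quotient.mk'' y
  -- representatives
  have hrep : ∀ ω : O, ∃ g : H, o (g : X) = ω ∧ Good π χ g := by
    intro ω
    obtain ⟨x, hx⟩ := QuotientGroup.mk_surjective ω.out
    obtain ⟨g, ⟨a, ⟨s, hs⟩, b, hb, rfl⟩, hg⟩ := hθ x
    refine ⟨_, ?_, hg⟩
    rw [← Quotient.out_eq' ω]
    refine Quotient.sound (orbitRel_apply.2 ⟨s, ?_⟩)
    show π s • ω.out = _
    rw [hs, ← hx, Quotient.smul_coe, smul_eq_mul, eq_comm, QuotientGroup.eq]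
    rw [show (a * x * b)⁻¹ * (a * x) = b⁻¹ by group]
    exact inv_mem hb
  choose g hgo θ hθπ hθc using hrep
  have hk : ∀ y : X, ∃ k : S, k • (g (o y) : X) = y := fun y =>
    orbitRel_apply.1 (Quotient.exact (hgo (o y)).symm)
  choose k hk using hk
  let r : X → H := fun y => π (k y) * g (o y)
  have hr : ∀ y, (r y : X) = y := fun y => by
    conv_rhs => rw [← hk y, hsmul, Quotient.smul_coe, smul_eq_mul]
  have ho : ∀ (s : S) (y : X), o (s • y) = o y := fun s y =>
    Quotient.sound (orbitRel_apply.2 ⟨s, rfl⟩)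
  have hσ : ∀ (s : S) (y : X), (k (s • y))⁻¹ * s * k y ∈ dom π (g (o y)) := by
    intro s y
    show _ ∈ π.range
    have h : ((π s * r y : H) : X) = (r (s • y) : X) := by
      rw [hr, ← smul_eq_mul, ← Quotient.smul_coe, hr, hsmul]
    rw [eq_comm, QuotientGroup.eq] at h
    convert h using 1
    simp only [r, ho, map_mul, map_inv]
    group
  -- the large extension
  let A := SemidirectProduct (X → S) H (act X)
  let E0 : Subgroup A :=
    { carrier := {e | ∀ y, π (e.left y) = (r y)⁻¹ * e.right * r (e.right⁻¹ • y)}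
      one_mem' := fun y => by simp
      mul_mem' := fun {a b} ha hb y => by
        show π (a.left y * b.left (a.right⁻¹ • y)) = _
        rw [map_mul, ha, hb, SemidirectProduct.mul_right,
          show (a.right * b.right)⁻¹ • y = b.right⁻¹ • a.right⁻¹ • y by rw [mul_inv_rev, mul_smul]]
        group
      inv_mem' := fun {a} ha y => by
        show π ((a.left (a.right⁻¹⁻¹ • y))⁻¹) = _
        rw [map_inv, ha, inv_inv, inv_smul_smul, SemidirectProduct.inv_right, inv_inv]
        group }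
  let Φ : (X → π.ker) →* π.ker :=
    { toFun := fun c => ∏ y, χ (r y) (c y)
      map_one' := Finset.prod_eq_one fun y _ => map_one _
      map_mul' := fun c d => by
        rw [← Finset.prod_mul_distrib]; exact Finset.prod_congr rfl fun y _ => map_mul _ _ _ }
  let N : Subgroup E0 :=
    { carrier := {e | ∃ c : X → π.ker, Φ c = 1 ∧ (e : A).left = (fun y => (c y : S)) ∧ (e : A).right = 1}
      one_mem' := ⟨1, map_one _, rfl, rfl⟩
      mul_mem' := by
        rintro a b ⟨c, hc, hcl, hcr⟩ ⟨d, hd, hdl, hdr⟩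
        refine ⟨c * d, by rw [map_mul, hc, hd, one_mul], ?_,
          show (a : A).right * (b : A).right = 1 by rw [hcr, hdr, one_mul]⟩
        funext y
        show (a : A).left y * (b : A).left ((a : A).right⁻¹ • y) = _
        rw [hcr, inv_one, one_smul, hcl, hdl]
        rfl
      inv_mem' := by
        rintro a ⟨c, hc, hcl, hcr⟩
        refine ⟨c⁻¹, by rw [map_inv, hc, inv_one], ?_,
          show (a : A).right⁻¹ = 1 by rw [hcr, inv_one]⟩
        funext y
        show ((a : A).left ((a : A).right⁻¹⁻¹ • y))⁻¹ = _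
        rw [hcr, inv_one, inv_one, one_smul, hcl]
        rfl }
  have hrt : ∀ (h : H) (z : X), χ (r (h • z)) = χ (h * r z) := by
    intro h z
    have e1 : ((h * r z : H) : X) = (r (h • z) : X) := by
      rw [hr, ← smul_eq_mul, ← Quotient.smul_coe, hr]
    rw [QuotientGroup.eq] at e1
    calc χ (r (h • z)) = χ (h * r z * ((h * r z)⁻¹ * r (h • z))) := by rw [mul_inv_cancel_left]
      _ = _ := by rw [map_mul _ (h * r z), hχ _ e1, mul_one]
  -- conjugation of the kernel
  have hconj : ∀ (e : E0) (c : X → π.ker) (n : E0), (n : A).left = (fun y => (c y : S)) →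
      (n : A).right = 1 →
      ((e * n * e⁻¹ : E0) : A).left = (fun y => (c ((e : A).right⁻¹ • y) : S)) ∧
        ((e * n * e⁻¹ : E0) : A).right = 1 := by
    intro e c n hl hr'
    refine ⟨funext fun y => ?_,
      show (e : A).right * (n : A).right * (e : A).right⁻¹ = 1 by rw [hr', mul_one, mul_inv_cancel]⟩
    show (e : A).left y * (n : A).left ((e : A).right⁻¹ • y) *
      ((e : A).left ((e : A).right⁻¹⁻¹ • ((e : A).right * (n : A).right)⁻¹ • y))⁻¹ = _
    rw [hr', mul_one, inv_inv, smul_inv_smul, hl, ← hC _ (c _).2, mul_inv_cancel_right]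
  have hΦc : ∀ (h : H) (c : X → π.ker), Φ (fun y => c (h⁻¹ • y)) = χ h (Φ c) := by
    intro h c
    show ∏ y, χ (r y) (c (h⁻¹ • y)) = χ h (∏ y, χ (r y) (c y))
    rw [← Equiv.prod_comp (MulAction.toPerm h) (fun y => χ (r y) (c (h⁻¹ • y))), map_prod]
    refine Finset.prod_congr rfl fun y _ => ?_
    simp only [MulAction.toPerm_apply, inv_smul_smul, hrt, map_mul]
    rfl
  have hN : N.Normal := by
    refine ⟨fun n hn e => ?_⟩
    obtain ⟨c, hc, hcl, hcr⟩ := hn
    exact ⟨_, by rw [hΦc, hc, map_one], (hconj e c n hcl hcr).1, (hconj e c n hcl hcr).2⟩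
  have : Finite E0 := Finite.of_injective (fun e => ((e : A).left, (e : A).right)) fun a b h =>
    Subtype.ext (SemidirectProduct.ext (congrArg Prod.fst h) (congrArg Prod.snd h))
  let ρ0 : E0 →* H := SemidirectProduct.rightHom.comp E0.subtype
  let ρ : E0 ⧸ N →* H := QuotientGroup.lift N ρ0 (by
    intro n hn
    obtain ⟨c, -, -, hr'⟩ := hn
    exact hr')
  let ι0 : S →* E0 := MonoidHom.mk'
    (fun s => ⟨⟨fun y => θ (o y) ⟨(k y)⁻¹ * s * k (s⁻¹ • y), by
        have := hσ s (s⁻¹ • y)
        rwa [smul_inv_smul, ho] at this⟩, π s⟩, fun y => by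
      show π (θ (o y) _) = (r y)⁻¹ * π s * r ((π s)⁻¹ • y)
      have e1 : (π s)⁻¹ • y = s⁻¹ • y := by rw [hsmul, map_inv]
      rw [hθπ, e1]
      simp only [r, ho, map_mul, map_inv]
      group⟩)
    (fun s t => by
      apply Subtype.ext
      refine SemidirectProduct.ext (funext fun y => ?_) (map_mul π s t)
      show θ (o y) _ = θ (o y) _ * θ (o ((π s)⁻¹ • y)) _
      have e1 : (π s)⁻¹ • y = s⁻¹ • y := by rw [hsmul, map_inv]
      obtain ⟨z, hz⟩ : ∃ z, z = (π s)⁻¹ • y := ⟨_, rfl⟩
      have hoz : o z = o y := by rw [hz, e1, ho]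
      have key : ∀ (ω : O) (_ : ω = o y) (m : dom π (g ω)) (a b : S) (ha : a ∈ dom π (g (o y)))
          (hb : (m : S) = b), θ (o y) ⟨a, ha⟩ * θ ω m =
            θ (o y) ⟨a, ha⟩ * θ (o y) ⟨b, by subst_vars; exact m.2⟩ := by
        rintro ω rfl m a b ha rfl; rfl
      rw [key (o ((π s)⁻¹ • y)) (by rw [← hz, hoz]) _ _ ((k (s⁻¹ • y))⁻¹ * t * k ((s * t)⁻¹ • y))
        _ (by rw [e1, mul_inv_rev, mul_smul]), ← map_mul]
      congr 1
      apply Subtype.ext
      show _ = _ * _
      group)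
  let ι : S →* E0 ⧸ N := (QuotientGroup.mk' N).comp ι0
  let m := Fintype.card X
  have hm : ¬ p ∣ m := by
    rw [show m = R.index from (Nat.card_eq_fintype_card (α := X)).symm]; exact hidx
  have hcop : (Nat.card π.ker).Coprime m := by
    obtain ⟨j, hj⟩ := (IsPGroup.iff_card).1 (hS.to_subgroup π.ker)
    rw [hj]
    exact ((Nat.Prime.coprime_iff_not_dvd Fact.out).2 hm).pow_left _
  -- the kernel elements of the copy of `S`
  have hιc : ∀ c : π.ker, ∃ d : X → π.ker, Φ d = c ^ m ∧
      (ι0 c : A).left = (fun y => (d y : S)) ∧ (ι0 c : A).right = 1 := by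
    intro c
    refine ⟨fun y => χ (g (o y))⁻¹ c, ?_, funext fun y => ?_, c.2⟩
    · show ∏ y, χ (r y) (χ (g (o y))⁻¹ c) = _
      rw [Finset.prod_congr rfl (g := fun _ => c) fun y _ => by
        rw [← MulAut.mul_apply, ← map_mul, show r y * (g (o y))⁻¹ = π (k y) by simp [r],
          hχ _ ⟨k y, rfl⟩]; rfl]
      simp [m]
    · show θ (o y) _ = _
      rw [← hθc]
      congr 1
      apply Subtype.ext
      show (k y)⁻¹ * (c : S) * k ((c : S)⁻¹ • y) = c
      have e1 : (c : S)⁻¹ • y = y := by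
        rw [hsmul, map_inv, show π (c : S) = 1 from c.2, inv_one, one_smul]
      rw [e1, mul_assoc, hC _ c.2, inv_mul_cancel_left]
  have hρι : ∀ s, ρ (ι s) = π s := fun s => rfl
  have hker : ∀ (e : E0) (c : X → π.ker), (e : A).left = (fun y => (c y : S)) → (e : A).right = 1 →
      ∀ a : π.ker, a ^ m = Φ c → (QuotientGroup.mk' N) e = ι a := by
    intro e c hl hr' a ha
    obtain ⟨d, hd, hdl, hdr⟩ := hιc a
    refine QuotientGroup.eq.2 ⟨c⁻¹ * d, by rw [map_mul, map_inv, hd, ha, inv_mul_cancel], ?_, ?_⟩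
    · funext y
      show ((e : A).left ((e : A).right⁻¹⁻¹ • y))⁻¹ * (ι0 a : A).left ((e : A).right⁻¹⁻¹ • y) = _
      rw [hr', inv_one, inv_one, one_smul, hl, hdl]
      rfl
    · show (e : A).right⁻¹ * (ι0 a : A).right = 1
      rw [hr', hdr, inv_one, one_mul]
  have hinj : Function.Injective ι := by
    refine (injective_iff_map_eq_one _).2 fun s hs => ?_
    have h1 : π s = 1 := by rw [← hρι, hs, map_one]
    obtain ⟨d, hd, hdl, -⟩ := hιc ⟨s, h1⟩
    obtain ⟨c, hc, hcl, -⟩ := (QuotientGroup.eq_one_iff _).1 hs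
    have h2 : c = d := funext fun y => Subtype.ext (congrFun (hcl.symm.trans hdl) y)
    rw [← h2, hc] at hd
    exact congrArg Subtype.val
      ((powCoprime hcop).injective (a₁ := (⟨s, h1⟩ : π.ker)) (a₂ := 1) (by simpa using hd.symm))
  have hsurj : Function.Surjective ρ := by
    intro h
    have hf : ∀ y : X, (r y)⁻¹ * h * r (h⁻¹ • y) ∈ π.range := by
      intro y
      rw [mul_assoc, ← QuotientGroup.eq, hr, ← smul_eq_mul, ← Quotient.smul_coe, hr, smul_inv_smul]
    choose f hf using hf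
    exact ⟨QuotientGroup.mk' N ⟨⟨f, h⟩, hf⟩, rfl⟩
  have hkerρ : ∀ e, ρ e = 1 → ∃ c : π.ker, e = ι c := by
    intro e he
    obtain ⟨e, rfl⟩ := QuotientGroup.mk'_surjective N e
    change (e : A).right = 1 at he
    have h1 : ∀ y, (e : A).left y ∈ π.ker := fun y => by
      rw [MonoidHom.mem_ker, e.2 y, he, inv_one, one_smul, mul_one, inv_mul_cancel]
    obtain ⟨a, ha⟩ := (powCoprime hcop).surjective (Φ fun y => ⟨_, h1 y⟩)
    exact ⟨a, hker e (fun y => ⟨_, h1 y⟩) rfl he a ha⟩
  have hrange : ι.range = R.comap ρ := by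
    ext e
    constructor
    · rintro ⟨s, rfl⟩; exact ⟨s, rfl⟩
    · rintro ⟨s, hs⟩
      obtain ⟨c, hc⟩ := hkerρ ((ι s)⁻¹ * e) (by rw [map_mul, map_inv, hρι, hs, inv_mul_cancel])
      exact ⟨s * c, by rw [map_mul, ← hc, mul_inv_cancel_left]⟩
  refine ⟨E0 ⧸ N, inferInstance, inferInstance, ρ, ι, hinj, hsurj, hρι, hkerρ,
    ⟨(show IsPGroup p ι.range from hS.of_surjective ι.rangeRestrict ι.rangeRestrict_surjective).toSylow
      (by rw [hrange, Subgroup.index_comap_of_surjective _ hsurj]; exact hidx), rfl⟩, ?_⟩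
  intro e c
  obtain ⟨e, rfl⟩ := QuotientGroup.mk'_surjective N e
  obtain ⟨d, hd, hdl, hdr⟩ := hιc c
  show QuotientGroup.mk' N e * QuotientGroup.mk' N (ι0 c) * (QuotientGroup.mk' N e)⁻¹ = _
  rw [← map_inv, ← map_mul, ← map_mul]
  obtain ⟨hl, hr'⟩ := hconj e d (ι0 c) hdl hdr
  exact hker _ _ hl hr' _ (by rw [← map_pow, ← hd, hΦc]; rfl)

end Cfsg.Agent.Lib.SpFourExotic.Extension
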