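import Cfsg.Agent.Lib.SpFourExotic.Model
import Cfsg.Agent.Lib.SpFourExotic.Extension
import Cfsg.Agent.Lib.GLFlags.Bruhat
import Cfsg.Agent.Lib.PSLAut.Sylow

/-!
The quotient of `U4` by the long root group inside `GL₃`, and the lifts needed for the extension.
-/

set_option autoImplicit false

namespace Cfsg.Agent.Lib.SpFourExotic

open Matrix Cfsg.Agent.Lib.GLFlags Cfsg.Agent.Lib.PSLAut
open scoped MatrixGroups

variable {K : Type*} [Field K] [CharP K 2] (l1 l2 : K →+ K)

/-- The shifted middle coordinate. -/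
def shift (a : U4 K) : K := a.x + l1 a.u + l2 a.t

/-- The unitriangular matrix of an element. -/
def uT : U4 K →* Matrix (Fin 3) (Fin 3) K where
  toFun a := !![1, a.t, shift l1 l2 a; 0, 1, a.u; 0, 0, 1]
  map_one' := by ext i j; fin_cases i <;> fin_cases j <;> simp [shift]
  map_mul' a b := by
    ext i j
    fin_cases i <;> fin_cases j <;> simp [shift, Matrix.mul_apply, Fin.sum_univ_three] <;> ring

/-- The projection into `GL₃`. -/
def uG : U4 K →* GL (Fin 3) K := (uT l1 l2).toHomUnits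

theorem uG_val (a : U4 K) :
    (uG l1 l2 a).val = !![1, a.t, shift l1 l2 a; 0, 1, a.u; 0, 0, 1] := rfl

theorem mem_ker_uG {a : U4 K} : a ∈ (uG l1 l2).ker ↔ a.t = 0 ∧ a.u = 0 ∧ a.x = 0 := by
  rw [MonoidHom.mem_ker, Units.ext_iff, uG_val, Units.val_one]
  constructor
  · intro h
    have e1 := congrFun (congrFun h 0) 1
    have e2 := congrFun (congrFun h 1) 2
    have e3 := congrFun (congrFun h 0) 2
    simp at e1 e2 e3
    simp [shift, e1, e2] at e3
    exact ⟨e1, e2, e3⟩
  · rintro ⟨h1, h2, h3⟩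
    ext i j
    fin_cases i <;> fin_cases j <;> simp [shift, h1, h2, h3]

variable [Fintype K]

theorem uG_range : (uG l1 l2).range = unitriGL 3 K := by
  ext g
  rw [mem_unitriGL]
  constructor
  · rintro ⟨a, rfl⟩
    rw [uG_val]
    refine ⟨fun i => by fin_cases i <;> simp, fun i j hij => ?_⟩
    fin_cases i <;> fin_cases j <;> first | exact absurd hij (by decide) | simp
  · rintro ⟨hd, hl⟩
    refine ⟨⟨g.val 0 1, g.val 1 2, g.val 0 2 - l1 (g.val 1 2) - l2 (g.val 0 1), 0⟩, Units.ext ?_⟩
    rw [uG_val]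
    ext i j
    fin_cases i <;> fin_cases j <;> simp [shift, hd]
    all_goals first
      | exact (hl 1 0 (by decide)).symm
      | exact (hl 2 0 (by decide)).symm
      | exact (hl 2 1 (by decide)).symm
      | ring

/-- A diagonal element. -/
def dG (d : Fin 3 → Kˣ) : GL (Fin 3) K where
  val := Matrix.diagonal fun i => (d i : K)
  inv := Matrix.diagonal fun i => ((d i)⁻¹ : Kˣ)
  val_inv := by simp [Matrix.diagonal_mul_diagonal]
  inv_val := by simp [Matrix.diagonal_mul_diagonal]

omit [CharP K 2] [Fintype K] in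
theorem det_dG (d : Fin 3 → Kˣ) : (dG d).val.det = d 0 * d 1 * d 2 := by
  simp [dG, Fin.prod_univ_three]

omit [Fintype K] in
theorem det_permGL (w : Equiv.Perm (Fin 3)) : (permGL w : GL (Fin 3) K).val.det = 1 := by
  have h2 : (-1 : K) = 1 := CharTwo.neg_eq 1
  have h : (permGL w : GL (Fin 3) K).val = (w⁻¹).permMatrix K := by
    ext i j
    rw [permGL_apply]
    simp [Equiv.Perm.permMatrix, PEquiv.toMatrix_apply]
    congr 1
    rw [Equiv.symm_apply_eq]
  rw [h, Matrix.det_permutation]
  rcases Int.units_eq_one_or (Equiv.Perm.sign w⁻¹) with h' | h' <;> simp [h', h2]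

/-- Every double coset of the unitriangular group contains a monomial element. -/
theorem exists_monomial (g : GL (Fin 3) K) :
    ∃ (w : Equiv.Perm (Fin 3)) (d : Fin 3 → Kˣ), ∃ a ∈ unitriGL 3 K, ∃ b ∈ unitriGL 3 K,
      permGL w * dG d = a * g * b := by
  obtain ⟨w, b, hb, b', hb', rfl⟩ := exists_bruhat g
  rw [mem_upperTriangularGL_iff] at hb hb'
  have split : ∀ c : GL (Fin 3) K, (∀ i j : Fin 3, j < i → c.val i j = 0) →
      ∃ d : Fin 3 → Kˣ, c * (dG d)⁻¹ ∈ unitriGL 3 K ∧ (dG d)⁻¹ * c ∈ unitriGL 3 K := by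
    intro c hc
    have hne : ∀ i, c.val i i ≠ 0 := by
      intro i hi
      have hdet := (c.isUnit.map (Matrix.detMonoidHom (n := Fin 3) (R := K))).ne_zero
      refine hdet ?_
      show c.val.det = 0
      rw [Matrix.det_of_upperTriangular (show c.val.BlockTriangular id from fun i j h => hc i j h)]
      exact Finset.prod_eq_zero (Finset.mem_univ i) hi
    refine ⟨fun i => Units.mk0 _ (hne i), ?_⟩
    constructor <;> rw [mem_unitriGL] <;> refine ⟨fun i => ?_, fun i j hij => ?_⟩ <;>
      simp [dG, Matrix.mul_diagonal, Matrix.diagonal_mul, hne, hc i]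
    all_goals first | exact Or.inl (hc i j hij) | exact hc i j hij
  obtain ⟨d, hd, -⟩ := split b hb
  obtain ⟨d', -, hd'⟩ := split b' hb'
  refine ⟨w, fun j => d (w j) * d' j, _, inv_mem hd, _, inv_mem hd', ?_⟩
  have h : (dG d : GL (Fin 3) K) * permGL w * dG d' = permGL w * dG fun j => d (w j) * d' j := by
    refine Units.ext ?_
    ext i j
    simp [dG, Units.val_mul, Matrix.mul_diagonal, Matrix.diagonal_mul, permGL_apply]
    split_ifs with h
    · rw [h]
    · rfl
  rw [← h]
  group

open Extension in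
/-- Lifts compose along lengths adding up. -/
theorem Good.mul' {S H : Type*} [Group S] [Finite S] [Group H] [Finite H] {π : S →* H}
    {χ : H →* MulAut π.ker} {a b : H} (ha : Extension.Good π χ a) (hb : Extension.Good π χ b)
    (hle : dom π (a * b) ≤ dom π a) : Extension.Good π χ (a * b) := by
  obtain ⟨θa, ha1, ha2⟩ := ha
  obtain ⟨θb, hb1, hb2⟩ := hb
  have hin : ∀ σ : dom π (a * b), θa ⟨σ, hle σ.2⟩ ∈ dom π b := fun σ => by
    show b⁻¹ * π (θa _) * b ∈ π.range
    rw [ha1]
    have := σ.2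
    change (a * b)⁻¹ * π σ * (a * b) ∈ π.range at this
    convert this using 1
    group
  refine ⟨θb.comp ((θa.comp (Subgroup.inclusion hle)).codRestrict (dom π b) hin), fun σ => ?_,
    fun c => ?_⟩
  · rw [MonoidHom.comp_apply, hb1]
    show b⁻¹ * π (θa ⟨σ, hle σ.2⟩) * b = _
    rw [ha1]
    group
  · rw [MonoidHom.comp_apply]
    have e : ((θa.comp (Subgroup.inclusion hle)).codRestrict (dom π b) hin)
        ⟨c, ker_le_dom π _ c.2⟩ = ⟨(χ a⁻¹ c : S), ker_le_dom π b (χ a⁻¹ c).2⟩ :=
      Subtype.ext (ha2 c)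
    rw [e, hb2, ← MulAut.mul_apply, ← map_mul, _root_.mul_inv_rev]

end Cfsg.Agent.Lib.SpFourExotic
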