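import Cfsg.Agent.Lib.SpFourExotic.Spread

/-!
Over at most four elements the group of an essential radical induces linear maps on the quotient
and scalars on the axis, tied by the determinant.
-/

set_option autoImplicit false

namespace Cfsg.Agent.Lib.SpFourExotic

variable {K : Type*} [Field K] [Fintype K] [CharP K 2]
variable {G : Type*} [Group G] [Finite G]

local notation "M" => (K × K × K)

/-- A linear map of the plane. -/
def mat (p q r s : K) : K × K → K × K := fun x => (p * x.1 + q * x.2, r * x.1 + s * x.2)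

omit [Fintype K] [CharP K 2] in
theorem mat_comp (p q r s p' q' r' s' : K) : mat p q r s ∘ mat p' q' r' s' =
    mat (p * p' + q * r') (p * q' + q * s') (r * p' + s * r') (r * q' + s * s') := by
  funext x; simp only [mat, Function.comp_apply, Prod.mk.injEq]; constructor <;> ring

omit [Fintype K] [CharP K 2] in
theorem mat_one : mat (1 : K) 0 0 1 = id := by funext x; simp [mat]

namespace Setting

variable [DistribMulAction G (K × K × K)] {φ : K → K → K}
variable (X : Setting G φ) (l : K →+ K)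

/-- The action on the quotient by the axis, in shifted coordinates, and on the axis. -/
def Acts (_ : Setting G φ) (l : K →+ K) (g : G) (L : K × K → K × K) (k : K) : Prop :=
  (∀ m : M, ((g • m).1, (g • m).2.1 + l (g • m).1) = L (m.1, m.2.1 + l m.1)) ∧
    ∀ c : K, g • ((0, 0, c) : M) = (0, 0, k * c)

omit [Fintype K] [CharP K 2] [Finite G] in
theorem Acts.mul {g h : G} {L L' : K × K → K × K} {k k' : K} (hg : X.Acts l g L k)
    (hh : X.Acts l h L' k') : X.Acts l (g * h) (L ∘ L') (k * k') :=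
  ⟨fun m => by rw [mul_smul, hg.1, hh.1]; rfl,
    fun c => by rw [mul_smul, hh.2, hg.2, mul_assoc]⟩

omit [Fintype K] [CharP K 2] [Finite G] in
theorem acts_one : X.Acts l 1 id 1 :=
  ⟨fun m => by rw [one_smul]; rfl, fun c => by rw [one_smul, one_mul]⟩

theorem acts_tr (s : K) : X.Acts l (X.tr s) (mat 1 0 s 1) 1 := by
  refine ⟨fun ⟨v, z, c⟩ => ?_, fun c => ?_⟩
  · rw [X.smul_tr]; simp [mat]; ring
  · rw [X.fix_tr s rfl, one_mul]

theorem exists_swap (hF : X.HasFixed) : ∃ l : K →+ K, ∃ w : G, X.Acts l w (mat 0 1 1 0) 1 := by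
  obtain ⟨l, hl⟩ := X.exists_lower hF
  obtain ⟨b, hb, hbm⟩ := hl 1
  have hbA : X.Acts l b (mat 1 1 0 1) 1 := ⟨fun m => by
    obtain ⟨h1, h2⟩ := hbm m
    rw [h2, h1]; simp [mat], fun c => by rw [X.fix_mem_closure hF hb, one_mul]⟩
  refine ⟨l, b * X.tr 1 * b, ?_⟩
  have h := (hbA.mul X l (X.acts_tr l 1)).mul X l hbA
  have h2 : (2 : K) = 0 := CharTwo.two_eq_zero
  simpa [mat_comp, CharTwo.add_self_eq_zero, one_add_one_eq_two, h2] using h

variable {l}
variable {w : G} (hw : X.Acts l w (mat 0 1 1 0) 1)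

include hw in
theorem moves_swap : X.Moves w := by
  refine X.moves_of_ne (m := ((0, 1, 0) : M)) rfl ?_
  have := congrArg Prod.fst (hw.1 ((0, 1, 0) : M))
  simp [mat] at this
  rw [this]
  exact one_ne_zero

/-- A stabiliser of both lines. -/
def IsDiag (_ : Setting G φ) (l : K →+ K) (d : G) : Prop :=
  (∀ m : M, m.1 = 0 → (d • m).1 = 0) ∧
    ∀ m : M, m.2.1 + l m.1 = 0 → (d • m).2.1 + l (d • m).1 = 0

omit [Finite G] in
theorem inv_stab {g : G} (hg : ∀ m : M, m.1 = 0 → (g • m).1 = 0) {m : M} (hm : m.1 = 0) :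
    (g⁻¹ • m).1 = 0 := by
  have himg : (fun m : M => g • m) '' {m : M | m.1 = 0} = {m : M | m.1 = 0} :=
    Set.eq_of_subset_of_ncard_le (Set.image_subset_iff.2 hg)
      ((MulAction.injective g).injOn.ncard_image).ge (Set.toFinite _)
  obtain ⟨m', hm', he⟩ := himg.ge hm
  rw [← (he : g • m' = m), inv_smul_smul]
  exact hm'

include hw in
theorem exists_diag (hF : X.HasFixed) (g : G) :
    ∃ d, X.IsDiag l d ∧ ∃ s t : K, g = X.tr t * d ∨ g = X.tr s * w * (X.tr t * d) := by
  have hwm := X.moves_swap hw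
  have hw1 : ∀ m : M, (w • m).1 = m.2.1 + l m.1 := fun m => by
    have := congrArg Prod.fst (hw.1 m); simpa [mat] using this
  have hw2 : ∀ m : M, (w • m).2.1 + l (w • m).1 = m.1 := fun m => by
    have := congrArg Prod.snd (hw.1 m); simpa [mat] using this
  have key : ∀ h : G, (∀ m : M, m.1 = 0 → (h • m).1 = 0) →
      ∃ t, X.IsDiag l (X.tr t * h) := by
    intro h hh
    have hhm : X.Moves (h * w) := X.moves_of_ne (m := ((0, 1, 0) : M)) rfl fun h0 => by
      rw [mul_smul] at h0
      have h1 := inv_stab hh h0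
      rw [inv_smul_smul, hw1] at h1
      simp at h1
    obtain ⟨s, hs⟩ := X.exists_slope hF hwm hhm
    refine ⟨s, fun m hm => ?_, fun m hm => ?_⟩
    · rw [mul_smul]
      have h1 := hh m hm
      have h2 : ∃ v z c : K, h • m = (v, z, c) := ⟨_, _, _, rfl⟩
      obtain ⟨v, z, c, h3⟩ := h2
      rw [h3] at h1 ⊢
      rw [X.smul_tr]
      exact h1
    · have h1 : ((h * w)⁻¹ • (h • m)).1 = 0 := by
        rw [mul_inv_rev, mul_smul, inv_smul_smul]
        have h2 := hw2 (w⁻¹ • m)
        rw [smul_inv_smul] at h2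
        rw [← h2, hm]
      have h2 := hw2 (w⁻¹ • (X.tr s • h • m))
      rw [smul_inv_smul, hs _ h1] at h2
      rw [mul_smul]
      exact h2
  by_cases hg : X.Moves g
  · obtain ⟨s, hs⟩ := X.exists_slope hF hwm hg
    have hst : ∀ m : M, m.1 = 0 → ((w⁻¹ * X.tr s * g) • m).1 = 0 := fun m hm => by
      rw [mul_smul, mul_smul]
      exact hs _ (by rw [inv_smul_smul]; exact hm)
    obtain ⟨t, ht⟩ := key _ hst
    refine ⟨_, ht, s, t, Or.inr ?_⟩
    rw [← mul_assoc (X.tr t), X.sq_eq_one (X.tr_mem t), one_mul, mul_assoc w⁻¹, mul_assoc,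
      mul_inv_cancel_left, ← mul_assoc, X.sq_eq_one (X.tr_mem s), one_mul]
  · obtain ⟨t, ht⟩ := key g fun m hm => by
      have := inv_stab (g := g⁻¹) (fun m hm => X.not_moves_stab hg hm) hm
      rwa [inv_inv] at this
    refine ⟨_, ht, 0, t, Or.inl ?_⟩
    rw [← mul_assoc, X.sq_eq_one (X.tr_mem t), one_mul]

omit [Finite G] in
theorem IsDiag.mul {d e : G} (hd : X.IsDiag l d) (he : X.IsDiag l e) : X.IsDiag l (d * e) :=
  ⟨fun m hm => by rw [mul_smul]; exact hd.1 _ (he.1 m hm),
    fun m hm => by rw [mul_smul]; exact hd.2 _ (he.2 m hm)⟩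

/-- Conjugation by a stabiliser of the lines. -/
theorem diag_conj {d : G} (hd : X.IsDiag l d) :
    ∃ α β : K → K, (∀ m : M, (d • m).1 = α m.1 ∧ (d • m).2.1 + l (d • m).1 = β (m.2.1 + l m.1)) ∧
      ∃ σ : K → K, ∀ s, d * X.tr s = X.tr (σ s) * d ∧ ∀ v, β (s * v) = σ s * α v := by
  let α : K → K := fun v => (d • ((v, l v, 0) : M)).1
  let β : K → K := fun z => (d • ((0, z, 0) : M)).2.1 + l (d • ((0, z, 0) : M)).1
  have hax : ∀ c : K, (d • ((0, 0, c) : M)).1 = 0 ∧
      (d • ((0, 0, c) : M)).2.1 + l (d • ((0, 0, c) : M)).1 = 0 := fun c =>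
    ⟨hd.1 _ rfl, hd.2 _ (by simp)⟩
  have hsplit : ∀ m : M, (d • m).1 = α m.1 ∧
      (d • m).2.1 + l (d • m).1 = β (m.2.1 + l m.1) := by
    rintro ⟨v, z, c⟩
    have e : ((v, z, c) : M) = (v, l v, 0) + ((0, z + l v, 0) + (0, 0, c)) := by
      simp only [Prod.mk_add_mk, add_zero, zero_add]
      rw [add_left_comm, CharTwo.add_self_eq_zero, add_zero]
    have h1 := hd.1 ((0, z + l v, 0) : M) rfl
    have h2 := hd.2 ((v, l v, 0) : M) (CharTwo.add_self_eq_zero _)
    obtain ⟨h3, h4⟩ := hax c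
    refine ⟨?_, ?_⟩
    · conv_lhs => rw [e, smul_add, smul_add, Prod.fst_add, Prod.fst_add, h1, h3, add_zero, add_zero]
    · conv_lhs => rw [e, smul_add, smul_add]
      show ((d • ((v, l v, 0) : M)).2.1 + ((d • ((0, z + l v, 0) : M)).2.1 + (d • ((0, 0, c) : M)).2.1)) +
        l ((d • ((v, l v, 0) : M)).1 + ((d • ((0, z + l v, 0) : M)).1 + (d • ((0, 0, c) : M)).1)) =
        (d • ((0, z + l v, 0) : M)).2.1 + l (d • ((0, z + l v, 0) : M)).1
      rw [map_add, map_add]
      linear_combination h2 + h4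
  refine ⟨α, β, hsplit, ?_⟩
  have hs : ∀ s, ∃ s', d * X.tr s = X.tr s' * d := by
    intro s
    obtain ⟨s', hs'⟩ := X.exists_tr (X.conj_mem_of_stab (g := d)
      (fun m hm => inv_stab hd.1 hm) (X.tr_mem s))
    exact ⟨s', by rw [hs']; group⟩
  choose σ hσ using hs
  refine ⟨σ, fun s => ⟨hσ s, fun v => ?_⟩⟩
  obtain ⟨ha, hb⟩ := hsplit ((v, l v, 0) : M)
  have h0 := (hsplit ((v, l v + s * v, 0 + φ s v) : M)).2
  rw [CharTwo.add_self_eq_zero] at hb
  rw [show l v + s * v + l v = s * v by rw [add_right_comm, CharTwo.add_self_eq_zero, zero_add],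
    ← X.smul_tr, ← mul_smul, hσ, mul_smul] at h0
  obtain ⟨v', z', c', he⟩ : ∃ v' z' c' : K, d • ((v, l v, 0) : M) = (v', z', c') := ⟨_, _, _, rfl⟩
  rw [he] at ha hb h0
  rw [X.smul_tr] at h0
  have hβ0 : β 0 = 0 := by
    show (d • ((0, 0, 0) : M)).2.1 + l (d • ((0, 0, 0) : M)).1 = 0
    exact (hax 0).2
  simp only at ha hb h0
  rw [← h0, ← ha]
  rw [hβ0] at hb
  linear_combination hb

omit [Finite G] in
theorem diag_bijective {d : G} {α β : K → K}
    (h : ∀ m : M, (d • m).1 = α m.1 ∧ (d • m).2.1 + l (d • m).1 = β (m.2.1 + l m.1)) :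
    Function.Surjective α ∧ Function.Surjective β ∧ (∀ v v', α (v + v') = α v + α v') ∧
      ∀ v v', β (v + v') = β v + β v' := by
  refine ⟨fun x => ?_, fun x => ?_, fun v v' => ?_, fun v v' => ?_⟩
  · exact ⟨(d⁻¹ • ((x, 0, 0) : M)).1, by rw [← (h _).1, smul_inv_smul]⟩
  · exact ⟨(d⁻¹ • ((0, x, 0) : M)).2.1 + l (d⁻¹ • ((0, x, 0) : M)).1, by
      rw [← (h _).2, smul_inv_smul]; simp⟩
  · have e := congrArg Prod.fst (smul_add d ((v, 0, 0) : M) (v', 0, 0))
    rw [Prod.fst_add, (h _).1, (h _).1, (h _).1] at e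
    simpa using e
  · have e := congrArg (fun m : M => m.2.1 + l m.1) (smul_add d ((0, v, 0) : M) (0, v', 0))
    simp only [Prod.fst_add, Prod.snd_add, map_add] at e
    rw [(h _).2] at e
    simp only [Prod.fst_add, Prod.snd_add, map_zero, add_zero] at e
    rw [e, show (d • ((0, v, 0) : M)).2.1 + (d • ((0, v', 0) : M)).2.1 +
      (l (d • ((0, v, 0) : M)).1 + l (d • ((0, v', 0) : M)).1) =
      ((d • ((0, v, 0) : M)).2.1 + l (d • ((0, v, 0) : M)).1) +
        ((d • ((0, v', 0) : M)).2.1 + l (d • ((0, v', 0) : M)).1) by abel, (h _).2, (h _).2]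
    simp

variable (hK : ∀ r : K, r ≠ 0 → r ^ 3 = 1)

include hw hK in
/-- A stabiliser of both lines acts by scalars on them. -/
theorem diag_scalar {d : G} (hd : X.IsDiag l d) :
    ∃ a b : K, a ≠ 0 ∧ b ≠ 0 ∧ (∀ m : M, (d • m).1 = a * m.1 ∧
      (d • m).2.1 + l (d • m).1 = b * (m.2.1 + l m.1)) ∧
      ∀ s, d * X.tr s = X.tr (b / a * s) * d := by
  have semi : ∀ d, X.IsDiag l d → ∃ (a b : K) (τ : K → K), a ≠ 0 ∧ b ≠ 0 ∧
      (∀ m : M, (d • m).1 = a * τ m.1 ∧ (d • m).2.1 + l (d • m).1 = b * τ (m.2.1 + l m.1)) ∧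
      (∀ x, τ (τ x) = x) ∧ (∀ x y, τ (x * y) = τ x * τ y) ∧ τ 1 = 1 ∧
      ∀ s, d * X.tr s = X.tr (b / a * τ s) * d := by
    intro d hd
    obtain ⟨α, β, hαβ, σ, hσ⟩ := X.diag_conj hd
    obtain ⟨α', β', hαβ', σ', hσ'⟩ := X.diag_conj (d := w * d * w) ⟨fun m hm => by
        rw [mul_smul, mul_smul]
        have h1 := congrArg Prod.fst (hw.1 (d • w • m))
        have h2 := hd.2 (w • m) (by have := congrArg Prod.snd (hw.1 m); simpa [mat, hm] using this)
        simp [mat] at h1
        rw [h1, h2], fun m hm => by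
        rw [mul_smul, mul_smul]
        have h1 := congrArg Prod.snd (hw.1 (d • w • m))
        have h2 := hd.1 (w • m) (by
          have := congrArg Prod.fst (hw.1 m)
          simp [mat] at this
          rw [this, hm])
        simp [mat] at h1
        rw [h1, h2]⟩
    obtain ⟨hαs, hβs, hαa, hβa⟩ := diag_bijective hαβ
    have hw1 : ∀ m : M, (w • m).1 = m.2.1 + l m.1 := fun m => by
      have := congrArg Prod.fst (hw.1 m); simpa [mat] using this
    have hw2 : ∀ m : M, (w • m).2.1 + l (w • m).1 = m.1 := fun m => by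
      have := congrArg Prod.snd (hw.1 m); simpa [mat] using this
    have hα' : ∀ v, α' v = β v := fun v => by
      have h := (hαβ' ((v, 0, 0) : M)).1
      rw [mul_smul, mul_smul, hw1, (hαβ _).2, hw2] at h
      exact h.symm
    have hβ' : ∀ z, β' z = α z := fun z => by
      have h := (hαβ' ((0, z, 0) : M)).2
      rw [mul_smul, mul_smul, hw2, (hαβ _).1, hw1] at h
      simpa using h.symm
    have e1 : ∀ s v, β (s * v) = σ s * α v := fun s v => (hσ s).2 v
    have e2 : ∀ s v, α (s * v) = σ' s * β v := fun s v => by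
      rw [← hβ', (hσ' s).2, hα']
    have hα0 : α 0 = 0 := by simpa using hαa 0 0
    have hβ0 : β 0 = 0 := by simpa using hβa 0 0
    have ha : α 1 ≠ 0 := fun h => by
      obtain ⟨x, hx⟩ := hβs 1
      have := e1 x 1
      rw [mul_one, h, mul_zero, hx] at this
      exact one_ne_zero this
    have hb : β 1 ≠ 0 := fun h => by
      obtain ⟨x, hx⟩ := hαs 1
      have := e2 x 1
      rw [mul_one, h, mul_zero, hx] at this
      exact one_ne_zero this
    let τ : K → K := fun v => α v / α 1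
    have hσe : ∀ s, σ s = β s / α 1 := fun s => by
      have := e1 s 1; rw [mul_one] at this; rw [this, mul_div_cancel_right₀ _ ha]
    have hβτ : ∀ v, β v = β 1 * τ v := fun v => by
      have := e1 1 v; rw [one_mul, hσe] at this; rw [this]; ring
    have hτm : ∀ x y, τ (x * y) = τ x * τ y := fun x y => by
      have h := e1 x y
      rw [hσe, hβτ, hβτ x] at h
      have h2 : τ (x * y) = τ x * (α y / α 1) := by
        refine mul_left_cancel₀ hb ?_
        rw [h]; ring
      exact h2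
    have hτ1 : τ 1 = 1 := div_self ha
    have hτa : ∀ x y, τ (x + y) = τ x + τ y := fun x y => by
      simp only [τ, hαa, add_div]
    have hτ0 : τ 0 = 0 := by simp [τ, hα0]
    have hττ : ∀ x, τ (τ x) = x := by
      intro x
      by_cases hx0 : x = 0
      · rw [hx0, hτ0, hτ0]
      by_cases hx1 : x = 1
      · rw [hx1, hτ1, hτ1]
      have h3 : ∀ y : K, y ≠ 0 → y ≠ 1 → y * y + y + 1 = 0 := fun y hy hy1 => by
        have h := hK y hy
        have : (y - 1) * (y * y + y + 1) = 0 := by linear_combination h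
        exact (mul_eq_zero.1 this).resolve_left (sub_ne_zero.2 hy1)
      have hroot : τ x * τ x + τ x + 1 = 0 := by
        rw [← hτm, ← hτ1, ← hτa, ← hτa, h3 x hx0 hx1, hτ0]
      have hx' : (τ x - x) * (τ x - (x + 1)) = 0 := by
        linear_combination hroot - h3 x hx0 hx1 +
          (x * x + x - τ x - x * τ x) * (CharTwo.two_eq_zero : (2 : K) = 0)
      rcases mul_eq_zero.1 hx' with h | h <;> rw [sub_eq_zero] at h
      · rw [h, h]
      · rw [h, hτa, hτ1, h, add_assoc, CharTwo.add_self_eq_zero, add_zero]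
    refine ⟨α 1, β 1, τ, ha, hb, fun m => ?_, hττ, hτm, hτ1, fun s => ?_⟩
    · exact ⟨(hαβ m).1.trans (mul_div_cancel₀ _ ha).symm, (hαβ m).2.trans (hβτ _)⟩
    · rw [(hσ s).1, hσe, hβτ]; congr 2; ring
  obtain ⟨a, b, τ, ha, hb, hact, hττ, hτm, hτ1, hconj⟩ := semi d hd
  suffices hid : ∀ x, τ x = x by
    simp only [hid] at hact hconj
    exact ⟨a, b, ha, hb, hact, hconj⟩
  -- the order of `d` is odd
  have hstab : ∀ n : ℕ, X.IsDiag l (d ^ n) := fun n => by
    induction n with
    | zero => exact ⟨fun m hm => by rwa [pow_zero, one_smul], fun m hm => by rwa [pow_zero, one_smul]⟩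
    | succ n ih => rw [pow_succ]; exact ih.mul X hd
  have hodd : Odd (orderOf d) := by
    by_contra hev
    obtain ⟨k, hk⟩ := Nat.not_odd_iff_even.1 hev
    have hpos : 0 < orderOf d := orderOf_pos d
    set e := d ^ k with he
    have he1 : e ≠ 1 := pow_ne_one_of_lt_orderOf (by omega) (by omega)
    have he2 : e * e = 1 := by rw [he, ← pow_add, ← hk, pow_orderOf_eq_one]
    have : Fact (Nat.Prime 2) := ⟨Nat.prime_two⟩
    have hN : Subgroup.zpowers e ≤ Subgroup.normalizer ((X.P : Subgroup G) : Set G) := by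
      rw [Subgroup.zpowers_le, Subgroup.mem_normalizer_iff]
      refine fun x => ⟨fun hx => X.conj_mem_of_stab (fun m hm => inv_stab (hstab k).1 hm) hx, fun hx => ?_⟩
      have := X.conj_mem_of_stab (g := e) (fun m hm => inv_stab (hstab k).1 hm) hx
      rwa [show e * (e * x * e⁻¹) * e⁻¹ = (e * e) * x * (e * e)⁻¹ by group, he2, inv_one, one_mul,
        mul_one] at this
    have hp : IsPGroup 2 (Subgroup.zpowers e) := by
      refine IsPGroup.of_card (n := 1) ?_
      rw [Nat.card_zpowers, orderOf_eq_prime (by rw [pow_two, he2]) he1, pow_one]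
    have hsup := X.P.2.to_sup_of_normal_left' hp hN
    have hmem : e ∈ (X.P : Subgroup G) := by
      rw [← X.P.3 hsup le_sup_left]
      exact Subgroup.mem_sup_right (Subgroup.mem_zpowers e)
    obtain ⟨s, hs⟩ := X.exists_tr hmem
    have h1 := (hstab k).2 ((1, l 1, 0) : M) (CharTwo.add_self_eq_zero _)
    rw [← he, ← hs, X.smul_tr] at h1
    have hs0 : s = 0 := by
      simp only [mul_one] at h1
      rwa [add_right_comm, CharTwo.add_self_eq_zero, zero_add] at h1
    exact he1 (by rw [← hs, hs0, X.tr_eq_one_iff 0 |>.2 rfl])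
  have hn : ∀ n : ℕ, ∃ c : K, ∀ m : M,
      (d ^ n • m).1 = c * (if Even n then m.1 else τ m.1) := by
    intro n
    induction n with
    | zero => exact ⟨1, fun m => by simp⟩
    | succ n ih =>
      obtain ⟨c, hc⟩ := ih
      refine ⟨a * τ c, fun m => ?_⟩
      rw [pow_succ', mul_smul, (hact _).1, hc, hτm, mul_assoc]
      congr 2
      by_cases h : Even n
      · rw [if_pos h, if_neg (Nat.even_add_one.not.2 (not_not.2 h))]
      · rw [if_neg h, if_pos (Nat.even_add_one.2 h), hττ]
  obtain ⟨c, hc⟩ := hn (orderOf d)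
  intro x
  have h1 := hc ((1, 0, 0) : M)
  have h2 := hc ((x, 0, 0) : M)
  rw [pow_orderOf_eq_one, one_smul, if_neg (Nat.not_even_iff_odd.2 hodd)] at h1 h2
  simp only [hτ1, mul_one] at h1
  simp only [← h1, one_mul] at h2
  exact h2.symm

variable (κ : K →* K) (hκ : Function.Injective κ)
  (hφ : ∀ a b s v : K, a ≠ 0 → b ≠ 0 → φ (b / a * s) (a * v) = κ (a * b) * φ s v)

include hw hK hφ in
/-- The scalar of a stabiliser of both lines on the axis. -/
theorem diag_acts (hF : X.HasFixed) {d : G} (hd : X.IsDiag l d) :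
    ∃ a b : K, a ≠ 0 ∧ b ≠ 0 ∧ X.Acts l d (mat a 0 0 b) (κ (a * b)) ∧
      ∀ s, d * X.tr s = X.tr (b / a * s) * d := by
  obtain ⟨a, b, ha, hb, hact, hconj⟩ := X.diag_scalar hw hK hd
  refine ⟨a, b, ha, hb, ⟨fun m => by rw [(hact m).2, (hact m).1]; simp [mat], ?_⟩, hconj⟩
  let η : K → K := fun z => (d • ((0, z, 0) : M)).2.2
  let γ : K → K := fun c => (d • ((0, 0, c) : M)).2.2
  have hg : ∀ c, d • ((0, 0, c) : M) = (0, 0, γ c) := fun c => by
    obtain ⟨c', hc'⟩ := X.smul_axis hF d c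
    simp [γ, hc']
  have hγadd : ∀ c c', γ (c + c') = γ c + γ c' := fun c c' => by
    show (d • ((0, 0, c + c') : M)).2.2 = _
    rw [show ((0, 0, c + c') : M) = (0, 0, c) + (0, 0, c') by simp, smul_add, Prod.snd_add,
      Prod.snd_add]
  have hz : ∀ z c : K, d • ((0, z, c) : M) = (0, b * z, η z + γ c) := fun z c => by
    rw [show ((0, z, c) : M) = (0, z, 0) + (0, 0, c) by simp, smul_add, hg]
    obtain ⟨h1, h2⟩ := hact ((0, z, 0) : M)
    simp only [mul_zero] at h1
    rw [h1] at h2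
    simp only [map_zero, add_zero] at h2
    refine Prod.ext (by simp [h1]) (Prod.ext (by simp [h2]) (by simp [η]))
  have hdev : ∀ s v, φ (b / a * s) (a * v) = η (s * v) + γ (φ s v) := fun s v => by
    have h1 := congrArg (fun g : G => g • ((v, 0, 0) : M)) (hconj s)
    simp only [mul_smul, X.smul_tr, zero_add] at h1
    rw [show ((v, s * v, φ s v) : M) = (v, 0, 0) + (0, s * v, φ s v) by simp, smul_add, hz] at h1
    obtain ⟨v', z', c', he⟩ : ∃ v' z' c' : K, d • ((v, 0, 0) : M) = (v', z', c') := ⟨_, _, _, rfl⟩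
    have hv : v' = a * v := by simpa [he] using (hact ((v, 0, 0) : M)).1
    rw [he] at h1
    simp only [hv] at h1
    have := congrArg (fun m : M => m.2.2) h1
    simp at this
    linear_combination -this
  have hkey : ∀ z c, z ≠ 0 → c ≠ 0 → η z + γ c = κ (a * b) * c := fun z c hz0 hc => by
    obtain ⟨s, v, rfl, rfl⟩ := X.surj z c hz0 hc
    rw [← hdev, hφ _ _ _ _ ha hb]
  have hη : ∀ c, c ≠ 0 → γ c = κ (a * b) * c := by
    intro c hc
    by_cases hbig : ∃ e : K, e ≠ 0 ∧ e ≠ c
    · obtain ⟨e, he, hec⟩ := hbig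
      have hce : c + e ≠ 0 := fun h => hec (CharTwo.add_eq_zero.1 h).symm
      have h1 := hkey 1 c one_ne_zero hc
      have h2 := hkey 1 e one_ne_zero he
      have h3 := hkey 1 (c + e) one_ne_zero hce
      rw [hγadd] at h3
      linear_combination h3 - h2
    · push Not at hbig
      have h1 : ∀ x : K, x ≠ 0 → x = 1 := fun x hx => (hbig x hx).trans (hbig 1 one_ne_zero).symm
      have hc1 : γ c ≠ 0 := fun h => hc (by
        have := hg c
        rw [h, show ((0, 0, 0) : M) = 0 from rfl, smul_eq_zero_iff_eq] at this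
        exact congrArg (fun m : M => m.2.2) this)
      rw [h1 _ hc1, h1 c hc, mul_one, h1 (κ (a * b))]
      intro h0
      have h := hφ a b 1 1 ha hb
      rw [h0, zero_mul] at h
      exact X.ne_zero _ _ (by simp [ha, hb]) (by simp [ha]) h
  intro c
  rw [hg]
  rcases eq_or_ne c 0 with rfl | hc
  · rw [mul_zero, show γ 0 = 0 by simpa using hγadd 0 0]
  · rw [hη c hc]

variable (l) in
/-- The realised pairs. -/
def Realised (L : K × K → K × K) (k : K) : Prop :=
  ∃ g : G, Setting.Acts X l g L k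

include hw in
theorem realised_det_one {p q r s : K} (h : p * s + q * r = 1) :
    X.Realised l (mat p q r s) 1 := by
  have h2 : (2 : K) = 0 := CharTwo.two_eq_zero
  have hb : ∀ y, X.Acts l (w * X.tr y * w) (mat 1 y 0 1) 1 := fun y => by
    simpa [mat_comp] using (hw.mul X l (X.acts_tr l y)).mul X l hw
  by_cases hq : q = 0
  · subst hq
    rw [zero_mul, add_zero] at h
    have hp : p ≠ 0 := left_ne_zero_of_mul_eq_one h
    refine ⟨X.tr (r * s) * (w * X.tr p * w * X.tr p⁻¹ * (w * X.tr p * w) * w), ?_⟩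
    have h3 := (X.acts_tr l (r * s)).mul X l
      ((((hb p).mul X l (X.acts_tr l p⁻¹)).mul X l (hb p)).mul X l hw)
    have hs : s = p⁻¹ := eq_inv_of_mul_eq_one_left (by rw [mul_comm]; exact h)
    subst hs
    simp only [mat_comp, mul_one, one_mul] at h3
    convert h3 using 2 <;> first | grind | (field_simp; grind) | simp_all
  · refine ⟨X.tr ((s + 1) / q) * (w * X.tr q * w) * X.tr ((p + 1) / q), ?_⟩
    have h3 := ((X.acts_tr l ((s + 1) / q)).mul X l (hb q)).mul X l (X.acts_tr l ((p + 1) / q))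
    simp only [mat_comp, mul_one, one_mul] at h3
    convert h3 using 2 <;> first | grind | (field_simp; grind) | simp_all

include hw in
/-- A diagonal element yields every map of the same determinant. -/
theorem realised_of_diag {d : G} {a b : K} (ha : a ≠ 0) (hb : b ≠ 0) {k : K}
    (hd : X.Acts l d (mat a 0 0 b) k) {p q r s : K} (h : p * s + q * r = a * b) :
    X.Realised l (mat p q r s) k := by
  obtain ⟨g, hg⟩ := X.realised_det_one hw (p := p / a) (q := q / b) (r := r / a) (s := s / b)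
    (by field_simp; linear_combination h)
  refine ⟨g * d, ?_⟩
  have := hg.mul X l hd
  rw [mat_comp, one_mul] at this
  convert this using 2 <;> field_simp <;> ring

include hw hK hφ in
/-- The maps of the group, with the diagonal part. -/
theorem exists_acts (hF : X.HasFixed) (g : G) :
    ∃ p q r s a b : K, ∃ d : G, a ≠ 0 ∧ b ≠ 0 ∧ p * s + q * r = a * b ∧
      X.Acts l g (mat p q r s) (κ (a * b)) ∧ X.Acts l d (mat a 0 0 b) (κ (a * b)) ∧
      ∀ s, d * X.tr s = X.tr (b / a * s) * d := by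
  obtain ⟨d, hd, s, t, hg⟩ := X.exists_diag hw hF g
  obtain ⟨a, b, ha, hb, hact, hconj⟩ := X.diag_acts hw hK κ hφ hF hd
  have h2 : (2 : K) = 0 := CharTwo.two_eq_zero
  rcases hg with rfl | rfl
  · have h := (X.acts_tr l t).mul X l hact
    simp only [mat_comp, one_mul] at h
    refine ⟨_, _, _, _, a, b, d, ha, hb, ?_, h, hact, hconj⟩
    grind
  · have h := ((X.acts_tr l s).mul X l hw).mul X l ((X.acts_tr l t).mul X l hact)
    simp only [mat_comp, one_mul] at h
    refine ⟨_, _, _, _, a, b, d, ha, hb, ?_, h, hact, hconj⟩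
    grind

end Setting

end Cfsg.Agent.Lib.SpFourExotic
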