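import Cfsg.Agent.Lib.SpFourExotic.Reduction
import Cfsg.Agent.Lib.SpFourExotic.Image

/-!
Automorphisms of the whole group inducing given diagonal maps.
-/

set_option autoImplicit false

namespace Cfsg.Agent.Lib.SpFourExotic

open Cfsg Cfsg.FusionSystem Cfsg.Agent.Lib.Fusion Cfsg.Agent.Lib.Fusion87

variable {Ω : Type*} [Group Ω] {S : Subgroup Ω} [Finite S] {K : Type*} [Field K] [CharP K 2]

local notation "M" => (K × K × K)

omit [Finite S] [CharP K 2] in
/-- The automorphisms of `S` in the system, in coordinates. -/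
def AutU (F : FusionSystem S) (e : U4 K ≃* ↥S) : Subgroup (MulAut (U4 K)) :=
  (F.autGroup S).comap (MulAut.congr e).toMonoidHom

/-- The scalars induced on the axis. -/
def InKc (F : FusionSystem S) (e : U4 K ≃* ↥S) (k : K) : Prop :=
  ∃ α ∈ AutU F e, ∀ c : K, α ⟨0, 0, 0, c⟩ = ⟨0, 0, 0, k * c⟩

variable {F : FusionSystem S} {e : U4 K ≃* ↥S}

theorem inner_mem_AutU (a : U4 K) : MulAut.conj a ∈ AutU F e := by
  have hn : (e a : Ω) ∈ Subgroup.normalizer (S : Set Ω) := Subgroup.le_normalizer (e a).2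
  show MulAut.congr e (MulAut.conj a) ∈ F.autGroup S
  have : MulAut.congr e (MulAut.conj a) = conjAut S (e a : Ω) hn := by
    refine MulEquiv.ext fun x => Subtype.ext ?_
    rw [conjAut_apply]
    show ((e (a * e.symm x * a⁻¹) : S) : Ω) = _
    rw [map_mul, map_mul, map_inv, MulEquiv.apply_symm_apply]
    rfl
  rw [this]
  exact autInducedBy_le_autGroup le_rfl (mem_autInducedBy.2 ⟨_, (e a).2, fun x => rfl⟩)

theorem InKc.one : InKc F e 1 := ⟨1, one_mem _, fun c => by rw [one_mul]; rfl⟩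

theorem InKc.mul {k k' : K} (h : InKc F e k) (h' : InKc F e k') : InKc F e (k * k') := by
  obtain ⟨α, hα, ha⟩ := h
  obtain ⟨β, hβ, hb⟩ := h'
  exact ⟨α * β, mul_mem hα hβ, fun c => by rw [MulAut.mul_apply, hb, ha, mul_assoc]⟩

theorem InKc.inv {k : K} (hk : k ≠ 0) (h : InKc F e k) : InKc F e k⁻¹ := by
  obtain ⟨α, hα, ha⟩ := h
  refine ⟨α⁻¹, inv_mem hα, fun c => α.injective ?_⟩
  rw [ha, mul_inv_cancel_left₀ hk]
  exact α.apply_symm_apply _

variable {R : Subgroup (U4 K)} {φ : K → K → K} (ch : Chart K R φ)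

/-- An automorphism of a radical normalising the inner part extends. -/
theorem exists_extend (hS : IsPGroup 2 S) (hF : F.IsSaturated 2) (d : Aut' F e ch)
    (σ : K → K) (hσ : ∀ s, d * cj F e ch (ch.par s) = cj F e ch (ch.par (σ s)) * d) :
    ∃ α ∈ AutU F e, ∀ m, α (ch.j m) = ch.j (d • m) := by
  have : Fact (Nat.Prime 2) := ⟨Nat.prime_two⟩
  have hn : F.IsFullyNormalized (sub e R) := ⟨sub_le e R, fun Q _ => by
    rw [normalizerIn_sub ch]
    exact Subgroup.card_le_of_le (normalizerIn_le Q)⟩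
  obtain ⟨ψ, hψ, hψx⟩ := (isReceptive_of_isFullyNormalized hS hF hn).2 (sub e R) (autHom d.val)
    (autGroup_hom_mem (sub_le e R) d.mem) (range_autHom _)
  have hle : S ≤ extender S (sub e R) (autHom d.val) := by
    intro g hg
    obtain ⟨a, rfl⟩ := exists_el e hg
    obtain ⟨n, s, rfl⟩ := ch.cover a
    refine Subgroup.subset_closure ⟨hg, mem_normalizer_sub ch _, el e (ch.par (σ s)), el_mem e _,
      fun x hx => ?_⟩
    obtain ⟨⟨v, z, c⟩, rfl⟩ := (vec_bijective (e := e) (ch := ch)).2 x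
    have e1 : (⟨el e (ch.j n * ch.par s) * (vec e ch (v, z, c) : Ω) *
        (el e (ch.j n * ch.par s))⁻¹, hx⟩ : sub e R) =
        vec e ch (cj F e ch (ch.par s) • ((v, z, c) : M)) := Subtype.ext (by
      show _ = el e (ch.j (cj F e ch (ch.par s) • ((v, z, c) : M)))
      rw [cj_par]
      show el e (ch.j n * ch.par s) * el e (ch.j (v, z, c)) * (el e (ch.j n * ch.par s))⁻¹ = _
      rw [conj_el, el_inj, show ch.j n * ch.par s * ch.j (v, z, c) * (ch.j n * ch.par s)⁻¹ =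
        ch.j n * (ch.par s * ch.j (v, z, c) * (ch.par s)⁻¹) * (ch.j n)⁻¹ by group, ch.conj,
        ← ch.j_add, add_comm n, ch.j_add, mul_inv_cancel_right])
    rw [e1, autHom_apply, autHom_apply, ← vec_smul, ← vec_smul, ← mul_smul, hσ, mul_smul]
    exact cj_smul (F := F) (e := e) (ch := ch) (ch.par (σ s)) _
  have : Finite (↥S) := inferInstance
  obtain ⟨α, hα, hαv⟩ := exists_aut_of_hom (restrict_mem hψ hle) fun x => val_mem hψ _
  refine ⟨(MulAut.congr e).symm α, ?_, fun m => ?_⟩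
  · show MulAut.congr e ((MulAut.congr e).symm α) ∈ F.autGroup S
    rwa [MulEquiv.apply_symm_apply]
  · show e.symm (α (e (ch.j m))) = _
    rw [MulEquiv.symm_apply_eq]
    refine Subtype.ext ?_
    rw [hαv, MonoidHom.comp_apply]
    show ψ _ = el e (ch.j (d • m))
    rw [show el e (ch.j (d • m)) = ((d.val (vec e ch m) : sub e R) : Ω) from
      congrArg Subtype.val (vec_smul d m), ← autHom_apply]
    exact hψx _ (vec e ch m).2 _

/-- An automorphism of `S` restricts to a radical. -/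
theorem exists_restrict {α : MulAut (U4 K)} (hα : α ∈ AutU F e) (hR : ∀ a ∈ R, α a ∈ R) :
    ∃ d : Aut' F e ch, ∀ m, ch.j (d • m) = α (ch.j m) := by
  have hφ := restrict_mem (autGroup_hom_mem le_rfl hα) (sub_le e R)
  have : Finite (sub e R) := finite_of_le (sub_le e R)
  obtain ⟨β, hβ, hβv⟩ := exists_aut_of_hom hφ fun x => by
    obtain ⟨a, ha, hx⟩ := (mem_sub e).1 x.2
    refine (mem_sub e).2 ⟨α a, hR a ha, ?_⟩
    show el e (α a) = ((e (α (e.symm ⟨x, _⟩)) : S) : Ω)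
    rw [show (⟨(x : Ω), sub_le e R x.2⟩ : S) = e a from Subtype.ext hx.symm, MulEquiv.symm_apply_apply]
    rfl
  refine ⟨Aut'.mk β hβ, fun m => (el_inj e).1 ?_⟩
  refine (congrArg Subtype.val (vec_smul (Aut'.mk β hβ : Aut' F e ch) m)).trans ((hβv _).trans ?_)
  show ((e (α (e.symm ⟨el e (ch.j m), _⟩)) : S) : Ω) = el e (α (ch.j m))
  rw [show (⟨el e (ch.j m), el_mem e _⟩ : S) = e (ch.j m) from rfl, MulEquiv.symm_apply_apply]
  rfl

theorem rad_invariant (hS : IsPGroup 2 S) (hF : F.IsSaturated 2) {α : MulAut (U4 K)}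
    (hα : α ∈ AutU F e) :
    (∀ a ∈ rad1 K, α a ∈ rad1 K) ∧ ∀ a ∈ rad2 K, α a ∈ rad2 K := by
  constructor <;> intro a ha
  · have h := (aut_rad hS hF e hα (Or.inl rfl)).le
      (Subgroup.mem_map_of_mem _ (show e a ∈ (sub e (rad1 K)).subgroupOf S from (el_mem_sub e).2 ha))
    rw [Subgroup.mem_subgroupOf] at h
    obtain ⟨b, hb, hbe⟩ := (mem_sub e).1 h
    have : b = α a := e.injective (Subtype.ext (hbe.trans (by simp [MulAut.congr])))
    exact this ▸ hb
  · have h := (aut_rad hS hF e hα (Or.inr rfl)).le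
      (Subgroup.mem_map_of_mem _ (show e a ∈ (sub e (rad2 K)).subgroupOf S from (el_mem_sub e).2 ha))
    rw [Subgroup.mem_subgroupOf] at h
    obtain ⟨b, hb, hbe⟩ := (mem_sub e).1 h
    have : b = α a := e.injective (Subtype.ext (hbe.trans (by simp [MulAut.congr])))
    exact this ▸ hb

variable [Fintype K]

/-- The data of a frame over two or four elements. -/
structure Plane (F : FusionSystem S) (e : U4 K ≃* ↥S) (hS : IsPGroup 2 S) (hF : F.IsSaturated 2) where
  frame : Frame F e hS hF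
  /-- the shift of the first radical -/
  l1 : K →+ K
  /-- the shift of the second radical -/
  l2 : K →+ K
  /-- the Weyl element of the first radical -/
  w1 : Aut' F e (chart1 (K := K))
  /-- the Weyl element of the second radical -/
  w2 : Aut' F e (chart2 (K := K))
  hw1 : (setting hS hF frame.ess1).Acts l1 w1 (mat 0 1 1 0) 1
  hw2 : (setting hS hF frame.ess2).Acts l2 w2 (mat 0 1 1 0) 1

theorem Frame.plane {hS : IsPGroup 2 S} {hF : F.IsSaturated 2} (h : Frame F e hS hF) :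
    Nonempty (Plane F e hS hF) := by
  obtain ⟨l1, w1, h1⟩ := (setting hS hF h.ess1).exists_swap h.fix1
  obtain ⟨l2, w2, h2⟩ := (setting hS hF h.ess2).exists_swap h.fix2
  exact ⟨⟨h, l1, l2, w1, w2, h1, h2⟩⟩

omit [CharP K 2] [Fintype K] in
/-- The character of the first radical. -/
def kappa1 (K : Type*) [Field K] : K →* K := invMonoidHom

omit [CharP K 2] [Fintype K] in
theorem phi1 (hK : ∀ r : K, r ≠ 0 → r ^ 3 = 1) (a b s v : K) (ha : a ≠ 0) (hb : b ≠ 0) :
    b / a * s * (b / a * s) * (a * v) = kappa1 K (a * b) * (s * s * v) := by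
  have := hK b hb
  show _ = (a * b)⁻¹ * _
  field_simp
  linear_combination (s * s * v) * this

omit [CharP K 2] [Fintype K] in
theorem phi2 (a b s v : K) (ha : a ≠ 0) (hb : b ≠ 0) :
    a * v * (a * v) * (b / a * s) = MonoidHom.id K (a * b) * (v * v * s) := by
  show _ = a * b * _
  field_simp

omit [CharP K 2] [Fintype K] in
theorem mat_inj {p q r s p' q' r' s' : K} (h : mat p q r s = mat p' q' r' s') :
    p = p' ∧ q = q' ∧ r = r' ∧ s = s' := by
  have h1 := congrFun h (1, 0)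
  have h2 := congrFun h (0, 1)
  simp [mat] at h1 h2
  exact ⟨h1.1, h2.1, h1.2, h2.2⟩

variable {G : Type*} [Group G] [DistribMulAction G (K × K × K)]

omit [CharP K 2] [Fintype K] in
theorem acts_unique {ψ : K → K → K} {X : Setting G ψ} {l : K →+ K} {g : G}
    {L L' : K × K → K × K} {k k' : K} (h : X.Acts l g L k) (h' : X.Acts l g L' k') :
    L = L' ∧ k = k' := by
  refine ⟨funext fun x => ?_, ?_⟩
  · have h1 := (h.1 (x.1, x.2 - l x.1, 0)).symm.trans (h'.1 (x.1, x.2 - l x.1, 0))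
    simpa using h1
  · have h1 := (h.2 1).symm.trans (h'.2 1)
    simpa using h1

variable {hS : IsPGroup 2 S} {hF : F.IsSaturated 2} (D : Plane F e hS hF)

include D in
/-- A diagonal map with admissible determinant is induced on `S`. -/
theorem Plane.diag_lift {d0 d1 d2 : K} (h0 : d0 ≠ 0) (h1 : d1 ≠ 0) (h2 : d2 ≠ 0)
    (hk : InKc F e (d0 * d1 * d2)⁻¹) :
    ∃ α ∈ AutU F e, (∀ c : K, α ⟨0, 0, 0, c⟩ = ⟨0, 0, 0, (d0 * d1 * d2)⁻¹ * c⟩) ∧
      ∀ a : U4 K, (α a).t = d0 / d1 * a.t ∧ (α a).u = d1 / d2 * a.u ∧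
        (α a).x + D.l1 (α a).u + D.l2 (α a).t = d0 / d2 * (a.x + D.l1 a.u + D.l2 a.t) := by
  have hK : ∀ r : K, r ≠ 0 → r ^ 3 = 1 := fun r hr => D.frame.pow_three hr
  set X := setting (ch := chart1) hS hF D.frame.ess1
  set Y := setting (ch := chart2) hS hF D.frame.ess2
  obtain ⟨α0, hα0, hα0c⟩ := hk
  obtain ⟨g0, hg0⟩ := exists_restrict chart1 hα0 (rad_invariant hS hF hα0).1
  obtain ⟨p, q, r, s, a', b', dd, ha', hb', -, hg0a, hdd, -⟩ :=
    X.exists_acts D.hw1 hK (kappa1 K) (phi1 hK) D.frame.fix1 g0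
  have hkk : (a' * b')⁻¹ = (d0 * d1 * d2)⁻¹ := by
    have h3 := hg0a.2 1
    have h4 := hg0 ((0, 0, 1) : M)
    rw [h3] at h4
    change (⟨0, 0, 0, (a' * b')⁻¹ * 1⟩ : U4 K) = α0 ⟨0, 0, 0, 1⟩ at h4
    rw [hα0c] at h4
    simpa using congrArg U4.y h4
  obtain ⟨g, hg⟩ := X.realised_of_diag D.hw1 ha' hb' hdd (p := d1 / d2) (q := 0) (r := 0)
    (s := d0 / d2) (by
      rw [zero_mul, add_zero, inv_injective hkk]
      have := hK d2 h2
      field_simp
      linear_combination -this)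
  have hgd : X.IsDiag D.l1 g := by
    refine ⟨fun m hm => ?_, fun m hm => ?_⟩
    · have := congrArg Prod.fst (hg.1 m); simp [mat, hm] at this; exact this
    · have := congrArg Prod.snd (hg.1 m); simp [mat, hm] at this; exact this
  obtain ⟨a, b, ha, hb, hga, hconj⟩ := X.diag_acts D.hw1 hK (kappa1 K) (phi1 hK) D.frame.fix1 hgd
  obtain ⟨hm, hkm⟩ := acts_unique hg hga
  obtain ⟨rfl, -, -, rfl⟩ := mat_inj hm
  obtain ⟨α1, hα1, hα1j⟩ := exists_extend chart1 hS hF g (fun x => d0 / d2 / (d1 / d2) * x) hconj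
  have hσ : d0 / d2 / (d1 / d2) = d0 / d1 := by field_simp
  -- the complement of the first radical
  have hpar : ∀ t : K, (α1 ⟨t, 0, 0, 0⟩).t = d0 / d1 * t := by
    intro t
    obtain ⟨n, t', hnt⟩ := chart1.cover (α1 ⟨t, 0, 0, 0⟩)
    have ht' : (α1 ⟨t, 0, 0, 0⟩).t = t' := by rw [hnt]; simp [chart1]
    have key : cj F e chart1 (chart1.par t') • (g • ((1, 0, 0) : M)) =
        g • cj F e chart1 (chart1.par t) • ((1, 0, 0) : M) := by
      refine chart1.j_inj ?_
      rw [← hα1j, (el_inj e).1 ((cj_smul (F := F) (ch := chart1) (chart1.par t) ((1, 0, 0) : M)).trans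
        (conj_el e _ _)), map_mul, map_mul, map_inv, hα1j,
        (el_inj e).1 ((cj_smul (F := F) (ch := chart1) (chart1.par t') (g • ((1, 0, 0) : M))).trans
        (conj_el e _ _))]
      show chart1.par t' * chart1.j _ * (chart1.par t')⁻¹ = α1 ⟨t, 0, 0, 0⟩ * _ * (α1 ⟨t, 0, 0, 0⟩)⁻¹
      obtain ⟨⟨v, z, c⟩, hv⟩ : ∃ w : M, g • ((1, 0, 0) : M) = w := ⟨_, rfl⟩
      rw [hv, hnt, show chart1.j n * chart1.par t' * chart1.j (v, z, c) *
        (chart1.j n * chart1.par t')⁻¹ = chart1.j n *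
        (chart1.par t' * chart1.j (v, z, c) * (chart1.par t')⁻¹) * (chart1.j n)⁻¹ by group,
        chart1.conj, ← chart1.j_add, add_comm n, chart1.j_add, mul_inv_cancel_right]
    rw [← mul_smul g, show g * cj F e chart1 (chart1.par t) = _ from hconj t, mul_smul] at key
    obtain ⟨⟨v, z, c⟩, hv⟩ : ∃ w : M, g • ((1, 0, 0) : M) = w := ⟨_, rfl⟩
    have hv1 : v = d1 / d2 := by
      have := congrArg Prod.fst (hga.1 ((1, 0, 0) : M))
      rw [hv] at this
      simpa [mat] using this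
    rw [hv, cj_par, X.smul_tr] at key
    have h3 := congrArg (fun m : M => m.2.1) key
    simp only [add_right_inj] at h3
    have h4 := mul_right_cancel₀ (by rw [hv1]; exact div_ne_zero h1 h2) h3
    rw [ht', h4, hσ]
  -- adjust on the second radical
  obtain ⟨g2, hg2⟩ := exists_restrict chart2 hα1 (rad_invariant hS hF hα1).2
  obtain ⟨p2, q2, r2, s2, a2, b2, d', ha2, hb2, hdet2, hg2a, -, -⟩ :=
    Y.exists_acts D.hw2 hK (MonoidHom.id K) (fun a b s v => phi2 a b s v) D.frame.fix2 g2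
  have hp2 : ∀ t, p2 * t + q2 * D.l2 t = d0 / d1 * t := fun t => by
    have h3 := congrArg Prod.fst (hg2a.1 ((t, 0, 0) : M))
    simp [mat] at h3
    rw [← h3]
    have h4 := congrArg U4.t (hg2 ((t, 0, 0) : M))
    exact h4.trans (hpar t)
  have hx : ∀ z : K, q2 * z = 0 ∧ s2 * z = d0 / d2 * z := fun z => by
    have h3 := hg2a.1 ((0, z, 0) : M)
    have h5 := hα1j ((0, z, 0) : M)
    have h6 := hga.1 ((0, z, 0) : M)
    have h4 := (hg2 ((0, z, 0) : M)).trans h5
    simp [mat] at h3 h6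
    have hu := congrArg U4.u h4
    have ht := congrArg U4.t h4
    have hxx := congrArg U4.x h4
    change (g2 • ((0, z, 0) : M)).1 = 0 at ht
    change (g2 • ((0, z, 0) : M)).2.1 = (g • ((0, z, 0) : M)).2.1 at hxx
    obtain ⟨h31, h32⟩ := h3
    obtain ⟨h61, h62⟩ := h6
    rw [ht] at h31 h32
    rw [h61] at h62
    rw [hxx] at h32
    simp at h32 h62
    exact ⟨h31.symm, h32.symm.trans h62⟩
  have hq2 : q2 = 0 := by simpa using (hx 1).1
  have hs2 : s2 = d0 / d2 := by simpa using (hx 1).2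
  subst hq2 hs2
  have hp : p2 = d0 / d1 := by simpa using hp2 1
  subst hp
  set y := r2 / (d0 / d1) with hy
  refine ⟨MulAut.conj ⟨0, y, 0, 0⟩ * α1, mul_mem (inner_mem_AutU _) hα1, fun c => ?_, ?_⟩
  · rw [MulAut.mul_apply, MulAut.conj_apply]
    have h5 := hα1j ((0, 0, c) : M)
    rw [hga.2] at h5
    change α1 ⟨0, 0, 0, c⟩ = ⟨0, 0, 0, (d1 / d2 * (d0 / d2))⁻¹ * c⟩ at h5
    rw [h5, mul_inv_eq_iff_eq_mul, show d1 / d2 * (d0 / d2) = a' * b' by
      rw [inv_injective hkk]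
      have := hK d2 h2
      field_simp
      linear_combination -this, hkk]
    ext <;> simp [add_comm]
  · have hA : ∀ m : M, ∀ a, a = chart1.j m → (MulAut.conj (⟨0, y, 0, 0⟩ : U4 K) * α1) a =
        chart1.j (g • m) := by
      rintro m a rfl
      rw [MulAut.mul_apply, hα1j, MulAut.conj_apply, rad1_comm (a := ⟨0, y, 0, 0⟩) (b := chart1.j (g • m)) rfl rfl, mul_inv_cancel_right]
    have hB : ∀ t, ((MulAut.conj (⟨0, y, 0, 0⟩ : U4 K) * α1) ⟨t, 0, 0, 0⟩).t = d0 / d1 * t ∧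
        ((MulAut.conj (⟨0, y, 0, 0⟩ : U4 K) * α1) ⟨t, 0, 0, 0⟩).u = 0 ∧
        ((MulAut.conj (⟨0, y, 0, 0⟩ : U4 K) * α1) ⟨t, 0, 0, 0⟩).x +
          D.l2 (d0 / d1 * t) = d0 / d2 * D.l2 t := by
      intro t
      have h4 := (el_inj e).1 ((cj_smul (F := F) (ch := chart2) (chart2.par y)
        (g2 • ((t, 0, 0) : M))).trans (conj_el e _ _))
      rw [hg2] at h4
      rw [MulAut.mul_apply, MulAut.conj_apply]
      change chart2.j _ = (⟨0, y, 0, 0⟩ : U4 K) * α1 ⟨t, 0, 0, 0⟩ * (⟨0, y, 0, 0⟩ : U4 K)⁻¹ at h4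
      rw [← h4]
      have h5 := hg2a.1 ((t, 0, 0) : M)
      obtain ⟨⟨v, z, c⟩, hv⟩ : ∃ w : M, g2 • ((t, 0, 0) : M) = w := ⟨_, rfl⟩
      rw [hv] at h5 ⊢
      simp [mat] at h5
      obtain ⟨rfl, h52⟩ := h5
      rw [cj_par]
      refine ⟨rfl, rfl, ?_⟩
      show z + y * (d0 / d1 * t) + D.l2 (d0 / d1 * t) = _
      have : y * (d0 / d1 * t) = r2 * t := by rw [hy]; field_simp
      have h2' : (2 : K) = 0 := CharTwo.two_eq_zero
      linear_combination this + h52 + r2 * t * h2'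
    intro a
    obtain ⟨hB1, hB2, hB3⟩ := hB a.t
    have ha : a = chart1.j (a.u, a.x, a.y) * ⟨a.t, 0, 0, 0⟩ := by
      ext <;> simp [chart1, CharTwo.two_eq_zero]
    have h6 := hga.1 ((a.u, a.x, a.y) : M)
    obtain ⟨⟨v, z, c⟩, hv⟩ : ∃ w : M, g • ((a.u, a.x, a.y) : M) = w := ⟨_, rfl⟩
    rw [hv] at h6
    simp [mat] at h6
    obtain ⟨rfl, h62⟩ := h6
    have himg := congrArg (⇑(MulAut.conj (⟨0, y, 0, 0⟩ : U4 K) * α1)) ha
    rw [map_mul, hA _ _ rfl, hv] at himg
    rw [himg]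
    refine ⟨?_, ?_, ?_⟩
    · show 0 + _ = _; rw [zero_add, hB1]
    · show _ + _ = _; rw [hB2, add_zero]; rfl
    · rw [U4.mul_x, U4.mul_t, U4.mul_u, hB1, hB2, show (chart1.j ((d1 / d2 * a.u, z, c) : M)).t = 0 from rfl,
        zero_add, zero_mul, add_zero, add_zero]
      show z + _ + D.l1 (d1 / d2 * a.u) + D.l2 (d0 / d1 * a.t) = _
      linear_combination h62 + hB3

end Cfsg.Agent.Lib.SpFourExotic
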