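import Cfsg.Agent.Lib.SpFourExotic.GL
import Cfsg.Agent.Lib.SpFourExotic.Lift

/-!
A finite group with the given Sylow 2-subgroup inducing the quotient system.
-/

set_option autoImplicit false

namespace Cfsg.Agent.Lib.SpFourExotic

open Cfsg Cfsg.FusionSystem Matrix Cfsg.Agent.Lib.GLFlags Cfsg.Agent.Lib.PSLAut
open scoped MatrixGroups

universe uK

variable {Ω : Type*} [Group Ω] {S : Subgroup Ω} [Finite S] {K : Type uK} [Field K] [CharP K 2]
variable {F : FusionSystem S} {e : U4 K ≃* ↥S}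

omit [Finite S] [CharP K 2] in
theorem det_ne (g : GL (Fin 3) K) : g.val.det ≠ 0 :=
  (g.isUnit.map (Matrix.detMonoidHom (n := Fin 3) (R := K))).ne_zero

variable (F e) in
/-- The elements with admissible determinant. -/
def Hgp : Subgroup (GL (Fin 3) K) where
  carrier := {g | InKc F e g.val.det⁻¹}
  one_mem' := by
    show InKc F e (1 : GL (Fin 3) K).val.det⁻¹
    rw [Units.val_one, Matrix.det_one, inv_one]
    exact InKc.one
  mul_mem' {a b} ha hb := by
    show InKc F e (a * b).val.det⁻¹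
    rw [Units.val_mul, Matrix.det_mul, mul_inv]
    exact InKc.mul ha hb
  inv_mem' {a} ha := by
    show InKc F e a⁻¹.val.det⁻¹
    have h : a⁻¹.val.det = a.val.det⁻¹ := by
      refine eq_inv_of_mul_eq_one_left ?_
      rw [← Matrix.det_mul, ← Units.val_mul, inv_mul_cancel, Units.val_one, Matrix.det_one]
    rw [h]
    exact InKc.inv (inv_ne_zero (det_ne a)) ha

theorem det_mem_unitri [Fintype K] {g : GL (Fin 3) K} (hg : g ∈ unitriGL 3 K) : g.val.det = 1 :=
  det_eq_one_of_mem hg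

variable [Fintype K] {hS : IsPGroup 2 S} {hF : F.IsSaturated 2}

/-- The projection into the admissible group. -/
def Plane.pi (D : Plane F e hS hF) : U4 K →* Hgp F e :=
  (uG D.l1 D.l2).codRestrict (Hgp F e) fun a => by
    show InKc F e (uG D.l1 D.l2 a).val.det⁻¹
    rw [det_mem_unitri (uG_range D.l1 D.l2 ▸ ⟨a, rfl⟩), inv_one]
    exact InKc.one

theorem Plane.mem_ker (D : Plane F e hS hF) {a : U4 K} :
    a ∈ D.pi.ker ↔ a.t = 0 ∧ a.u = 0 ∧ a.x = 0 := by
  rw [← mem_ker_uG D.l1 D.l2, MonoidHom.mem_ker, MonoidHom.mem_ker, Subtype.ext_iff]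
  rfl

theorem Plane.eq_axis (D : Plane F e hS hF) (c : D.pi.ker) :
    (c : U4 K) = ⟨0, 0, 0, (c : U4 K).y⟩ := by
  obtain ⟨h1, h2, h3⟩ := D.mem_ker.1 c.2
  exact U4.ext h1 h2 h3 rfl

omit [Fintype K] in
theorem axis_mul (c d : K) : (⟨0, 0, 0, c⟩ : U4 K) * ⟨0, 0, 0, d⟩ = ⟨0, 0, 0, c + d⟩ := by
  ext <;> simp [CharTwo.two_eq_zero]

/-- The scalar action on the kernel. -/
def Plane.scale (D : Plane F e hS hF) (k : Kˣ) : MulAut D.pi.ker where
  toFun c := ⟨⟨0, 0, 0, k * (c : U4 K).y⟩, D.mem_ker.2 ⟨rfl, rfl, rfl⟩⟩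
  invFun c := ⟨⟨0, 0, 0, (k⁻¹ : Kˣ) * (c : U4 K).y⟩, D.mem_ker.2 ⟨rfl, rfl, rfl⟩⟩
  left_inv c := Subtype.ext (by
    conv_rhs => rw [D.eq_axis c]
    simp)
  right_inv c := Subtype.ext (by
    conv_rhs => rw [D.eq_axis c]
    simp)
  map_mul' c d := Subtype.ext (by
    show (⟨0, 0, 0, k * (((c : U4 K) * d).y)⟩ : U4 K) = _ * _
    obtain ⟨h1, h2, h3⟩ := D.mem_ker.1 c.2
    rw [axis_mul, U4.mul_y, h1]
    simp [mul_add])

/-- The action of the admissible group on the kernel. -/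
def Plane.chi (D : Plane F e hS hF) : Hgp F e →* MulAut D.pi.ker where
  toFun g := D.scale (Units.mk0 _ (inv_ne_zero (det_ne (g : GL (Fin 3) K))))
  map_one' := MulEquiv.ext fun c => Subtype.ext (by
    show (⟨0, 0, 0, _ * (c : U4 K).y⟩ : U4 K) = c
    conv_rhs => rw [D.eq_axis c]
    simp)
  map_mul' g h := MulEquiv.ext fun c => Subtype.ext (by
    show (⟨0, 0, 0, _⟩ : U4 K) = (⟨0, 0, 0, _⟩ : U4 K)
    simp [Plane.scale, mul_inv, mul_assoc]
    ring)

theorem Plane.chi_apply (D : Plane F e hS hF) (g : Hgp F e) (c : D.pi.ker) :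
    (D.chi g c : U4 K) = ⟨0, 0, 0, (g : GL (Fin 3) K).val.det⁻¹ * (c : U4 K).y⟩ := rfl

/-- A permutation element. -/
noncomputable def permH (F : FusionSystem S) (e : U4 K ≃* ↥S) (w : Equiv.Perm (Fin 3)) : Hgp F e :=
  ⟨permGL w, by
    show InKc F e (permGL w : GL (Fin 3) K).val.det⁻¹
    rw [det_permGL, inv_one]; exact InKc.one⟩

omit [Fintype K] in
theorem permH_mul (v w : Equiv.Perm (Fin 3)) : permH F e (v * w) = permH F e v * permH F e w :=
  Subtype.ext (permGL_mul v w)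

variable (D : Plane F e hS hF)

theorem Plane.dom_entry {g : Hgp F e} {a : U4 K} (h : a ∈ Extension.dom D.pi g) {i j : Fin 3}
    (hij : j < i) : (((g : GL (Fin 3) K)⁻¹ * uG D.l1 D.l2 a * g : GL (Fin 3) K)).val i j = 0 := by
  obtain ⟨b, hb⟩ := h
  have : ((g : GL (Fin 3) K)⁻¹ * uG D.l1 D.l2 a * g) ∈ unitriGL 3 K := by
    rw [← uG_range D.l1 D.l2]
    exact ⟨b, congrArg Subtype.val hb⟩
  exact (mem_unitriGL.1 this).2 i j hij

omit [CharP K 2] [Fintype K] in
theorem perm_conj (w : Equiv.Perm (Fin 3)) (g : GL (Fin 3) K) (i j : Fin 3) :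
    ((permGL w)⁻¹ * g * permGL w).val i j = g.val (w i) (w j) := by
  rw [mul_permGL_apply, ← permGL_inv, Units.val_mul, Matrix.mul_apply, Fintype.sum_eq_single (w i)]
  · simp [permGL_apply]
  · intro k hk
    simp [permGL_apply, Equiv.eq_symm_apply, Ne.symm hk]

theorem Plane.t_eq_zero {w : Equiv.Perm (Fin 3)} {i j : Fin 3} (hij : j < i) (hi : w i = 0)
    (hj : w j = 1) {a : U4 K} (h : a ∈ Extension.dom D.pi (permH F e w)) : a.t = 0 := by
  have := D.dom_entry h hij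
  rw [show ((permH F e w : Hgp F e) : GL (Fin 3) K) = permGL w from rfl, perm_conj, hi, hj,
    uG_val] at this
  simpa using this

theorem Plane.u_eq_zero {w : Equiv.Perm (Fin 3)} {i j : Fin 3} (hij : j < i) (hi : w i = 1)
    (hj : w j = 2) {a : U4 K} (h : a ∈ Extension.dom D.pi (permH F e w)) : a.u = 0 := by
  have := D.dom_entry h hij
  rw [show ((permH F e w : Hgp F e) : GL (Fin 3) K) = permGL w from rfl, perm_conj, hi, hj,
    uG_val] at this
  simpa using this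

theorem Plane.mem_dom_one {a : U4 K} (h : a.t = 0) :
    a ∈ Extension.dom D.pi (permH F e (Equiv.swap 0 1)) := by
  refine ⟨⟨0, a.x + D.l1 a.u, a.u + D.l1 (a.x + D.l1 a.u), 0⟩, Subtype.ext (Units.ext ?_)⟩
  ext i j
  show (uG D.l1 D.l2 _).val i j = ((permGL _)⁻¹ * uG D.l1 D.l2 a * permGL _).val i j
  rw [perm_conj, uG_val, uG_val]
  have h2 : (2 : K) = 0 := CharTwo.two_eq_zero
  fin_cases i <;> fin_cases j <;> simp [Equiv.swap_apply_def, shift, h, add_assoc, CharTwo.add_self_eq_zero]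

theorem Plane.mem_dom_two {a : U4 K} (h : a.u = 0) :
    a ∈ Extension.dom D.pi (permH F e (Equiv.swap 1 2)) := by
  refine ⟨⟨a.x + D.l2 a.t, 0, a.t + D.l2 (a.x + D.l2 a.t), 0⟩, Subtype.ext (Units.ext ?_)⟩
  ext i j
  show (uG D.l1 D.l2 _).val i j = ((permGL _)⁻¹ * uG D.l1 D.l2 a * permGL _).val i j
  rw [perm_conj, uG_val, uG_val]
  fin_cases i <;> fin_cases j <;> simp [Equiv.swap_apply_def, shift, h, add_assoc, CharTwo.add_self_eq_zero]

/-- A lift from a radical. -/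
theorem Plane.good_of_chart {R : Subgroup (U4 K)} {φ : K → K → K} (ch : Chart K R φ)
    (g : Aut' F e ch) (n : Hgp F e) (hdet : (n : GL (Fin 3) K).val.det = 1)
    (hdom : Extension.dom D.pi n ≤ R) (hC : ∀ c : K, ch.j (0, 0, c) = ⟨0, 0, 0, c⟩)
    (hfix : ∀ c : K, g • ((0, 0, c) : K × K × K) = (0, 0, c))
    (hmap : ∀ m, D.pi (ch.j (g • m)) = n⁻¹ * D.pi (ch.j m) * n) :
    Extension.Good D.pi D.chi n := by
  have hex : ∀ σ : Extension.dom D.pi n, ∃ m, ch.j m = (σ : U4 K) := fun σ =>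
    (ch.mem_iff _).1 (hdom σ.2)
  choose m hm using hex
  have hadd : ∀ σ τ, m (σ * τ) = m σ + m τ := fun σ τ => ch.j_inj (by
    rw [hm, ch.j_add, hm, hm]; rfl)
  refine ⟨MonoidHom.mk' (fun σ => ch.j (g • m σ)) (fun σ τ => by
    rw [hadd, smul_add, ch.j_add]), fun σ => ?_, fun c => ?_⟩
  · show D.pi (ch.j (g • m σ)) = _
    rw [hmap, hm]
  · show ch.j (g • m _) = _
    rw [show m ⟨c, Extension.ker_le_dom D.pi n c.2⟩ = (0, 0, (c : U4 K).y) from ch.j_inj (by
      rw [hm, hC]; exact D.eq_axis c), hfix, hC, D.chi_apply]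
    have : ((n⁻¹ : Hgp F e) : GL (Fin 3) K).val.det = 1 := by
      have h := congrArg Matrix.det (Units.inv_mul (n : GL (Fin 3) K))
      rwa [Matrix.det_mul, hdet, mul_one, Matrix.det_one] at h
    rw [this, inv_one, one_mul]

theorem Plane.good_swap01 : Extension.Good D.pi D.chi (permH F e (Equiv.swap 0 1)) := by
  refine D.good_of_chart chart1 D.w1 _ (det_permGL _) (fun a h => ?_) (fun c => rfl) (fun c => ?_)
    fun m => ?_
  · exact D.t_eq_zero (i := 1) (j := 0) (by decide) (by decide) (by decide) h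
  · rw [D.hw1.2, one_mul]
  · have h := D.hw1.1 m
    obtain ⟨⟨v, z, c⟩, hv⟩ : ∃ x, D.w1 • m = x := ⟨_, rfl⟩
    rw [hv] at h ⊢
    simp [mat] at h
    obtain ⟨h1, h2⟩ := h
    refine Subtype.ext (Units.ext ?_)
    ext i j
    show (uG D.l1 D.l2 _).val i j = ((permGL _)⁻¹ * uG D.l1 D.l2 _ * permGL _).val i j
    rw [perm_conj, uG_val, uG_val]
    subst h1
    fin_cases i <;> fin_cases j <;> simp [Equiv.swap_apply_def, shift, chart1, h2]
    all_goals (simp only [map_add] at h2; linear_combination h2)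

theorem Plane.good_swap12 : Extension.Good D.pi D.chi (permH F e (Equiv.swap 1 2)) := by
  refine D.good_of_chart chart2 D.w2 _ (det_permGL _) (fun a h => ?_) (fun c => rfl) (fun c => ?_)
    fun m => ?_
  · exact D.u_eq_zero (i := 2) (j := 1) (by decide) (by decide) (by decide) h
  · rw [D.hw2.2, one_mul]
  · have h := D.hw2.1 m
    obtain ⟨⟨v, z, c⟩, hv⟩ : ∃ x, D.w2 • m = x := ⟨_, rfl⟩
    rw [hv] at h ⊢
    simp [mat] at h
    obtain ⟨h1, h2⟩ := h
    refine Subtype.ext (Units.ext ?_)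
    ext i j
    show (uG D.l1 D.l2 _).val i j = ((permGL _)⁻¹ * uG D.l1 D.l2 _ * permGL _).val i j
    rw [perm_conj, uG_val, uG_val]
    subst h1
    fin_cases i <;> fin_cases j <;> simp [Equiv.swap_apply_def, shift, chart2, h2]
    all_goals (simp only [map_add] at h2; linear_combination h2)

theorem Plane.good_one : Extension.Good D.pi D.chi (1 : Hgp F e) :=
  ⟨(Extension.dom D.pi 1).subtype, fun σ => by simp, fun c => by
    show (c : U4 K) = _
    rw [inv_one, map_one]; rfl⟩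

theorem Plane.good_perm (w : Equiv.Perm (Fin 3)) : Extension.Good D.pi D.chi (permH F e w) := by
  have h10 : ∀ v : Equiv.Perm (Fin 3), (∃ i j, j < i ∧ (Equiv.swap (0 : Fin 3) 1 * v) i = 0 ∧ (Equiv.swap (0 : Fin 3) 1 * v) j = 1) →
      Extension.Good D.pi D.chi (permH F e v) →
      Extension.Good D.pi D.chi (permH F e (Equiv.swap 0 1 * v)) := fun v ⟨i, j, hij, hi, hj⟩ hv => by
    rw [permH_mul]
    refine Good.mul' D.good_swap01 hv fun a ha => D.mem_dom_one ?_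
    rw [← permH_mul] at ha
    exact D.t_eq_zero hij hi hj ha
  have h12 : ∀ v : Equiv.Perm (Fin 3), (∃ i j, j < i ∧ (Equiv.swap (1 : Fin 3) 2 * v) i = 1 ∧ (Equiv.swap (1 : Fin 3) 2 * v) j = 2) →
      Extension.Good D.pi D.chi (permH F e v) →
      Extension.Good D.pi D.chi (permH F e (Equiv.swap 1 2 * v)) := fun v ⟨i, j, hij, hi, hj⟩ hv => by
    rw [permH_mul]
    refine Good.mul' D.good_swap12 hv fun a ha => D.mem_dom_two ?_
    rw [← permH_mul] at ha
    exact D.u_eq_zero hij hi hj ha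
  have hall : ∀ w : Equiv.Perm (Fin 3), w = 1 ∨ w = Equiv.swap 0 1 ∨ w = Equiv.swap 1 2 ∨
      w = Equiv.swap 0 1 * Equiv.swap 1 2 ∨ w = Equiv.swap 1 2 * Equiv.swap 0 1 ∨
      w = Equiv.swap 0 1 * (Equiv.swap 1 2 * Equiv.swap 0 1) := by decide
  rcases hall w with rfl | rfl | rfl | rfl | rfl | rfl
  · rw [show permH F e (1 : Equiv.Perm (Fin 3)) = 1 from Subtype.ext permGL_one]
    exact D.good_one
  · exact D.good_swap01
  · exact D.good_swap12
  · exact h10 _ (by decide) D.good_swap12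
  · exact h12 _ (by decide) D.good_swap01
  · exact h10 _ (by decide) (h12 _ (by decide) D.good_swap01)

theorem Plane.good_mul_diag {n : Hgp F e} (hn : Extension.Good D.pi D.chi n) (d : Fin 3 → Kˣ)
    (hd : dG d ∈ Hgp F e) : Extension.Good D.pi D.chi (n * ⟨dG d, hd⟩) := by
  set g : Hgp F e := ⟨dG d, hd⟩
  have hk : InKc F e ((d 0 : K)⁻¹ * (d 1 : K)⁻¹ * (d 2 : K)⁻¹)⁻¹ := by
    have h : InKc F e ((d 0 : K) * d 1 * d 2)⁻¹ := by
      have := hd; change InKc F e (dG d).val.det⁻¹ at this; rwa [det_dG] at this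
    have h2 := InKc.inv (inv_ne_zero (mul_ne_zero (mul_ne_zero (d 0).ne_zero (d 1).ne_zero) (d 2).ne_zero)) h
    simpa [mul_inv, inv_inv, mul_comm, mul_assoc, mul_left_comm] using h2
  obtain ⟨α, -, hαc, hα⟩ := D.diag_lift (inv_ne_zero (d 0).ne_zero) (inv_ne_zero (d 1).ne_zero)
    (inv_ne_zero (d 2).ne_zero) hk
  have hπ : ∀ a, D.pi (α a) = g⁻¹ * D.pi a * g := fun a => by
    refine Subtype.ext (Units.ext ?_)
    obtain ⟨h1, h2, h3⟩ := hα a
    show (uG D.l1 D.l2 (α a)).val = ((dG d)⁻¹ * uG D.l1 D.l2 a * dG d).val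
    rw [Units.val_mul, Units.val_mul, uG_val, uG_val]
    show _ = Matrix.diagonal _ * _ * Matrix.diagonal _
    have h0 := (d 0).ne_zero
    have h1' := (d 1).ne_zero
    have h2' := (d 2).ne_zero
    ext i j
    simp only [Matrix.mul_diagonal, Matrix.diagonal_mul]
    fin_cases i <;> fin_cases j <;> simp [shift, h1, h2] at h3 ⊢
    · field_simp
    · rw [h3]; field_simp
    · field_simp
  have hgood : Extension.Good D.pi D.chi g := by
    refine ⟨α.toMonoidHom.comp (Extension.dom D.pi g).subtype, fun σ => hπ σ, fun c => ?_⟩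
    show α (c : U4 K) = _
    rw [D.eq_axis c, hαc, D.chi_apply]
    congr 2
    show _ = ((dG d)⁻¹ : GL (Fin 3) K).val.det⁻¹
    rw [show ((dG d)⁻¹ : GL (Fin 3) K).val = (dG fun i => (d i)⁻¹).val from rfl, det_dG]
    simp
  refine Good.mul' hn hgood fun σ hσ => ?_
  obtain ⟨b, hb⟩ := hσ
  refine ⟨α.symm b, ?_⟩
  have h := hπ (α.symm b)
  rw [MulEquiv.apply_symm_apply, hb] at h
  calc D.pi (α.symm b) = g * (g⁻¹ * D.pi (α.symm b) * g) * g⁻¹ := by group
    _ = n⁻¹ * D.pi σ * n := by rw [← h]; group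

/-- The realising group. -/
theorem Plane.exists_group :
    ∃ (E : Type uK) (_ : Group E) (_ : Finite E) (ρ : E →* GL (Fin 3) K) (ι : U4 K →* E),
      Function.Injective ι ∧ (∀ a, ρ (ι a) = uG D.l1 D.l2 a) ∧
      (∀ ε, ρ ε = 1 → ∃ c : K, ε = ι ⟨0, 0, 0, c⟩) ∧ (∀ ε, InKc F e (ρ ε).val.det⁻¹) ∧
      (∀ g : GL (Fin 3) K, InKc F e g.val.det⁻¹ → ∃ ε, ρ ε = g) ∧
      (∃ T : Sylow 2 E, (T : Subgroup E) = ι.range) ∧
      ∀ (ε : E) (c : K), ε * ι ⟨0, 0, 0, c⟩ * ε⁻¹ = ι ⟨0, 0, 0, (ρ ε).val.det⁻¹ * c⟩ := by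
  have : Fact (Nat.Prime 2) := ⟨Nat.prime_two⟩
  have hrange : D.pi.range = (unitriGL 3 K).subgroupOf (Hgp F e) := by
    ext g
    rw [Subgroup.mem_subgroupOf, ← uG_range D.l1 D.l2]
    exact ⟨fun ⟨a, ha⟩ => ⟨a, congrArg Subtype.val ha⟩, fun ⟨a, ha⟩ => ⟨a, Subtype.ext ha⟩⟩
  have hU : unitriGL 3 K ≤ Hgp F e := fun g hg => by
    show InKc F e g.val.det⁻¹
    rw [det_mem_unitri hg, inv_one]; exact InKc.one
  have hidx : ¬ 2 ∣ D.pi.range.index := by
    rw [hrange]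
    exact fun h => not_dvd_index_unitriGL (n := 3) (F := K) (p := 2)
      (Subgroup.relIndex_mul_index hU ▸ h.mul_right _)
  have hC : ∀ c ∈ D.pi.ker, ∀ s : U4 K, c * s = s * c := fun c hc s =>
    mid_central (mem_mid.2 ⟨(D.mem_ker.1 hc).1, (D.mem_ker.1 hc).2.1⟩) s
  have hχ : ∀ h ∈ D.pi.range, D.chi h = 1 := fun h hh => MulEquiv.ext fun c => Subtype.ext (by
    rw [hrange, Subgroup.mem_subgroupOf] at hh
    rw [D.chi_apply, det_mem_unitri hh, inv_one, one_mul]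
    exact (D.eq_axis c).symm)
  have hθ : ∀ x : Hgp F e, ∃ g, (∃ a ∈ D.pi.range, ∃ b ∈ D.pi.range, g = a * x * b) ∧
      Extension.Good D.pi D.chi g := by
    intro x
    obtain ⟨w, d, a, ha, b, hb, he⟩ := exists_monomial (x : GL (Fin 3) K)
    have hd : dG d ∈ Hgp F e := by
      have h := (Hgp F e).mul_mem (inv_mem (permH F e w).2)
        ((Hgp F e).mul_mem ((Hgp F e).mul_mem (hU ha) x.2) (hU hb))
      rw [← he, show ((permH F e w : Hgp F e) : GL (Fin 3) K) = permGL w from rfl,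
        inv_mul_cancel_left] at h
      exact h
    have hg := D.good_mul_diag (D.good_perm w) d hd
    have he' : permH F e w * ⟨dG d, hd⟩ = ⟨a, hU ha⟩ * x * ⟨b, hU hb⟩ := Subtype.ext he
    have ha' : (⟨a, hU ha⟩ : Hgp F e) ∈ D.pi.range := by rw [hrange]; exact ha
    have hb' : (⟨b, hU hb⟩ : Hgp F e) ∈ D.pi.range := by rw [hrange]; exact hb
    exact ⟨_, ⟨_, ha', _, hb', he'⟩, hg⟩
  have hSU : IsPGroup 2 (U4 K) := hS.of_equiv e.symm
  obtain ⟨E, iE, fE, ρ, ι, hinj, hsurj, hρι, hker, hT, hconj⟩ :=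
    Extension.exists_extension D.pi D.chi hSU hC hidx hχ hθ
  refine ⟨E, iE, fE, (Hgp F e).subtype.comp ρ, ι, hinj,
    fun a => congrArg Subtype.val (hρι a), fun ε hε => ?_, fun ε => (ρ ε).2, fun g hg => ?_, hT,
    fun ε c => ?_⟩
  · obtain ⟨c, rfl⟩ := hker ε (Subtype.ext hε)
    exact ⟨(c : U4 K).y, congrArg ι (D.eq_axis c)⟩
  · obtain ⟨ε, hε⟩ := hsurj ⟨g, hg⟩
    exact ⟨ε, congrArg Subtype.val hε⟩
  · have h := hconj ε ⟨⟨0, 0, 0, c⟩, D.mem_ker.2 ⟨rfl, rfl, rfl⟩⟩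
    rw [D.chi_apply] at h
    exact h

end Cfsg.Agent.Lib.SpFourExotic
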