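import Cfsg.Agent.Lib.SpFourExotic.Group

/-!
The automorphisms of a radical induced by the realising group are those of the system up to a
central twist.
-/

set_option autoImplicit false

namespace Cfsg.Agent.Lib.SpFourExotic

open Cfsg Cfsg.FusionSystem Matrix
open scoped MatrixGroups

universe uK

variable {Ω : Type*} [Group Ω] {S : Subgroup Ω} [Finite S] {K : Type uK} [Field K] [CharP K 2]
  [Fintype K]

local notation "M" => (K × K × K)

omit [CharP K 2] [Fintype K] in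
/-- The additive automorphisms of `K³`, written multiplicatively. -/
abbrev AEnd (K : Type uK) [Field K] : Type uK := (AddMonoid.End (K × K × K))ˣ

omit [CharP K 2] [Fintype K] in
/-- The action on the quotient by the axis and on the axis. -/
def Act {G : Type*} [SMul G (K × K × K)] (l : K →+ K) (g : G) (L : K × K → K × K) (k : K) : Prop :=
  (∀ m : M, ((g • m).1, (g • m).2.1 + l (g • m).1) = L (m.1, m.2.1 + l m.1)) ∧
    ∀ c : K, g • ((0, 0, c) : M) = (0, 0, k * c)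

theorem Act.mul {G : Type*} [Monoid G] [MulAction G (K × K × K)] {l : K →+ K} {g h : G}
    {L L' : K × K → K × K} {k k' : K} (hg : Act l g L k) (hh : Act l h L' k') :
    Act l (g * h) (L ∘ L') (k * k') :=
  ⟨fun m => by rw [mul_smul, hg.1, hh.1]; rfl,
    fun c => by rw [mul_smul, hh.2, hg.2, mul_assoc]⟩

section EAut

variable {R : Subgroup (U4 K)} {φ : K → K → K} (ch : Chart K R φ)
variable {E : Type*} [Group E] (ι : U4 K →* E)

/-- The maps induced on a radical by conjugation. -/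
def EAut : Submonoid (AEnd K) where
  carrier := {β | ∃ ε : E, ∀ m, ε * ι (ch.j m) * ε⁻¹ = ι (ch.j (β • m))}
  one_mem' := ⟨1, fun m => by simp⟩
  mul_mem' := by
    rintro a b ⟨ε, hε⟩ ⟨η, hη⟩
    refine ⟨ε * η, fun m => ?_⟩
    rw [mul_smul, ← hε, ← hη]
    group

theorem exists_beta (hinj : Function.Injective ι) {ρ : E →* GL (Fin 3) K} {π : U4 K →* GL (Fin 3) K}
    (hρι : ∀ a, ρ (ι a) = π a) (hker : ∀ ε, ρ ε = 1 → ∃ c : K, ε = ι ⟨0, 0, 0, c⟩)
    (hC : ∀ c : K, ch.j (0, 0, c) = ⟨0, 0, 0, c⟩)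
    (hconj : ∀ (ε : E) (c : K), ε * ι ⟨0, 0, 0, c⟩ * ε⁻¹ = ι ⟨0, 0, 0, (ρ ε).val.det⁻¹ * c⟩)
    {l : K →+ K} {L : K × K → K × K} {ε : E}
    (h : ∀ m m' : M, (m'.1, m'.2.1 + l m'.1) = L (m.1, m.2.1 + l m.1) →
      ρ ε * π (ch.j m) = π (ch.j m') * ρ ε) :
    ∃ β ∈ EAut ch ι, Act l β L (ρ ε).val.det⁻¹ := by
  have hex : ∀ m : M, ∃ m' : M, ε * ι (ch.j m) * ε⁻¹ = ι (ch.j m') ∧
      (m'.1, m'.2.1 + l m'.1) = L (m.1, m.2.1 + l m.1) := by
    intro m
    set x := L (m.1, m.2.1 + l m.1) with hx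
    have h0 : ((x.1, x.2 - l x.1, (0 : K)) : M).2.1 + l ((x.1, x.2 - l x.1, (0 : K)) : M).1 = x.2 :=
      sub_add_cancel _ _
    have h1 := h m (x.1, x.2 - l x.1, 0) (Prod.ext rfl h0)
    obtain ⟨c, hc⟩ := hker ((ι (ch.j (x.1, x.2 - l x.1, 0)))⁻¹ * (ε * ι (ch.j m) * ε⁻¹)) (by
      rw [map_mul, map_mul, map_mul, map_inv, map_inv, hρι, hρι, h1]
      group)
    refine ⟨(x.1, x.2 - l x.1, c), ?_, Prod.ext rfl (sub_add_cancel _ _)⟩
    rw [← mul_inv_cancel_left (ι (ch.j (x.1, x.2 - l x.1, 0))) (ε * ι (ch.j m) * ε⁻¹), hc, ← hC,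
      ← map_mul, ← ch.j_add]
    simp
  choose f hf hfL using hex
  have hadd : ∀ m n, f (m + n) = f m + f n := fun m n => ch.j_inj (hinj (by
    rw [← hf, ch.j_add, ch.j_add, map_mul, map_mul, ← hf, ← hf]; group))
  have hfinj : Function.Injective f := fun m n hmn => ch.j_inj (hinj (by
    have := (hf m).trans ((congrArg (fun x => ι (ch.j x)) hmn).trans (hf n).symm)
    simpa using this))
  let q : M ≃+ M := AddEquiv.ofBijective (AddMonoidHom.mk' f hadd)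
    (Finite.injective_iff_bijective.1 hfinj)
  let β : AEnd K := ⟨q.toAddMonoidHom, q.symm.toAddMonoidHom,
    AddMonoidHom.ext fun m => q.apply_symm_apply m, AddMonoidHom.ext fun m => q.symm_apply_apply m⟩
  refine ⟨β, ⟨ε, hf⟩, hfL, fun c => ch.j_inj (hinj ?_)⟩
  show ι (ch.j (f _)) = _
  rw [← hf, hC, hC, hconj]

/-- A map acting trivially whose cube is a conjugation inside the radical is trivial. -/
theorem beta_eq_one (hinj : Function.Injective ι) {ρ : E →* GL (Fin 3) K}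
    {π : U4 K →* GL (Fin 3) K} (hρι : ∀ a, ρ (ι a) = π a)
    (hker : ∀ ε, ρ ε = 1 → ∃ c : K, ε = ι ⟨0, 0, 0, c⟩)
    (hC : ∀ c : K, ch.j (0, 0, c) = ⟨0, 0, 0, c⟩) {l : K →+ K} {β : AEnd K} {ε : E}
    (hβ : ∀ m, ε * ι (ch.j m) * ε⁻¹ = ι (ch.j (β • m))) (hact : Act l β id 1)
    {n : M} (h3 : (ρ ε) ^ 3 = π (ch.j n)) : β = 1 := by
  obtain ⟨c, hc⟩ := hker ((ι (ch.j n))⁻¹ * ε ^ 3) (by
    rw [map_mul, map_inv, map_pow, hρι, h3, inv_mul_cancel])
  have he : ε ^ 3 = ι (ch.j (n + (0, 0, c))) := by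
    rw [ch.j_add, map_mul, hC, ← hc, mul_inv_cancel_left]
  have h3β : ∀ m, β • β • β • m = m := fun m => ch.j_inj (hinj (by
    rw [← hβ, ← hβ, ← hβ, show ε * (ε * (ε * ι (ch.j m) * ε⁻¹) * ε⁻¹) * ε⁻¹ =
      ε ^ 3 * ι (ch.j m) * (ε ^ 3)⁻¹ by rw [pow_succ, pow_two]; group, he, ← map_mul, ← ch.j_add, add_comm, ch.j_add,
      map_mul, mul_inv_cancel_right]))
  have h2β : ∀ m : M, β • β • m = m := fun m => by
    obtain ⟨f, hf⟩ : ∃ f, β • m = m + (0, 0, f) := by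
      refine ⟨(β • m).2.2 - m.2.2, ?_⟩
      obtain ⟨h1, h2⟩ : (β • m).1 = m.1 ∧ (β • m).2.1 + l (β • m).1 = m.2.1 + l m.1 :=
        Prod.ext_iff.1 (hact.1 m)
      rw [h1] at h2
      exact Prod.ext (by simp [h1]) (Prod.ext (by simp [add_right_cancel h2]) (by simp))
    rw [hf, smul_add, hf, show β • ((0, 0, f) : M) = (0, 0, f) from
      (hact.2 f).trans (by rw [one_mul]), add_assoc, Setting.add_self_M, add_zero]
  refine Units.ext (AddMonoidHom.ext fun m => ?_)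
  show β • m = m
  have h := h3β m
  rw [h2β (β • m)] at h
  exact h

end EAut

section Average

variable {G : Type*} [Group G] [Finite G] [DistribMulAction G (K × K × K)]
  (B : Submonoid (AEnd K)) (l : K →+ K) (A : Subgroup G)

/-- Two groups with the same images differ by a twist along the axis. -/
theorem exists_twist (hA : ¬ 2 ∣ A.index)
    (hGB : ∀ g : G, ∃ β ∈ B, ∃ L k, Act l g L k ∧ Act l β L k)
    (hBG : ∀ β ∈ B, ∃ g : G, ∃ L k, Act l g L k ∧ Act l β L k)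
    (hG : ∀ g : G, Act l g id 1 → g = 1) (hB : ∀ β ∈ B, Act l β id 1 → β = 1)
    (hAB : ∀ a ∈ A, ∃ β ∈ B, ∀ m : M, β • m = a • m)
    (hsv : ∀ z : K, ∃ a ∈ A, ∃ c : K, a • ((1, 0, 0) : M) = (1, z, c))
    (hfix : ∀ a ∈ A, ∀ c : K, a • ((0, 0, c) : M) = (0, 0, c)) :
    ∃ η : K →+ K, (∀ g : G, ∃ β ∈ B, ∀ m : M,
        β • (m + (0, 0, η m.1)) = g • m + (0, 0, η (g • m).1)) ∧
      ∀ β ∈ B, ∃ g : G, ∀ m : M, β • (m + (0, 0, η m.1)) = g • m + (0, 0, η (g • m).1) := by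
  classical
  let P : Submonoid (G × AEnd K) :=
    { carrier := {x | x.2 ∈ B ∧ ∃ L k, Act l x.1 L k ∧ Act l x.2 L k}
      one_mem' := ⟨one_mem B, id, 1, ⟨fun m => by simp, fun c => by simp⟩,
        ⟨fun m => by simp, fun c => by simp⟩⟩
      mul_mem' := by
        rintro x y ⟨hx, L, k, h1, h2⟩ ⟨hy, L', k', h3, h4⟩
        exact ⟨mul_mem hx hy, _, _, h1.mul h3, h2.mul h4⟩ }
  have : Finite (AEnd K) := Finite.of_injective (fun β => ((β : AddMonoid.End M) : M → M)) (DFunLike.coe_injective.comp Units.val_injective)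
  let Γ : Subgroup (G × AEnd K) :=
    { toSubmonoid := P
      inv_mem' := fun {x} hx => by
        rw [← mul_one x⁻¹, ← pow_orderOf_eq_one x, inv_mul_eq_iff_eq_mul.2]
        · exact P.pow_mem hx (orderOf x - 1)
        · rw [← pow_succ', Nat.sub_add_cancel (orderOf_pos x)] }
  have huniq : ∀ x ∈ Γ, x.1 = 1 → x = 1 := by
    rintro ⟨g, β⟩ hx (rfl : g = 1)
    obtain ⟨hβ, L, k, h1, h2⟩ := hx
    have hL : L = id := funext fun y => by
      have := h1.1 (y.1, y.2 - l y.1, 0)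
      simpa using this.symm
    have hk : k = 1 := by
      have := h1.2 1
      simpa using this.symm
    subst hL hk
    exact Prod.ext rfl (hB β hβ h2)
  let π : Γ →* G := (MonoidHom.fst G (AEnd K)).comp Γ.subtype
  have hπ : Function.Bijective π := by
    refine ⟨(injective_iff_map_eq_one _).2 fun x hx => Subtype.ext (huniq _ x.2 hx), fun g => ?_⟩
    obtain ⟨β, hβ, L, k, h1, h2⟩ := hGB g
    exact ⟨⟨(g, β), hβ, L, k, h1, h2⟩, rfl⟩
  let U : Subgroup Γ := A.comap π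
  have hUA : U.index = A.index := Subgroup.index_comap_of_surjective _ hπ.2
  letI := Fintype.ofFinite (Γ ⧸ U)
  let f : Γ → M → K := fun x m => ((x : G × AEnd K).2 • m - (x : G × AEnd K).1 • m).2.2
  have hf : ∀ (x : Γ) (m : M),
      (x : G × AEnd K).2 • m = (x : G × AEnd K).1 • m + (0, 0, f x m) := by
    intro x m
    obtain ⟨-, L, k, h1, h2⟩ := x.2
    have h := (h2.1 m).trans (h1.1 m).symm
    simp only [Prod.mk.injEq] at h
    obtain ⟨e1, e2⟩ := h
    rw [e1] at e2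
    exact Prod.ext (by simp [e1]) (Prod.ext (by simp [add_right_cancel e2]) (by simp [f]))
  have hsc : ∀ x : Γ, ∃ k : K, ∀ c : K, (x : G × AEnd K).2 • ((0, 0, c) : M) = (0, 0, k * c) ∧
      (x : G × AEnd K).1 • ((0, 0, c) : M) = (0, 0, k * c) := fun x => by
    obtain ⟨-, L, k, h1, h2⟩ := x.2
    exact ⟨k, fun c => ⟨h2.2 c, h1.2 c⟩⟩
  choose k hk using hsc
  have hfmul : ∀ (x y : Γ) (m : M),
      f (x * y) m = f x ((y : G × AEnd K).1 • m) + k x * f y m := by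
    intro x y m
    show ((((x : G × AEnd K).2 * (y : G × AEnd K).2) • m) -
      ((x : G × AEnd K).1 * (y : G × AEnd K).1) • m).2.2 = _
    rw [mul_smul, mul_smul, hf y m, smul_add, (hk x _).1, hf x]
    simp
    ring
  have hfU : ∀ u ∈ U, ∀ m, f u m = 0 := by
    intro u hu m
    obtain ⟨β, hβ, hβm⟩ := hAB _ hu
    have hmem : ((u : G × AEnd K).1, β) ∈ Γ := by
      obtain ⟨-, L, k', h1, -⟩ := u.2
      exact ⟨hβ, L, k', h1, fun m => by rw [hβm]; exact h1.1 m, fun c => by rw [hβm]; exact h1.2 c⟩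
    have he : u = (⟨((u : G × AEnd K).1, β), hmem⟩ : Γ) := hπ.1 rfl
    rw [he]
    show (β • m - (u : G × AEnd K).1 • m).2.2 = 0
    rw [hβm]
    exact congrArg (fun x : M => x.2.2) (sub_self _)
  have hfadd : ∀ x m n, f x (m + n) = f x m + f x n := fun x m n => by
    simp only [f, smul_add, Prod.snd_add, Prod.snd_sub]; ring
  let Φ : Γ → M → K := fun x m => f x ((x : G × AEnd K).1⁻¹ • m)
  have hΦ : ∀ x u, u ∈ U → ∀ m, Φ (x * u) m = Φ x m := by
    intro x u hu m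
    show f (x * u) (((x : G × AEnd K).1 * (u : G × AEnd K).1)⁻¹ • m) = _
    rw [hfmul, hfU u hu, mul_zero, add_zero, _root_.mul_inv_rev, mul_smul, smul_inv_smul]
  let ε : M → K := fun m => ∑ w : Γ ⧸ U, Φ w.out m
  have hεadd : ∀ m n, ε (m + n) = ε m + ε n := fun m n => by
    simp only [ε, Φ, smul_add, hfadd, Finset.sum_add_distrib]
  have hεmain : ∀ (γ : Γ) (m : M),
      ε ((γ : G × AEnd K).1 • m) = f γ m + k γ * ε m := by
    intro γ m
    have h1 : ∀ w : Γ ⧸ U, Φ (γ • w).out ((γ : G × AEnd K).1 • m) = f γ m + k γ * Φ w.out m := by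
      intro w
      obtain ⟨u, hu⟩ := QuotientGroup.mk_out_eq_mul U (γ * w.out)
      have hw : γ • w = ((γ * w.out : Γ) : Γ ⧸ U) := by
        conv_lhs => rw [← QuotientGroup.out_eq' w]
        rfl
      rw [hw, hu, hΦ _ _ u.2]
      show f (γ * w.out) (((γ : G × AEnd K).1 * (w.out : G × AEnd K).1)⁻¹ • _) = _
      rw [hfmul, _root_.mul_inv_rev, mul_smul, inv_smul_smul, smul_inv_smul]
    have hN : (Fintype.card (Γ ⧸ U) : K) = 1 := by
      have hodd : Odd (Fintype.card (Γ ⧸ U)) := by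
        rw [← Nat.card_eq_fintype_card, show Nat.card (Γ ⧸ U) = U.index from rfl, hUA,
          ← Nat.not_even_iff_odd, even_iff_two_dvd]
        exact hA
      obtain ⟨j, hj⟩ := hodd
      rw [hj]; simp [CharTwo.two_eq_zero]
    show ∑ w : Γ ⧸ U, Φ w.out _ = _
    rw [← Equiv.sum_comp (MulAction.toPerm γ) (fun w : Γ ⧸ U => Φ (Quotient.out w) ((γ : G × AEnd K).1 • m))]
    simp only [MulAction.toPerm_apply, h1]
    rw [Finset.sum_add_distrib, Finset.sum_const, Finset.card_univ, nsmul_eq_mul, hN, one_mul,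
      ← Finset.mul_sum]
  -- the twist only depends on the first coordinate
  have hε0 : ∀ c : K, ε (0, 0, c) = 0 := by
    intro c
    refine Finset.sum_eq_zero fun w _ => ?_
    obtain ⟨c', hc'⟩ : ∃ c' : K, (w.out : G × AEnd K).1⁻¹ • ((0, 0, c) : M) = (0, 0, c') := by
      have hkne : k w.out ≠ 0 := fun h => by
        have := (hk w.out 1).2
        rw [h, zero_mul, show ((0, 0, 0) : M) = 0 from rfl, smul_eq_zero_iff_eq] at this
        exact one_ne_zero (congrArg (fun m : M => m.2.2) this)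
      refine ⟨(k w.out)⁻¹ * c, ?_⟩
      rw [inv_smul_eq_iff, (hk _ _).2, mul_inv_cancel_left₀ hkne]
    show f w.out _ = 0
    rw [hc']
    show ((w.out : G × AEnd K).2 • ((0, 0, c') : M) - (w.out : G × AEnd K).1 • _).2.2 = 0
    rw [(hk _ _).1, (hk _ _).2, sub_self]; rfl
  have hεz : ∀ z c : K, ε (0, z, c) = 0 := by
    intro z c
    obtain ⟨a, ha, c', hac⟩ := hsv z
    obtain ⟨x, hx⟩ := hπ.2 a
    have hxU : x ∈ U := by show π x ∈ A; rw [hx]; exact ha
    have hk1 : k x = 1 := by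
      have h := (hk x 1).2
      rw [show (x : G × AEnd K).1 = a from hx, hfix a ha, mul_one] at h
      exact (congrArg (fun m : M => m.2.2) h).symm
    have h := hεmain x ((1, 0, 0) : M)
    rw [show (x : G × AEnd K).1 = a from hx, hac, hfU x hxU, hk1, zero_add, one_mul,
      show ((1, z, c') : M) = (1, 0, 0) + (0, z, c') by simp, hεadd, add_eq_left] at h
    have : ((0, z, c) : M) = (0, z, c') + (0, 0, c - c') := by simp
    rw [this, hεadd, h, hε0, add_zero]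
  let η : K →+ K := AddMonoidHom.mk' (fun v => ε (v, 0, 0)) fun v w => by
    rw [← hεadd]; simp
  have hεη : ∀ m : M, ε m = η m.1 := by
    rintro ⟨v, z, c⟩
    show _ = ε (v, 0, 0)
    conv_lhs => rw [show ((v, z, c) : M) = (v, 0, 0) + (0, z, c) by simp, hεadd, hεz, add_zero]
  have main : ∀ (γ : Γ) (m : M), (γ : G × AEnd K).2 • (m + (0, 0, η m.1)) =
      (γ : G × AEnd K).1 • m + (0, 0, η ((γ : G × AEnd K).1 • m).1) := by
    intro γ m
    rw [smul_add, (hk γ _).1, hf γ m, ← hεη, ← hεη, hεmain, add_assoc]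
    simp
  refine ⟨η, fun g => ?_, fun β hβ => ?_⟩
  · obtain ⟨x, hx⟩ := hπ.2 g
    exact ⟨_, x.2.1, fun m => by rw [main x m, show (x : G × AEnd K).1 = g from hx]⟩
  · obtain ⟨g, L, k', h1, h2⟩ := hBG β hβ
    exact ⟨g, fun m => main ⟨(g, β), hβ, L, k', h1, h2⟩ m⟩

end Average

section Sides

variable {F : FusionSystem S} {e : U4 K ≃* ↥S} {hS : IsPGroup 2 S} {hF : F.IsSaturated 2}
variable {R : Subgroup (U4 K)} {φ : K → K → K} (ch : Chart K R φ)
  (hE : F.IsEssential 2 (sub e R)) (hfix : (setting (ch := ch) (e := e) hS hF hE).HasFixed)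
  (l : K →+ K) (w : Aut' F e ch) (hw : (setting hS hF hE).Acts l w (mat 0 1 1 0) 1)
  (hK : ∀ r : K, r ≠ 0 → r ^ 3 = 1) (κ : K →* K)
  (hκ : Function.Injective κ)
  (hφ : ∀ a b s v : K, a ≠ 0 → b ≠ 0 → φ (b / a * s) (a * v) = κ (a * b) * φ s v)
  (hC : ∀ c : K, ch.j (0, 0, c) = ⟨0, 0, 0, c⟩)

include hfix hw hK hφ hC in
theorem data_of_aut (g : Aut' F e ch) : ∃ p q r s : K, p * s + q * r ≠ 0 ∧
    InKc F e (κ (p * s + q * r)) ∧ Act l g (mat p q r s) (κ (p * s + q * r)) := by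
  obtain ⟨p, q, r, s, a, b, d, ha, hb, hdet, hga, hda, hconj⟩ :=
    (setting hS hF hE).exists_acts hw hK κ hφ hfix g
  refine ⟨p, q, r, s, hdet ▸ mul_ne_zero ha hb, ?_, hdet ▸ hga⟩
  obtain ⟨α, hα, hαj⟩ := exists_extend ch hS hF d (fun x => b / a * x) hconj
  refine ⟨α, hα, fun c => ?_⟩
  rw [← hC, hαj, hda.2, hC, hdet]

include hfix hw hK hκ hφ hC in
theorem aut_of_data (hR : ∀ α ∈ AutU F e, ∀ a ∈ R, α a ∈ R) {p q r s : K}
    (hk : InKc F e (κ (p * s + q * r))) :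
    ∃ g : Aut' F e ch, Act l g (mat p q r s) (κ (p * s + q * r)) := by
  obtain ⟨α, hα, hαc⟩ := hk
  obtain ⟨g0, hg0⟩ := exists_restrict ch hα (hR α hα)
  obtain ⟨p', q', r', s', a, b, d, ha, hb, -, hga, hda, -⟩ :=
    (setting hS hF hE).exists_acts hw hK κ hφ hfix g0
  have hk' : κ (a * b) = κ (p * s + q * r) := by
    have h := hg0 ((0, 0, 1) : M)
    rw [hga.2, hC, hC, hαc] at h
    simpa using congrArg U4.y h
  obtain ⟨g, hg⟩ := (setting hS hF hE).realised_of_diag hw ha hb hda (hκ hk').symm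
  exact ⟨g, hk' ▸ hg⟩

end Sides

variable {F : FusionSystem S} {e : U4 K ≃* ↥S} {hS : IsPGroup 2 S} {hF : F.IsSaturated 2}
  (D : Plane F e hS hF) {E : Type*} [Group E] {ρ : E →* GL (Fin 3) K} {ι : U4 K →* E}
  (hinj : Function.Injective ι) (hρι : ∀ a, ρ (ι a) = uG D.l1 D.l2 a)
  (hker : ∀ ε, ρ ε = 1 → ∃ c : K, ε = ι ⟨0, 0, 0, c⟩)
  (himg : ∀ ε, InKc F e (ρ ε).val.det⁻¹)
  (hsurj : ∀ g : GL (Fin 3) K, InKc F e g.val.det⁻¹ → ∃ ε, ρ ε = g)
  (hconj : ∀ (ε : E) (c : K), ε * ι ⟨0, 0, 0, c⟩ * ε⁻¹ = ι ⟨0, 0, 0, (ρ ε).val.det⁻¹ * c⟩)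

theorem uG_chart1 (m : M) : (uG D.l1 D.l2 ((chart1 (K := K)).j m)).val =
    !![1, 0, m.2.1 + D.l1 m.1; 0, 1, m.1; 0, 0, 1] := by
  rw [uG_val]; simp [chart1, shift]

theorem uG_chart2 (m : M) : (uG D.l1 D.l2 ((chart2 (K := K)).j m)).val =
    !![1, m.1, m.2.1 + D.l2 m.1; 0, 1, 0; 0, 0, 1] := by
  rw [uG_val]; simp [chart2, shift]

omit [CharP K 2] in
theorem exists_gl (N : Matrix (Fin 3) (Fin 3) K) (h : N.det ≠ 0) :
    ∃ g : GL (Fin 3) K, g.val = N :=
  ⟨Matrix.GeneralLinearGroup.mkOfDetNeZero N h, rfl⟩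

include hinj hρι hker hsurj hconj in
theorem eaut1_of_data {p q r s : K} (h0 : p * s + q * r ≠ 0)
    (hk : InKc F e (kappa1 K (p * s + q * r))) :
    ∃ β ∈ EAut (chart1 (K := K)) ι, Act D.l1 β (mat p q r s) (kappa1 K (p * s + q * r)) := by
  have hdet : (!![s, r, 0; q, p, 0; 0, 0, 1] : Matrix (Fin 3) (Fin 3) K).det = p * s + q * r := by
    rw [Matrix.det_fin_three]
    simp
    linear_combination -(q * r) * (CharTwo.two_eq_zero : (2 : K) = 0)
  obtain ⟨g, hg⟩ := exists_gl _ (hdet.symm ▸ h0)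
  obtain ⟨ε, hε⟩ := hsurj g (by rw [hg, hdet]; exact hk)
  have h := exists_beta (chart1 (K := K)) ι hinj hρι hker (fun c => rfl) hconj
    (l := D.l1) (L := mat p q r s) (ε := ε) fun m m' hm => by
      rw [hε]
      refine Units.ext ?_
      rw [Units.val_mul, Units.val_mul, uG_chart1, uG_chart1, hg]
      simp only [mat, Prod.mk.injEq] at hm
      generalize m.2.1 + D.l1 m.1 = Z at hm ⊢
      generalize m'.2.1 + D.l1 m'.1 = Z' at hm ⊢
      ext i j
      fin_cases i <;> fin_cases j <;> simp [Matrix.mul_apply, Fin.sum_univ_three, hm.1, hm.2] <;> ring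
  rwa [hε, hg, hdet] at h

include hinj hρι hker hsurj hconj in
theorem eaut2_of_data (hK : ∀ r : K, r ≠ 0 → r ^ 3 = 1) {p q r s : K} (h0 : p * s + q * r ≠ 0)
    (hk : InKc F e (p * s + q * r)) :
    ∃ β ∈ EAut (chart2 (K := K)) ι, Act D.l2 β (mat p q r s) (p * s + q * r) := by
  set δ := p * s + q * r
  have hdet : (!![δ, 0, 0; 0, s, r; 0, q, p] : Matrix (Fin 3) (Fin 3) K).det = δ⁻¹ := by
    rw [Matrix.det_fin_three]
    simp
    refine eq_inv_of_mul_eq_one_left ?_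
    linear_combination (hK δ h0) - δ * δ * q * r * (CharTwo.two_eq_zero : (2 : K) = 0)
  obtain ⟨g, hg⟩ := exists_gl _ (hdet.symm ▸ inv_ne_zero h0)
  obtain ⟨ε, hε⟩ := hsurj g (by rw [hg, hdet, inv_inv]; exact hk)
  have h := exists_beta (chart2 (K := K)) ι hinj hρι hker (fun c => rfl) hconj
    (l := D.l2) (L := mat p q r s) (ε := ε) fun m m' hm => by
      rw [hε]
      refine Units.ext ?_
      rw [Units.val_mul, Units.val_mul, uG_chart2, uG_chart2, hg]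
      simp only [mat, Prod.mk.injEq] at hm
      generalize m.2.1 + D.l2 m.1 = Z at hm ⊢
      generalize m'.2.1 + D.l2 m'.1 = Z' at hm ⊢
      have h2 : (2 : K) = 0 := CharTwo.two_eq_zero
      ext i j
      fin_cases i <;> fin_cases j <;> simp [Matrix.mul_apply, Fin.sum_univ_three, hm.1, hm.2] <;> grind
  rwa [hε, hg, hdet, inv_inv] at h

omit [Finite S] [CharP K 2] in
theorem shiftInv {l : K →+ K} (a b : K) : ∃ m : M, m.1 = a ∧ m.2.1 + l m.1 = b :=
  ⟨(a, b - l a, 0), rfl, sub_add_cancel _ _⟩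

include hinj hρι himg hconj in
theorem data_of_eaut1 (hK : ∀ r : K, r ≠ 0 → r ^ 3 = 1) {β : AEnd K} {ε : E}
    (hβ : ∀ m, ε * ι ((chart1 (K := K)).j m) * ε⁻¹ = ι ((chart1 (K := K)).j (β • m))) :
    ∃ p q r s : K, p * s + q * r ≠ 0 ∧ InKc F e (kappa1 K (p * s + q * r)) ∧
      Act D.l1 β (mat p q r s) (kappa1 K (p * s + q * r)) ∧
      (mat p q r s = id → ∃ n, (ρ ε) ^ 3 = uG D.l1 D.l2 ((chart1 (K := K)).j n)) := by
  obtain ⟨N, hN⟩ : ∃ N, (ρ ε).val = N := ⟨_, rfl⟩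
  have hcomm : ∀ m : M, N * !![1, 0, m.2.1 + D.l1 m.1; 0, 1, m.1; 0, 0, 1] =
      !![1, 0, (β • m).2.1 + D.l1 (β • m).1; 0, 1, (β • m).1; 0, 0, 1] * N := by
    intro m
    have h := congrArg ρ (hβ m)
    rw [map_mul, map_mul, map_inv, hρι, hρι, mul_inv_eq_iff_eq_mul] at h
    have h2 := congrArg Units.val h
    rwa [Units.val_mul, Units.val_mul, uG_chart1, uG_chart1, hN] at h2
  have hent : ∀ m : M, ∀ i, N i 0 * (m.2.1 + D.l1 m.1) + N i 1 * m.1 + N i 2 =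
      (!![1, 0, (β • m).2.1 + D.l1 (β • m).1; 0, 1, (β • m).1; 0, 0, 1] * N) i 2 := by
    intro m i
    rw [← hcomm]
    simp [Matrix.mul_apply, Fin.sum_univ_three]
  obtain ⟨m1, hm1, hm1'⟩ := shiftInv (l := D.l1) (0 : K) 1
  obtain ⟨m2, hm2, hm2'⟩ := shiftInv (l := D.l1) (1 : K) 0
  have h20 : N 2 0 = 0 := by
    have := hent m1 2
    rw [hm1', hm1] at this
    simpa [Matrix.mul_apply, Fin.sum_univ_three] using this
  have h21 : N 2 1 = 0 := by
    have := hent m2 2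
    rw [hm2', hm2] at this
    simpa [Matrix.mul_apply, Fin.sum_univ_three] using this
  have hdet : N.det = (N 0 0 * N 1 1 - N 0 1 * N 1 0) * N 2 2 := by
    rw [Matrix.det_fin_three, h20, h21]; ring
  have hne : N.det ≠ 0 := hN ▸ det_ne _
  rw [hdet, mul_ne_zero_iff] at hne
  obtain ⟨hB, h22⟩ := hne
  have h2 : (2 : K) = 0 := CharTwo.two_eq_zero
  have hd : N 1 1 / N 2 2 * (N 0 0 / N 2 2) + N 1 0 / N 2 2 * (N 0 1 / N 2 2) = N.det := by
    rw [hdet]
    have := hK _ h22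
    field_simp
    linear_combination -(N 0 0 * N 1 1 - N 0 1 * N 1 0) * this + N 0 1 * N 1 0 * h2
  have hk : InKc F e N.det⁻¹ := hN ▸ himg ε
  refine ⟨N 1 1 / N 2 2, N 1 0 / N 2 2, N 0 1 / N 2 2, N 0 0 / N 2 2,
    hd ▸ (hdet ▸ mul_ne_zero hB h22), hd ▸ hk, ⟨fun m => ?_, fun c => ?_⟩, fun hid => ?_⟩
  · have e0 := hent m 0
    have e1 := hent m 1
    simp [Matrix.mul_apply, Fin.sum_univ_three] at e0 e1
    simp only [mat, Prod.mk.injEq]
    constructor <;> field_simp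
    · linear_combination -e1
    · linear_combination -e0
  · refine (chart1 (K := K)).j_inj (hinj ?_)
    rw [← hβ]
    show ε * ι ⟨0, 0, 0, c⟩ * ε⁻¹ = ι ⟨0, 0, 0, _⟩
    rw [hconj, hN, hd]
    rfl
  · obtain ⟨e1, e2, e3, e4⟩ := mat_inj (hid.trans mat_one.symm)
    rw [div_eq_one_iff_eq h22] at e1 e4
    rw [div_eq_zero_iff, or_iff_left h22] at e2 e3
    refine ⟨(N 1 2 * (N 2 2 * N 2 2),
      N 0 2 * (N 2 2 * N 2 2) - D.l1 (N 1 2 * (N 2 2 * N 2 2)), 0), Units.ext ?_⟩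
    rw [Units.val_pow_eq_pow_val, hN, uG_chart1]
    have := hK _ h22
    have hN' : N = !![N 2 2, 0, N 0 2; 0, N 2 2, N 1 2; 0, 0, N 2 2] := by
      ext i j
      fin_cases i <;> fin_cases j <;> simp [e1, e2, e3, e4, h20, h21]
    rw [pow_succ, pow_two, hN']
    ext i j
    fin_cases i <;> fin_cases j <;> simp [Matrix.mul_apply, Fin.sum_univ_three] <;> grind

include hinj hρι himg hconj in
theorem data_of_eaut2 (hK : ∀ r : K, r ≠ 0 → r ^ 3 = 1) {β : AEnd K} {ε : E}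
    (hβ : ∀ m, ε * ι ((chart2 (K := K)).j m) * ε⁻¹ = ι ((chart2 (K := K)).j (β • m))) :
    ∃ p q r s : K, p * s + q * r ≠ 0 ∧ InKc F e (p * s + q * r) ∧
      Act D.l2 β (mat p q r s) (p * s + q * r) ∧
      (mat p q r s = id → ∃ n, (ρ ε) ^ 3 = uG D.l1 D.l2 ((chart2 (K := K)).j n)) := by
  obtain ⟨N, hN⟩ : ∃ N, (ρ ε).val = N := ⟨_, rfl⟩
  have hcomm : ∀ m : M, N * !![1, m.1, m.2.1 + D.l2 m.1; 0, 1, 0; 0, 0, 1] =
      !![1, (β • m).1, (β • m).2.1 + D.l2 (β • m).1; 0, 1, 0; 0, 0, 1] * N := by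
    intro m
    have h := congrArg ρ (hβ m)
    rw [map_mul, map_mul, map_inv, hρι, hρι, mul_inv_eq_iff_eq_mul] at h
    have h2 := congrArg Units.val h
    rwa [Units.val_mul, Units.val_mul, uG_chart2, uG_chart2, hN] at h2
  have hent : ∀ m : M, ∀ i, N i 0 * m.1 + N i 1 =
      (!![1, (β • m).1, (β • m).2.1 + D.l2 (β • m).1; 0, 1, 0; 0, 0, 1] * N) i 1 ∧
      N i 0 * (m.2.1 + D.l2 m.1) + N i 2 =
      (!![1, (β • m).1, (β • m).2.1 + D.l2 (β • m).1; 0, 1, 0; 0, 0, 1] * N) i 2 := by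
    intro m i
    rw [← hcomm]
    simp [Matrix.mul_apply, Fin.sum_univ_three]
  obtain ⟨m1, hm1, hm1'⟩ := shiftInv (l := D.l2) (1 : K) 1
  have h10 : N 1 0 = 0 := by
    have := (hent m1 1).1
    rw [hm1] at this
    simpa [Matrix.mul_apply, Fin.sum_univ_three] using this
  have h20 : N 2 0 = 0 := by
    have := (hent m1 2).1
    rw [hm1] at this
    simpa [Matrix.mul_apply, Fin.sum_univ_three] using this
  have hdet : N.det = N 0 0 * (N 1 1 * N 2 2 - N 1 2 * N 2 1) := by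
    rw [Matrix.det_fin_three, h10, h20]; ring
  have hne : N.det ≠ 0 := hN ▸ det_ne _
  rw [hdet, mul_ne_zero_iff] at hne
  obtain ⟨h00, hC⟩ := hne
  set δ := N 1 1 * N 2 2 - N 1 2 * N 2 1 with hδ
  have h2 : (2 : K) = 0 := CharTwo.two_eq_zero
  have hd : N 0 0 * N 2 2 / δ * (N 0 0 * N 1 1 / δ) + N 0 0 * N 2 1 / δ * (N 0 0 * N 1 2 / δ) =
      N.det⁻¹ := by
    rw [hdet]
    have := hK _ h00
    field_simp
    linear_combination δ * this + (N 0 0) ^ 3 * (N 1 2 * N 2 1) * h2 - (N 0 0) ^ 3 * hδ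
  have hk : InKc F e N.det⁻¹ := hN ▸ himg ε
  refine ⟨N 0 0 * N 2 2 / δ, N 0 0 * N 2 1 / δ, N 0 0 * N 1 2 / δ, N 0 0 * N 1 1 / δ,
    hd ▸ inv_ne_zero (hdet ▸ mul_ne_zero h00 hC), hd ▸ hk, ⟨fun m => ?_, fun c => ?_⟩, fun hid => ?_⟩
  · have e0 := (hent m 0).1
    have e1 := (hent m 0).2
    simp [Matrix.mul_apply, Fin.sum_univ_three] at e0 e1
    simp only [mat, Prod.mk.injEq]
    constructor <;> field_simp <;> grind
  · refine (chart2 (K := K)).j_inj (hinj ?_)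
    rw [← hβ]
    show ε * ι ⟨0, 0, 0, c⟩ * ε⁻¹ = ι ⟨0, 0, 0, _⟩
    rw [hconj, hN, hd]
  · obtain ⟨e1, e2, e3, e4⟩ := mat_inj (hid.trans mat_one.symm)
    rw [div_eq_one_iff_eq hC] at e1 e4
    rw [div_eq_zero_iff, or_iff_left hC, mul_eq_zero, or_iff_right h00] at e2 e3
    have e5 : N 1 1 = N 0 0 := by
      have h := hδ
      rw [e2, e3, mul_zero, sub_zero, ← e1] at h
      exact (mul_right_cancel₀ (fun h0 => hC (by rw [← e1, h0, mul_zero])) h).symm
    have e6 : N 2 2 = N 0 0 := by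
      have h := hδ
      rw [e2, e3, mul_zero, sub_zero, ← e4, mul_comm (N 1 1)] at h
      exact (mul_right_cancel₀ (fun h0 => hC (by rw [← e4, h0, mul_zero])) h).symm
    refine ⟨(N 0 1 * (N 0 0 * N 0 0),
      N 0 2 * (N 0 0 * N 0 0) - D.l2 (N 0 1 * (N 0 0 * N 0 0)), 0), Units.ext ?_⟩
    rw [Units.val_pow_eq_pow_val, hN, uG_chart2]
    have := hK _ h00
    have hN' : N = !![N 0 0, N 0 1, N 0 2; 0, N 0 0, 0; 0, 0, N 0 0] := by
      ext i j
      fin_cases i <;> fin_cases j <;> simp [e2, e3, e5, e6, h10, h20]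
    rw [pow_succ, pow_two, hN']
    ext i j
    fin_cases i <;> fin_cases j <;> simp [Matrix.mul_apply, Fin.sum_univ_three] <;> grind

end Cfsg.Agent.Lib.SpFourExotic
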