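import Cfsg.Agent.Lib.Fusion.SpData
import Cfsg.Agent.Lib.SpFourPresentation.Matrices

/-!
A coordinate model of the Sylow subgroup of `Sp₄(K)` in the defining characteristic.
-/

set_option autoImplicit false

namespace Cfsg.Agent.Lib.SpFourExotic

open Matrix Cfsg.Agent.Lib.SL2 Cfsg.Agent.Lib.SpFourPresentation

/-- Coordinates `(t, u, x, y)` along the four positive roots `a, b, a + b, 2a + b`. -/
@[ext]
structure U4 (K : Type*) where
  t : K
  u : K
  x : K
  y : K

variable {K : Type*} [Field K]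

namespace U4

instance : Mul (U4 K) :=
  ⟨fun a b => ⟨a.t + b.t, a.u + b.u, a.x + (b.x + a.t * b.u),
    a.y + (b.y + 2 * a.t * b.x + a.t * a.t * b.u)⟩⟩

instance : One (U4 K) := ⟨⟨0, 0, 0, 0⟩⟩

instance : Inv (U4 K) :=
  ⟨fun a => ⟨-a.t, -a.u, -a.x + a.t * a.u, -a.y + 2 * a.t * a.x - a.t * a.t * a.u⟩⟩

@[simp] theorem mul_t (a b : U4 K) : (a * b).t = a.t + b.t := rfl
@[simp] theorem mul_u (a b : U4 K) : (a * b).u = a.u + b.u := rfl
@[simp] theorem mul_x (a b : U4 K) : (a * b).x = a.x + (b.x + a.t * b.u) := rfl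
@[simp] theorem mul_y (a b : U4 K) :
    (a * b).y = a.y + (b.y + 2 * a.t * b.x + a.t * a.t * b.u) := rfl
@[simp] theorem one_t : (1 : U4 K).t = 0 := rfl
@[simp] theorem one_u : (1 : U4 K).u = 0 := rfl
@[simp] theorem one_x : (1 : U4 K).x = 0 := rfl
@[simp] theorem one_y : (1 : U4 K).y = 0 := rfl
@[simp] theorem inv_t (a : U4 K) : a⁻¹.t = -a.t := rfl
@[simp] theorem inv_u (a : U4 K) : a⁻¹.u = -a.u := rfl
@[simp] theorem inv_x (a : U4 K) : a⁻¹.x = -a.x + a.t * a.u := rfl
@[simp] theorem inv_y (a : U4 K) : a⁻¹.y = -a.y + 2 * a.t * a.x - a.t * a.t * a.u := rfl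

instance : Group (U4 K) := Group.ofLeftAxioms
  (fun a b c => by ext <;> simp <;> ring)
  (fun a => by ext <;> simp)
  (fun a => by ext <;> simp <;> ring)

instance [Finite K] : Finite (U4 K) :=
  Finite.of_injective (fun a : U4 K => (a.t, a.u, a.x, a.y)) fun a b h => by
    simp only [Prod.mk.injEq] at h
    ext <;> tauto

theorem natCard [Fintype K] : Nat.card (U4 K) = Fintype.card K ^ 4 := by
  rw [Nat.card_congr
    (⟨fun a => (a.t, a.u, a.x, a.y), fun q => ⟨q.1, q.2.1, q.2.2.1, q.2.2.2⟩,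
      fun _ => rfl, fun _ => rfl⟩ : U4 K ≃ K × K × K × K)]
  simp only [Nat.card_eq_fintype_card, Fintype.card_prod]
  ring

/-- The matrix of an element. -/
def toMat (a : U4 K) : SpF K := mS a.y a.x a.u * spA (upper a.t)

theorem toMat_mul (a b : U4 K) : toMat (a * b) = toMat a * toMat b := by
  have h := spA_mS (upper a.t) b.y b.x b.u
  have h2 : spA (upper a.t) * mS b.y b.x b.u =
      mS (b.y + 2 * a.t * b.x + a.t * a.t * b.u) (b.x + a.t * b.u) b.u * spA (upper a.t) := by
    rw [← mul_inv_eq_iff_eq_mul, h]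
    congr 1 <;> simp [upper] <;> ring
  calc toMat (a * b)
      = mS (a.y + (b.y + 2 * a.t * b.x + a.t * a.t * b.u)) (a.x + (b.x + a.t * b.u)) (a.u + b.u)
          * spA (upper a.t * upper b.t) := by
        rw [upper_mul]; rfl
    _ = toMat a * toMat b := by
        rw [map_mul, toMat, toMat, mul_assoc (mS a.y a.x a.u), ← mul_assoc (spA (upper a.t)), h2,
          ← mS_mul]
        group

/-- The embedding in `Sp₄`. -/
def hom : U4 K →* SpF K := MonoidHom.mk' toMat toMat_mul

theorem hom_injective : Function.Injective (hom : U4 K →* SpF K) := by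
  refine (injective_iff_map_eq_one _).2 fun a ha => ?_
  have hm : ((toMat a : SpF K) : Matrix (Fin 2 ⊕ Fin 2) (Fin 2 ⊕ Fin 2) K) = 1 := congrArg Subtype.val ha
  rw [toMat, sp_coe_mul, spA_coe] at hm
  simp only [mS, leviMat, fromBlocks_multiply] at hm
  rw [← fromBlocks_one, fromBlocks_inj] at hm
  obtain ⟨h1, h2, -, -⟩ := hm
  have e1 := congrFun (congrFun h1 0) 1
  have e2 := congrFun (congrFun h2 0) 0
  have e3 := congrFun (congrFun h2 0) 1
  have e4 := congrFun (congrFun h2 1) 1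
  simp [upper, Matrix.mul_apply, Fin.sum_univ_two] at e1 e2 e3 e4
  ext <;> simp_all

theorem hom_mem [Fintype K] (a : U4 K) : hom a ∈ Fusion.SpData.uniSp 2 K := by
  rw [Fusion.SpData.mem_uniSp]
  show Fusion.SpData.blk21 (toMat a) = 0 ∧ _
  have hm : ((toMat a : SpF K) : Matrix (Fin 2 ⊕ Fin 2) (Fin 2 ⊕ Fin 2) K) =
      fromBlocks !![1, a.t; 0, 1] (!![a.y, a.x; a.x, a.u] * !![1, 0; -a.t, 1]) 0 !![1, 0; -a.t, 1] := by
    rw [toMat, sp_coe_mul, spA_coe]
    simp only [mS, leviMat, fromBlocks_multiply]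
    simp [upper]
  refine ⟨?_, ?_⟩
  · rw [Fusion.SpData.blk21, hm, toBlocks_fromBlocks₂₁]
  · show Cfsg.Agent.Lib.PSLAut.IsUnitri (Fusion.SpData.blk11 (hom a))
    rw [show Fusion.SpData.blk11 (hom a) = !![1, a.t; 0, 1] from by
      show Fusion.SpData.blk11 (toMat a) = _
      rw [Fusion.SpData.blk11, hm, toBlocks_fromBlocks₁₁]]
    refine ⟨fun i => ?_, fun i j hij => ?_⟩
    · fin_cases i <;> rfl
    · fin_cases i <;> fin_cases j <;> first | rfl | exact absurd hij (by decide)

/-- The model is isomorphic to every Sylow subgroup. -/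
theorem nonempty_mulEquiv [Fintype K] (p : ℕ) [Fact p.Prime] [CharP K p]
    (T : Sylow p (SpF K)) : Nonempty (U4 K ≃* ↥(T : Subgroup (SpF K))) := by
  let U : Sylow p (SpF K) := (Fusion.SpData.isPGroup_uniSp (m := 2) (F := K) p).toSylow
    (Fusion.SpData.not_dvd_index_uniSp (m := 2) (F := K) p)
  let f : U4 K →* ↥(Fusion.SpData.uniSp 2 K) := hom.codRestrict _ hom_mem
  have hinj : Function.Injective f := fun a b h => hom_injective (congrArg Subtype.val h)
  have hb : Function.Bijective f := by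
    refine hinj.bijective_of_nat_card_le ?_
    obtain ⟨k, hk, rfl⟩ := Fusion.SpData.card_uniSp (m := 2) (F := K)
    rw [hk, natCard]
    norm_num
  exact ⟨(MulEquiv.ofBijective f hb).trans (Sylow.equiv U T)⟩

end U4

end Cfsg.Agent.Lib.SpFourExotic
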