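import Mathlib

/-!
Groups acting on `K³` (characteristic two) whose Sylow 2-subgroup consists of the maps
`(v, z, c) ↦ (v, z + s v, c + φ s v)`, and their common fixed points.
-/

set_option autoImplicit false

namespace Cfsg.Agent.Lib.SpFourExotic

variable {K : Type*} [Field K] [Fintype K] [CharP K 2]
variable {G : Type*} [Group G] [Finite G]

/-- The setting. -/
structure Setting (G : Type*) [Group G] [DistribMulAction G (K × K × K)]
    (φ : K → K → K) where
  /-- the parametrisation of the Sylow subgroup -/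
  tr : K → G
  /-- the Sylow subgroup -/
  P : Sylow 2 G
  range_tr : Set.range tr = ((P : Subgroup G) : Set G)
  smul_tr : ∀ (s v z c : K), tr s • ((v, z, c) : K × K × K) = (v, z + s * v, c + φ s v)
  not_normal : ¬ (P : Subgroup G).Normal
  ne_zero : ∀ s v : K, s ≠ 0 → v ≠ 0 → φ s v ≠ 0
  unique : ∀ s v s' v' : K, s ≠ 0 → v ≠ 0 → s * v = s' * v' → φ s v = φ s' v' → s = s'
  surj : ∀ z c : K, z ≠ 0 → c ≠ 0 → ∃ s v : K, s * v = z ∧ φ s v = c
  faith : ∀ g : G, (∀ m : K × K × K, g • m = m) → g = 1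

namespace Setting

variable [DistribMulAction G (K × K × K)] {φ : K → K → K}

local notation "M" => (K × K × K)

variable (X : Setting G φ)

theorem add_self_M (m : M) : m + m = 0 := by
  ext <;> exact CharTwo.add_self_eq_zero _

theorem tr_mem (s : K) : X.tr s ∈ (X.P : Subgroup G) := by
  show X.tr s ∈ ((X.P : Subgroup G) : Set G)
  rw [← X.range_tr]
  exact ⟨s, rfl⟩

theorem exists_tr {a : G} (ha : a ∈ (X.P : Subgroup G)) : ∃ s, X.tr s = a := by
  have h : a ∈ Set.range X.tr := by rw [X.range_tr]; exact ha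
  exact h

include X in
theorem phi_zero_right (s : K) : φ s 0 = 0 := by
  have h := X.smul_tr s 0 0 0
  rw [show ((0, 0, 0) : M) = 0 from rfl, smul_zero] at h
  simpa using (congrArg (fun m : M => m.2.2) h).symm

include X in
theorem phi_add_right (s v w : K) : φ s (v + w) = φ s v + φ s w := by
  have h := smul_add (X.tr s) ((v, 0, 0) : M) (w, 0, 0)
  simp only [Prod.mk_add_mk, add_zero, X.smul_tr] at h
  simpa using congrArg (fun m : M => m.2.2) h

theorem dev_tr (s : K) (m : M) : X.tr s • m - m = (0, s * m.1, φ s m.1) := by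
  obtain ⟨v, z, c⟩ := m
  rw [X.smul_tr]
  simp

theorem tr_eq_one_iff (s : K) : X.tr s = 1 ↔ s = 0 := by
  constructor
  · intro h
    have := X.smul_tr s 1 0 0
    rw [h, one_smul] at this
    simpa using (congrArg (fun m : M => m.2.1) this).symm
  · rintro rfl
    obtain ⟨s0, hs0⟩ := X.exists_tr (X.P : Subgroup G).one_mem
    have := X.smul_tr s0 1 0 0
    rw [hs0, one_smul] at this
    have hz : s0 = 0 := by simpa using (congrArg (fun m : M => m.2.1) this).symm
    rwa [hz] at hs0

/-- The fixed points of the Sylow subgroup. -/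
def Z : Set M := {m | m.1 = 0}

theorem fix_tr (s : K) {m : M} (hm : m ∈ (Z : Set M)) : X.tr s • m = m := by
  obtain ⟨v, z, c⟩ := m
  change v = 0 at hm
  subst hm
  rw [X.smul_tr, mul_zero, X.phi_zero_right, add_zero, add_zero]

theorem mem_Z_of_fix {a : G} (ha : a ∈ (X.P : Subgroup G)) (ha1 : a ≠ 1) {m : M} (hm : a • m = m) :
    m ∈ (Z : Set M) := by
  obtain ⟨s, rfl⟩ := X.exists_tr ha
  have hs : s ≠ 0 := fun h => ha1 ((X.tr_eq_one_iff s).2 h)
  have h := X.dev_tr s m
  rw [hm, sub_self] at h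
  have h2 : s * m.1 = 0 := (congrArg (fun m : M => m.2.1) h).symm
  exact (mul_eq_zero.1 h2).resolve_left hs

include X in
theorem sq_eq_one {a : G} (ha : a ∈ (X.P : Subgroup G)) : a * a = 1 := by
  obtain ⟨s, rfl⟩ := X.exists_tr ha
  refine X.faith _ fun ⟨v, z, c⟩ => ?_
  rw [mul_smul, X.smul_tr, X.smul_tr, add_assoc, add_assoc, CharTwo.add_self_eq_zero,
    CharTwo.add_self_eq_zero, add_zero, add_zero]

/-- The stabiliser of the series `0 ≤ Z ≤ M`. -/
def chain : Subgroup G where
  carrier := {g | (∀ m ∈ (Z : Set M), g • m = m) ∧ ∀ m : M, g • m - m ∈ (Z : Set M)}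
  one_mem' := ⟨fun m _ => one_smul _ m, fun m => by simp [Z]⟩
  mul_mem' {g h} hg hh := ⟨fun m hm => by rw [mul_smul, hh.1 m hm, hg.1 m hm], fun m => by
    have h1 := hg.2 (h • m)
    have h2 := hh.2 m
    show ((g * h) • m - m).1 = 0
    rw [mul_smul, show g • h • m - m = (g • h • m - h • m) + (h • m - m) by abel, Prod.fst_add,
      show (g • h • m - h • m).1 = 0 from h1, show (h • m - m).1 = 0 from h2, add_zero]⟩
  inv_mem' {g} hg := ⟨fun m hm => by
      conv_lhs => rw [← hg.1 m hm]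
      rw [inv_smul_smul], fun m => by
      have h1 : (g • (g⁻¹ • m) - g⁻¹ • m).1 = 0 := hg.2 (g⁻¹ • m)
      rw [smul_inv_smul] at h1
      show (g⁻¹ • m - m).1 = 0
      rw [← neg_sub m (g⁻¹ • m), Prod.fst_neg, h1, neg_zero]⟩

theorem chain_eq : (chain (K := K) : Subgroup G) = X.P := by
  refine X.P.3 ?_ ?_
  · intro g
    refine ⟨1, Subtype.ext (X.faith _ fun m => ?_)⟩
    show ((g : G) ^ (2 ^ 1)) • m = m
    rw [pow_one, pow_two, mul_smul]
    obtain ⟨h1, h2⟩ := g.2
    have h := h1 _ (h2 m)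
    rw [smul_sub] at h
    have : (g : G) • (g : G) • m - m = ((g : G) • m - m) + ((g : G) • m - m) := by
      rw [← sub_eq_zero]
      rw [show (g : G) • (g : G) • m - m - ((g : G) • m - m + ((g : G) • m - m)) =
        ((g : G) • (g : G) • m - (g : G) • m) - ((g : G) • m - m) by abel, h, sub_self]
    rw [add_self_M, sub_eq_zero] at this
    exact this
  · intro a ha
    obtain ⟨s, rfl⟩ := X.exists_tr ha
    exact ⟨fun m hm => X.fix_tr s hm, fun m => by rw [X.dev_tr]; rfl⟩

/-- An element stabilising the fixed points normalises the Sylow subgroup. -/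
theorem conj_mem_of_stab {g : G} (hg : ∀ m ∈ (Z : Set M), g⁻¹ • m ∈ (Z : Set M))
    {a : G} (ha : a ∈ (X.P : Subgroup G)) : g * a * g⁻¹ ∈ (X.P : Subgroup G) := by
  have hg' : ∀ m ∈ (Z : Set M), g • m ∈ (Z : Set M) := fun m hm => by
    have hinj : Set.InjOn (fun m : M => g⁻¹ • m) (Z : Set M) := (MulAction.injective _).injOn
    have himg : (fun m : M => g⁻¹ • m) '' (Z : Set M) = (Z : Set M) :=
      Set.eq_of_subset_of_ncard_le (Set.image_subset_iff.2 hg)
        (hinj.ncard_image).ge (Set.toFinite _)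
    obtain ⟨m', hm', he⟩ := himg.ge hm
    show (g • m).1 = 0
    rw [← (he : g⁻¹ • m' = m), smul_inv_smul]
    exact hm'
  rw [← X.chain_eq] at ha ⊢
  refine ⟨fun m hm => ?_, fun m => ?_⟩
  · rw [mul_smul, mul_smul, ha.1 _ (hg m hm), smul_inv_smul]
  · have h := hg' _ (ha.2 (g⁻¹ • m))
    rwa [smul_sub, smul_inv_smul, ← mul_smul, ← mul_smul] at h

theorem TI {g : G} {a : G} (ha : a ∈ (X.P : Subgroup G)) (ha1 : a ≠ 1)
    (hb : g⁻¹ * a * g ∈ (X.P : Subgroup G)) {x : G} (hx : x ∈ (X.P : Subgroup G)) :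
    g * x * g⁻¹ ∈ (X.P : Subgroup G) := by
  refine X.conj_mem_of_stab (fun m hm => ?_) hx
  obtain ⟨s, rfl⟩ := X.exists_tr ha
  refine X.mem_Z_of_fix hb (fun h => ha1 ?_) ?_
  · have := congrArg (fun y => g * y * g⁻¹) h
    simpa [mul_assoc] using this
  · rw [mul_smul, mul_smul, smul_inv_smul, X.fix_tr s hm]

theorem exists_move : ∃ g : G, ∃ x ∈ (X.P : Subgroup G), g * x * g⁻¹ ∉ (X.P : Subgroup G) := by
  by_contra h
  push Not at h
  exact X.not_normal ⟨fun x hx g => h g x hx⟩

/-- `g` moves the Sylow subgroup. -/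
def Moves (g : G) : Prop := ∃ x ∈ (X.P : Subgroup G), g * x * g⁻¹ ∉ (X.P : Subgroup G)

theorem not_mem_of_moves {g : G} (hg : X.Moves g) {a : G} (ha : a ∈ (X.P : Subgroup G))
    (ha1 : a ≠ 1) : g⁻¹ * a * g ∉ (X.P : Subgroup G) := fun hb => by
  obtain ⟨x, hx, hxn⟩ := hg
  exact hxn (X.TI ha ha1 hb hx)

theorem commuting_mem {a z : G} (ha : a ∈ (X.P : Subgroup G)) (ha1 : a ≠ 1)
    (hz : z * z = 1) (hc : a * z = z * a) : z ∈ (X.P : Subgroup G) := by
  have : Fact (Nat.Prime 2) := ⟨Nat.prime_two⟩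
  have ha2 := X.sq_eq_one ha
  let V : Subgroup G :=
    { carrier := {1, a, z, a * z}
      one_mem' := by simp
      mul_mem' := by
        have h1 : ∀ y, a * (a * y) = y := fun y => by rw [← mul_assoc, ha2, one_mul]
        have h2 : ∀ y, z * (z * y) = y := fun y => by rw [← mul_assoc, hz, one_mul]
        have h3 : ∀ y, z * (a * y) = a * (z * y) := fun y => by rw [← mul_assoc, ← hc, mul_assoc]
        rintro x y (rfl | rfl | rfl | rfl) (rfl | rfl | rfl | rfl) <;>
          simp [mul_assoc, ha2, hz, ← hc, h1, h2, h3]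
      inv_mem' := by
        have i1 : a⁻¹ = a := inv_eq_of_mul_eq_one_right ha2
        have i2 : z⁻¹ = z := inv_eq_of_mul_eq_one_right hz
        rintro x (rfl | rfl | rfl | rfl) <;> simp [i1, i2, ← hc] }
  have hV : IsPGroup 2 V := by
    rintro ⟨x, hx⟩
    refine ⟨1, Subtype.ext ?_⟩
    show x ^ (2 ^ 1) = 1
    rw [pow_one, pow_two]
    rcases hx with rfl | rfl | rfl | rfl
    · simp
    · exact ha2
    · exact hz
    · calc a * z * (a * z) = a * (z * a) * z := by group
        _ = a * (a * z) * z := by rw [hc]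
        _ = (a * a) * (z * z) := by group
        _ = 1 := by rw [ha2, hz, one_mul]
  obtain ⟨T, hT⟩ := hV.exists_le_sylow
  obtain ⟨g, hg⟩ := MulAction.exists_smul_eq G X.P T
  have hconj : ∀ w ∈ (T : Subgroup G), g⁻¹ * w * g ∈ (X.P : Subgroup G) := by
    intro w hw
    rw [← hg, Sylow.coe_subgroup_smul, Subgroup.pointwise_smul_def] at hw
    obtain ⟨p', hp', rfl⟩ := hw
    show g⁻¹ * (g * p' * g⁻¹) * g ∈ (X.P : Subgroup G)
    simpa [mul_assoc] using (show p' ∈ (X.P : Subgroup G) from hp')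
  have h := X.TI ha ha1 (hconj a (hT (by show a ∈ ({1, a, z, a * z} : Set G); simp)))
    (hconj z (hT (by show z ∈ ({1, a, z, a * z} : Set G); simp)))
  simpa [mul_assoc] using h

theorem odd_order {g : G} (hg : X.Moves g) {a b : G} (ha : a ∈ (X.P : Subgroup G)) (ha1 : a ≠ 1)
    (hb : b ∈ (X.P : Subgroup G)) (hb1 : b ≠ 1) : Odd (orderOf (a * (g * b * g⁻¹))) := by
  obtain ⟨c, hc⟩ : ∃ c, c = g * b * g⁻¹ := ⟨_, rfl⟩
  rw [← hc]
  have ha2 := X.sq_eq_one ha
  have hc2 : c * c = 1 := by
    rw [hc, show g * b * g⁻¹ * (g * b * g⁻¹) = g * (b * b) * g⁻¹ by group, X.sq_eq_one hb, mul_one,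
      mul_inv_cancel]
  set d := a * c with hd
  by_contra hodd
  obtain ⟨k, hk⟩ := Nat.not_odd_iff_even.1 hodd
  set z := d ^ k with hz
  have hk0 : 0 < k := by
    rcases Nat.eq_zero_or_pos k with rfl | h
    · simp [orderOf_eq_zero_iff, isOfFinOrder_of_finite] at hk
    · exact h
  have hz2 : z * z = 1 := by rw [hz, ← pow_add, ← hk, pow_orderOf_eq_one]
  have hz1 : z ≠ 1 := pow_ne_one_of_lt_orderOf hk0.ne' (by omega)
  have hinv : d⁻¹ = c * a := by
    rw [hd, mul_inv_rev, inv_eq_of_mul_eq_one_right ha2, inv_eq_of_mul_eq_one_right hc2]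
  have hzi : z⁻¹ = z := inv_eq_of_mul_eq_one_right hz2
  have hca : a * z = z * a := by
    have h1 : (a * d * a⁻¹) ^ k = a * z * a⁻¹ := by rw [conj_pow]
    have h2 : a * d * a⁻¹ = d⁻¹ := by
      rw [hinv, hd, inv_eq_of_mul_eq_one_right ha2, ← mul_assoc a a c, ha2, one_mul]
    rw [h2, inv_pow, ← hz, hzi] at h1
    exact (mul_inv_eq_iff_eq_mul.1 h1.symm)
  have hcc : c * z = z * c := by
    have h1 : (c * d * c⁻¹) ^ k = c * z * c⁻¹ := by rw [conj_pow]
    have h2 : c * d * c⁻¹ = d⁻¹ := by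
      rw [hinv, hd, inv_eq_of_mul_eq_one_right hc2, mul_assoc, mul_assoc, hc2, mul_one]
    rw [h2, inv_pow, ← hz, hzi] at h1
    exact (mul_inv_eq_iff_eq_mul.1 h1.symm)
  have hzP := X.commuting_mem ha ha1 hz2 hca
  have hzP' : g⁻¹ * z * g ∈ (X.P : Subgroup G) := by
    refine X.commuting_mem hb hb1 ?_ ?_
    · simp only [mul_assoc, mul_inv_cancel_left]
      rw [← mul_assoc z z, hz2, one_mul, inv_mul_cancel]
    · have := congrArg (fun w => g⁻¹ * w * g) hcc
      simpa [hc, mul_assoc] using this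
  exact X.not_mem_of_moves hg hzP hz1 hzP'

end Setting

/-- If two involutions with product of odd order fix `w` and `w` is a commutator with the first, it
is one with the second. -/
theorem exists_dev_of_odd {G M : Type*} [Group G] [AddCommGroup M] [DistribMulAction G M]
    (h2 : ∀ m : M, m + m = 0) {a c : G} (ha : a * a = 1) (hc : c * c = 1)
    (hodd : Odd (orderOf (a * c))) {w : M} (hca : c • w = w) (haw : a • w = w)
    (hv : ∃ v : M, a • v - v = w) : ∃ v : M, c • v - v = w := by
  obtain ⟨v, hv⟩ := hv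
  set d := a * c with hd
  set m := orderOf d with hm
  set v0 : M := ∑ i ∈ Finset.range m, d ^ i • v with hv0
  have hdw : ∀ i : ℕ, d ^ i • w = w := by
    intro i
    induction i with
    | zero => rw [pow_zero, one_smul]
    | succ i ih => rw [pow_succ, mul_smul, hd, mul_smul, hca, haw, ← hd, ih]
  have hdv0 : d • v0 = v0 := by
    have h1 : d • v0 = ∑ i ∈ Finset.range m, d ^ (i + 1) • v := by
      rw [hv0, Finset.smul_sum]
      exact Finset.sum_congr rfl fun i _ => by rw [← mul_smul, ← pow_succ']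
    have h3 := Finset.sum_range_succ' (fun i => d ^ i • v) m
    rw [Finset.sum_range_succ, hm, pow_orderOf_eq_one, pow_zero, ← hm, ← h1] at h3
    exact (add_right_cancel h3).symm
  have hneg : ∀ x : M, -x = x := fun x => neg_eq_of_add_eq_zero_left (h2 x)
  have hav : a • v = v + w := by rw [← hv]; abel
  have hav0 : a • v0 = v0 + w := by
    have hstep : ∀ i, a • d ^ i • v = (d⁻¹) ^ i • (v + w) := by
      intro i
      rw [← hav, ← mul_smul, ← mul_smul]
      congr 1
      have h : a * d * a⁻¹ = d⁻¹ := by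
        rw [hd, mul_inv_rev, inv_eq_of_mul_eq_one_right ha, inv_eq_of_mul_eq_one_right hc,
          ← mul_assoc a a c, ha, one_mul]
      rw [← h, conj_pow, inv_eq_of_mul_eq_one_right ha, mul_assoc (a * d ^ i), ha, mul_one]
    have hw : ∀ i, (d⁻¹) ^ i • w = w := fun i => by rw [inv_pow, inv_smul_eq_iff, hdw]
    have hodd' : ∑ _i ∈ Finset.range m, w = w := by
      obtain ⟨k, hk⟩ := hodd
      rw [Finset.sum_const, Finset.card_range, hk, succ_nsmul, mul_comm, mul_nsmul', two_nsmul,
        h2, nsmul_zero, zero_add]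
    have hinv : ∑ i ∈ Finset.range m, (d⁻¹) ^ i • v = v0 := by
      rw [hv0]
      refine Finset.sum_nbij' (fun i => (m - i) % m) (fun i => (m - i) % m) ?_ ?_ ?_ ?_ ?_
      · intro i hi; simp only [Finset.mem_range] at hi ⊢; exact Nat.mod_lt _ (by omega)
      · intro i hi; simp only [Finset.mem_range] at hi ⊢; exact Nat.mod_lt _ (by omega)
      · intro i hi
        simp only [Finset.mem_range] at hi
        rcases Nat.eq_zero_or_pos i with rfl | h0
        · simp
        · show (m - (m - i) % m) % m = i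
          rw [Nat.mod_eq_of_lt (show m - i < m by omega), Nat.mod_eq_of_lt (by omega)]; omega
      · intro i hi
        simp only [Finset.mem_range] at hi
        rcases Nat.eq_zero_or_pos i with rfl | h0
        · simp
        · show (m - (m - i) % m) % m = i
          rw [Nat.mod_eq_of_lt (show m - i < m by omega), Nat.mod_eq_of_lt (by omega)]; omega
      · intro i hi
        simp only [Finset.mem_range] at hi
        congr 1
        rw [inv_pow, inv_eq_iff_mul_eq_one, hm, pow_mod_orderOf, ← hm, ← pow_add,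
          Nat.add_sub_cancel' hi.le, hm, pow_orderOf_eq_one]
    rw [hv0, Finset.smul_sum]
    calc ∑ i ∈ Finset.range m, a • d ^ i • v
        = ∑ i ∈ Finset.range m, ((d⁻¹) ^ i • v + w) :=
          Finset.sum_congr rfl fun i _ => by rw [hstep, smul_add, hw]
      _ = _ := by rw [Finset.sum_add_distrib, hinv, hodd', hv0]
  refine ⟨v0, ?_⟩
  have h4 : c • v0 = a • v0 := by
    conv_rhs => rw [← hdv0, hd, mul_smul, ← mul_smul a a, ha, one_smul]
  rw [h4, hav0]; abel

namespace Setting

variable [DistribMulAction G (K × K × K)] {φ : K → K → K}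

local notation "M" => (K × K × K)

variable (X : Setting G φ)

omit [Finite G] in
theorem dev_conj (g : G) (s : K) (m : M) :
    (g * X.tr s * g⁻¹) • m - m = g • (X.tr s • (g⁻¹ • m) - g⁻¹ • m) := by
  rw [mul_smul, mul_smul, smul_sub, smul_inv_smul]

theorem mul_self_conj (g : G) (s : K) : g * X.tr s * g⁻¹ * (g * X.tr s * g⁻¹) = 1 := by
  rw [show g * X.tr s * g⁻¹ * (g * X.tr s * g⁻¹) = g * (X.tr s * X.tr s) * g⁻¹ by group,
    X.sq_eq_one (X.tr_mem s), mul_one, mul_inv_cancel]

/-- Commutators with any two elements of the Sylow subgroup agree at common fixed vectors. -/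
theorem exists_dev_two {g : G} (hg : X.Moves g) {s r s' : K} (hs : s ≠ 0) (hr : r ≠ 0) (hs' : s' ≠ 0)
    {w : M} (hw : X.tr s • w = w) (hw' : X.tr s' • w = w) (hwg : (g * X.tr r * g⁻¹) • w = w)
    (hv : ∃ v : M, X.tr s • v - v = w) : ∃ v : M, X.tr s' • v - v = w := by
  have hn : ∀ {x : K}, x ≠ 0 → X.tr x ≠ 1 := fun hx h => hx ((X.tr_eq_one_iff _).1 h)
  have h1 := exists_dev_of_odd (add_self_M (K := K)) (X.sq_eq_one (X.tr_mem s)) (X.mul_self_conj g r)
    (X.odd_order hg (X.tr_mem s) (hn hs) (X.tr_mem r) (hn hr)) hwg hw hv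
  refine exists_dev_of_odd (add_self_M (K := K)) (X.mul_self_conj g r) (X.sq_eq_one (X.tr_mem s'))
    ?_ hw' hwg h1
  have h3 := X.odd_order hg (X.tr_mem s') (hn hs') (X.tr_mem r) (hn hr)
  have he : g * X.tr r * g⁻¹ * X.tr s' =
      MulAut.conj (X.tr s')⁻¹ (X.tr s' * (g * X.tr r * g⁻¹)) := by
    rw [MulAut.conj_apply, inv_inv, ← mul_assoc (X.tr s')⁻¹, inv_mul_cancel, one_mul]
  rw [he, MulEquiv.orderOf_eq]
  exact h3

/-- A common fixed vector of two Sylow subgroups lies on an axis. -/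
theorem axis {g : G} (hg : X.Moves g) {z c : K} (hfix : ∀ r, (g * X.tr r * g⁻¹) • ((0, z, c) : M) = (0, z, c)) :
    z = 0 ∨ c = 0 := by
  by_contra hzc
  push Not at hzc
  obtain ⟨hz, hc⟩ := hzc
  set w : M := (0, z, c)
  have hwA : ∀ s, X.tr s • w = w := fun s => X.fix_tr s rfl
  obtain ⟨s, v, hsv, hφ⟩ := X.surj z c hz hc
  have hs : s ≠ 0 := fun h => hz (by rw [← hsv, h, zero_mul])
  have hv : X.tr s • ((v, 0, 0) : M) - (v, 0, 0) = w := by rw [X.dev_tr, hsv, hφ]
  by_cases hbig : ∃ s' : K, s' ≠ 0 ∧ s' ≠ s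
  · obtain ⟨s', hs', hne⟩ := hbig
    obtain ⟨⟨v', z', c'⟩, hv'⟩ := X.exists_dev_two hg hs (one_ne_zero) hs' (hwA s) (hwA s') (hfix 1) ⟨_, hv⟩
    rw [X.dev_tr] at hv'
    have e1 : s' * v' = z := congrArg (fun m : M => m.2.1) hv'
    have e2 : φ s' v' = c := congrArg (fun m : M => m.2.2) hv'
    exact hne (X.unique s v s' v' hs (fun h => hz (by rw [← hsv, h, mul_zero])) (by rw [hsv, e1])
      (by rw [hφ, e2])).symm
  · push Not at hbig
    obtain rfl : (1 : K) = s := hbig 1 one_ne_zero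
    have him : ∀ m : M, X.tr 1 • m - m = 0 ∨ X.tr 1 • m - m = w := by
      intro m
      rw [X.dev_tr]
      by_cases h0 : m.1 = 0
      · left; rw [h0, mul_zero, X.phi_zero_right]; rfl
      · right
        have h1 : m.1 = 1 := hbig _ h0
        have h1v : v = 1 := hbig _ (fun h => hz (by rw [← hsv, h, mul_zero]))
        show ((0, 1 * m.1, φ 1 m.1) : M) = (0, z, c)
        rw [h1, ← hsv, ← hφ, h1v]
    set b := g * X.tr 1 * g⁻¹
    have him' : ∀ m : M, b • m - m = 0 ∨ b • m - m = w := by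
      have hgw : g • w = w := by
        obtain ⟨v0, hv0⟩ := exists_dev_of_odd (add_self_M (K := K)) (X.sq_eq_one (X.tr_mem 1))
          (X.mul_self_conj g 1) (X.odd_order hg (X.tr_mem 1)
            (fun h => one_ne_zero ((X.tr_eq_one_iff _).1 h)) (X.tr_mem 1)
            (fun h => one_ne_zero ((X.tr_eq_one_iff _).1 h))) (hfix 1) (hwA 1) ⟨_, hv⟩
        rw [X.dev_conj] at hv0
        rcases him (g⁻¹ • v0) with h | h <;> rw [h] at hv0
        · rw [smul_zero] at hv0
          exact absurd (congrArg (fun m : M => m.2.1) hv0.symm) hz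
        · exact hv0
      intro m
      rw [X.dev_conj]
      rcases him (g⁻¹ • m) with h | h <;> rw [h]
      · left; rw [smul_zero]
      · right; exact hgw
    set a := X.tr 1
    have hd : ∀ m : M, (a * b) • m - m = 0 ∨ (a * b) • m - m = w := by
      intro m
      have e : (a * b) • m - m = (a • (b • m) - b • m) + (b • m - m) := by rw [mul_smul]; abel
      rw [e]
      rcases him (b • m) with h | h <;> rcases him' m with h' | h' <;> rw [h, h']
      · left; simp
      · right; simp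
      · right; simp
      · left; exact add_self_M w
    have hd2 : (a * b) * (a * b) = 1 := by
      refine X.faith _ fun m => ?_
      rw [mul_smul]
      have hab : (a * b) • w = w := by rw [mul_smul, hfix 1, hwA]
      rcases hd m with h | h
      · rw [sub_eq_zero.1 h, sub_eq_zero.1 h]
      · rw [eq_add_of_sub_eq h, smul_add, hab, eq_add_of_sub_eq h, ← add_assoc, add_self_M, zero_add]
    have hne : a * b ≠ 1 := by
      intro h
      refine X.not_mem_of_moves hg (X.tr_mem 1) (fun h1 => one_ne_zero ((X.tr_eq_one_iff _).1 h1)) ?_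
      have : a = b := by
        rw [← mul_one a, ← (X.mul_self_conj g 1), ← mul_assoc]
        show a * b * b = b
        rw [h, one_mul]
      show g⁻¹ * a * g ∈ _
      rw [this]
      simpa [b, mul_assoc] using X.tr_mem 1
    have ho := X.odd_order hg (X.tr_mem 1) (fun h1 => one_ne_zero ((X.tr_eq_one_iff _).1 h1))
      (X.tr_mem 1) (fun h1 => one_ne_zero ((X.tr_eq_one_iff _).1 h1))
    have : orderOf (a * b) = 2 := orderOf_eq_prime (by rw [pow_two, hd2]) hne
    rw [this] at ho
    exact absurd ho (by decide)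

end Setting

end Cfsg.Agent.Lib.SpFourExotic
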