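import Cfsg.Agent.Lib.SpFourExotic.Match
import Cfsg.Agent.Lib.Fusion.Realized
import Cfsg.Agent.Lib.Fusion.ModelSystems

/-!
A saturated system with non-trivial core over the Sylow 2-subgroup of `Sp₄(2ⁿ)` is realisable.
-/

set_option autoImplicit false

namespace Cfsg.Agent.Lib.SpFourExotic

open Cfsg Cfsg.FusionSystem Cfsg.Agent.Lib.Fusion Cfsg.Agent.Lib.Fusion87

universe uΩ uK uE

variable {Ω : Type uΩ} [Group Ω] {S : Subgroup Ω} {K : Type uK} [Field K]

local notation "M" => (K × K × K)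

/-- The system pulled back along an injective map. -/
def pullSystem {E : Type uE} [Group E] (κ : S →* E) (hκ : Function.Injective κ) : FusionSystem S where
  Hom P := {φ | ∃ (hP : P ≤ S) (hφ : ∀ x : P, φ x ∈ S), ∃ g : E,
    ∀ x : P, κ ⟨φ x, hφ x⟩ = g * κ ⟨x, hP x.2⟩ * g⁻¹}
  le_of_mem := fun ⟨hP, hφ, _⟩ => ⟨hP, hφ⟩
  injective_of_mem := by
    rintro P φ ⟨hP, hφ, g, hg⟩ a b hab
    have h : κ ⟨φ a, hφ a⟩ = κ ⟨φ b, hφ b⟩ := congrArg κ (Subtype.ext hab)
    rw [hg, hg] at h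
    exact Subtype.ext (congrArg Subtype.val (hκ (mul_left_cancel (mul_right_cancel h))) :)
  conj_mem := fun {P g} hP hg => ⟨hP, fun x => S.mul_mem (S.mul_mem hg (hP x.2)) (S.inv_mem hg),
    κ ⟨g, hg⟩, fun x => by rw [← map_inv, ← map_mul, ← map_mul]; rfl⟩
  comp_mem := by
    rintro P Q φ ψ ⟨hP, hφ, g, hg⟩ ⟨hQ, hψ, k, hk⟩ h
    refine ⟨hP, fun x => hψ _, k * g, fun x => ?_⟩
    show κ ⟨ψ ⟨φ x, h x⟩, _⟩ = _
    rw [hk, hg]
    group
  inv_mem := by
    rintro P φ ⟨hP, hφ, g, hg⟩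
    let φi : φ.range →* P := (MonoidHom.ofInjective (show Function.Injective φ from fun a b hab => by
      have h : κ ⟨φ a, hφ a⟩ = κ ⟨φ b, hφ b⟩ := congrArg κ (Subtype.ext hab)
      rw [hg, hg] at h
      exact Subtype.ext (congrArg Subtype.val (hκ (mul_left_cancel (mul_right_cancel h))) :))).symm.toMonoidHom
    have hr : φ.range ≤ S := by rintro _ ⟨x, rfl⟩; exact hφ x
    have hφi : ∀ x, φi ⟨φ x, ⟨x, rfl⟩⟩ = x := fun x =>
      (MonoidHom.ofInjective _).symm_apply_apply x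
    refine ⟨P.subtype.comp φi, ⟨hr, fun y => hP (φi y).2, g⁻¹, ?_⟩,
      fun x => congrArg Subtype.val (hφi x)⟩
    rintro ⟨_, x, rfl⟩
    have hval : (⟨P.subtype.comp φi ⟨φ x, ⟨x, rfl⟩⟩, hP (φi ⟨φ x, ⟨x, rfl⟩⟩).2⟩ : S) = ⟨x, hP x.2⟩ :=
      Subtype.ext (congrArg (fun y : P => (y : Ω)) (hφi x) :)
    rw [hval, hg]
    group

theorem isRealizedBy_pullSystem {E : Type uE} [Group E] {κ : S →* E} (hκ : Function.Injective κ) :
    (pullSystem κ hκ).IsRealizedBy κ :=
  ⟨hκ, fun _P hP _φ hφ => ⟨fun ⟨_, _, h⟩ => h, fun h => ⟨hP, hφ, h⟩⟩⟩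

variable [CharP K 2] [Fintype K]

omit [CharP K 2] [Fintype K] in
/-- The action as a unit of the endomorphisms. -/
noncomputable def toAEnd {G : Type*} [Group G] [DistribMulAction G (K × K × K)] : G →* AEnd K :=
  (DistribMulAction.toAddMonoidEnd G (K × K × K)).toHomUnits

omit [CharP K 2] [Fintype K] in
theorem toAEnd_smul {G : Type*} [Group G] [DistribMulAction G (K × K × K)] (g : G) (m : M) :
    (toAEnd g : AEnd K) • m = g • m := rfl

/-- A twist along the axis, as a unit. -/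
def twist (η : K →+ K) : AEnd K where
  val := AddMonoidHom.mk' (fun m : M => m + (0, 0, η m.1)) fun m n => by
    ext <;> simp; ring
  inv := AddMonoidHom.mk' (fun m : M => m + (0, 0, η m.1)) fun m n => by
    ext <;> simp; ring
  val_inv := AddMonoidHom.ext fun m => by
    show m + _ + ((0 : K), (0 : K), η (m + ((0 : K), (0 : K), η m.1)).1) = m
    rw [show (m + ((0 : K), (0 : K), η m.1)).1 = m.1 by simp, add_assoc, Setting.add_self_M, add_zero]
  inv_val := AddMonoidHom.ext fun m => by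
    show m + _ + ((0 : K), (0 : K), η (m + ((0 : K), (0 : K), η m.1)).1) = m
    rw [show (m + ((0 : K), (0 : K), η m.1)).1 = m.1 by simp, add_assoc, Setting.add_self_M, add_zero]

theorem twist_smul (η : K →+ K) (m : M) : twist η • m = m + (0, 0, η m.1) := rfl

theorem twist_twist (η : K →+ K) (m : M) : twist η • twist η • m = m :=
  congrArg (fun f : AddMonoid.End M => f m) (twist η).val_inv

variable [Finite S] {F : FusionSystem S} {e : U4 K ≃* ↥S}
variable {R : Subgroup (U4 K)} {φ : K → K → K} (ch : Chart K R φ)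

/-- Equal images give the same automisers up to a twist. -/
theorem autGroup_eq_of_match (hS : IsPGroup 2 S) (hF : F.IsSaturated 2)
    (hE : F.IsEssential 2 (sub e R)) (hfix : (setting (ch := ch) (e := e) hS hF hE).HasFixed)
    (l : K →+ K) {E : Type*} [Group E] {ι : U4 K →* E}
    (hGB : ∀ g : Aut' F e ch, ∃ β ∈ EAut ch ι, ∃ L k, Act l g L k ∧ Act l β L k)
    (hBG : ∀ β ∈ EAut ch ι, ∃ g : Aut' F e ch, ∃ L k, Act l g L k ∧ Act l β L k)
    (hB : ∀ β ∈ EAut ch ι, Act l β id 1 → β = 1) :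
    ∃ η : K →+ K, ∀ δ : U4 K →* U4 K, (∀ m, δ (ch.j m) = ch.j (twist η • m)) →
      ∀ (κ : S →* E) (hκ : Function.Injective κ), (∀ a, κ (e a) = ι (δ a)) →
        (pullSystem κ hκ).autGroup (sub e R) = F.autGroup (sub e R) := by
  have : Fact (Nat.Prime 2) := ⟨Nat.prime_two⟩
  set X := setting (ch := ch) (e := e) hS hF hE
  obtain ⟨P, hP⟩ := exists_sylow_inner (F := F) (e := e) (ch := ch) hS hF
  obtain ⟨η, hη1, hη2⟩ := exists_twist (G := Aut' F e ch) (EAut ch ι) l (inner F e ch)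
    (hP ▸ P.not_dvd_index) hGB hBG
    (fun g hg => X.eq_one_of_trivial hfix (fun c => by rw [hg.2, one_mul]) fun m => by
      obtain ⟨h1, h2⟩ : (g • m).1 = m.1 ∧ (g • m).2.1 + l (g • m).1 = m.2.1 + l m.1 :=
        Prod.ext_iff.1 (hg.1 m)
      rw [h1] at h2
      exact ⟨(g • m).2.2 - m.2.2,
        Prod.ext (by simp [h1]) (Prod.ext (by simp [add_right_cancel h2]) (by simp))⟩)
    hB
    (fun a ha => by
      obtain ⟨s, rfl⟩ := mem_inner.1 ha
      refine ⟨toAEnd (cj F e ch (ch.par s)), ⟨ι (ch.par s), fun ⟨v, z, c⟩ => ?_⟩,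
        fun m => toAEnd_smul _ _⟩
      rw [toAEnd_smul, cj_par, ← ch.conj, map_mul, map_mul, map_inv])
    (fun z => ⟨cj F e ch (ch.par z), mem_inner.2 ⟨z, rfl⟩, φ z 1, by rw [cj_par]; simp⟩)
    (fun a ha c => by
      obtain ⟨s, rfl⟩ := mem_inner.1 ha
      exact X.fix_tr s rfl)
  refine ⟨η, fun δ hδ κ hκ hκe => ?_⟩
  have hκj : ∀ m, κ ⟨(vec e ch m : Ω), sub_le e R (vec e ch m).2⟩ = ι (ch.j (twist η • m)) :=
    fun m => by rw [← hδ]; exact hκe (ch.j m)
  apply le_antisymm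
  · intro α hα
    obtain ⟨hle, hin, ε, hε⟩ := (mem_autGroup (sub_le e R)).1 hα
    set g1 : Aut' (pullSystem κ hκ) e ch := Aut'.mk α hα
    have hg1 : ∀ m, ε * ι (ch.j (twist η • m)) * ε⁻¹ = ι (ch.j (twist η • g1 • m)) := by
      intro m
      rw [← hκj, ← hκj]
      refine (hε (vec e ch m)).symm.trans ?_
      congr 1
      exact Subtype.ext (congrArg Subtype.val (vec_smul g1 m)).symm
    have hβ : twist η * toAEnd g1 * twist η ∈ EAut ch ι := ⟨ε, fun m => by
      rw [mul_smul, mul_smul, toAEnd_smul, ← hg1, twist_twist]⟩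
    obtain ⟨g, hg⟩ := hη2 _ hβ
    have hgg : g.val = α := by
      refine MulEquiv.ext fun x => ?_
      obtain ⟨m, rfl⟩ := (vec_bijective (e := e) (ch := ch)).2 x
      rw [← vec_smul, show α (vec e ch m) = g1.val (vec e ch m) from rfl, ← vec_smul]
      congr 1
      have h := hg m
      rw [← twist_smul, ← twist_smul, mul_smul, mul_smul, toAEnd_smul, twist_twist] at h
      exact ((MulAction.injective (twist η)) h).symm
    exact hgg ▸ g.mem
  · intro α hα
    obtain ⟨β, ⟨ε, hε⟩, hβ⟩ := hη1 (Aut'.mk α hα : Aut' F e ch)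
    refine (mem_autGroup (sub_le e R)).2 ⟨sub_le e R, fun x => sub_le e R (α x).2, ε, fun x => ?_⟩
    obtain ⟨m, rfl⟩ := (vec_bijective (e := e) (ch := ch)).2 x
    have h := hβ m
    rw [← twist_smul, ← twist_smul] at h
    rw [hκj, hε, h, ← hκj]
    congr 1
    exact Subtype.ext (congrArg Subtype.val (vec_smul (Aut'.mk α hα : Aut' F e ch) m)).symm

/-- Systems agreeing on both radicals agree on `S`. -/
theorem autU_le {A B C : FusionSystem S} (hS : IsPGroup 2 S) (hA : A.IsSaturated 2)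
    (hB : B.IsSaturated 2) (hC : C.IsSaturated 2) (e : U4 K ≃* ↥S)
    (hE : C.IsEssential 2 (sub e (rad2 K)))
    (h1 : A.autGroup (sub e (rad1 K)) = B.autGroup (sub e (rad1 K)))
    (h2A : A.autGroup (sub e (rad2 K)) = C.autGroup (sub e (rad2 K)))
    (h2B : B.autGroup (sub e (rad2 K)) = C.autGroup (sub e (rad2 K))) :
    AutU A e ≤ AutU B e := by
  intro α hα
  obtain ⟨g0, hg0⟩ := exists_restrict chart1 hα (rad_invariant hS hA hα).1
  have hσ : ∀ s, ∃ s' n, α (chart1.par s) = chart1.j n * chart1.par s' := fun s => by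
    obtain ⟨n, s', h⟩ := chart1.cover (α (chart1.par s)); exact ⟨s', n, h⟩
  choose σ n hσn using hσ
  set g : Aut' B e (chart1 (K := K)) := Aut'.mk g0.val (h1 ▸ g0.mem)
  have hg : ∀ m : M, g • m = g0 • m := fun m => rfl
  obtain ⟨β, hβ, hβj⟩ := exists_extend chart1 hS hB g σ fun s => by
    refine Aut'.ext (MulEquiv.ext fun x => ?_)
    obtain ⟨m, rfl⟩ := (vec_bijective (e := e) (ch := chart1 (K := K))).2 x
    rw [← vec_smul, ← vec_smul, mul_smul, mul_smul]
    congr 1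
    refine chart1.j_inj ?_
    rw [hg, hg, hg0, (el_inj e).1 ((cj_smul (F := B) (ch := chart1) _ _).trans (conj_el e _ _)),
      map_mul, map_mul, map_inv, hσn,
      (el_inj e).1 ((cj_smul (F := B) (ch := chart1) (chart1.par (σ s)) _).trans (conj_el e _ _))]
    obtain ⟨⟨v, z, c⟩, hv⟩ : ∃ w : M, g0 • m = w := ⟨_, rfl⟩
    rw [← hg0, hv, show chart1.j (n s) * chart1.par (σ s) * chart1.j (v, z, c) *
      (chart1.j (n s) * chart1.par (σ s))⁻¹ = chart1.j (n s) *
      (chart1.par (σ s) * chart1.j (v, z, c) * (chart1.par (σ s))⁻¹) * (chart1.j (n s))⁻¹ by group,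
      chart1.conj, ← chart1.j_add, add_comm (n s), chart1.j_add, mul_inv_cancel_right]
  set ε := β⁻¹ * α with hεdef
  have hε1 : ∀ m, ε (chart1.j m) = chart1.j m := fun m => by
    rw [hεdef, MulAut.mul_apply, ← hg0, ← hg, ← hβj]; exact β.symm_apply_apply _
  obtain ⟨a2, ha2⟩ := exists_restrict chart2 hα (rad_invariant hS hA hα).2
  obtain ⟨b2, hb2⟩ := exists_restrict chart2 hβ (rad_invariant hS hB hβ).2
  set gA : Aut' C e (chart2 (K := K)) := Aut'.mk a2.val (h2A ▸ a2.mem)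
  set gB : Aut' C e (chart2 (K := K)) := Aut'.mk b2.val (h2B ▸ b2.mem)
  have hgε : ∀ m, chart2.j ((gB⁻¹ * gA) • m) = ε (chart2.j m) := fun m => by
    rw [hεdef, MulAut.mul_apply, mul_smul]
    apply β.injective
    rw [show β (β⁻¹ (α (chart2.j m))) = α (chart2.j m) from β.apply_symm_apply _]
    have e1 : ∀ w : M, chart2.j (gB • w) = β (chart2.j w) := hb2
    rw [← e1, smul_inv_smul]
    exact ha2 m
  set X := setting (ch := chart2) (e := e) hS hC hE
  have hfixmid : ∀ m : M, m.1 = 0 → (gB⁻¹ * gA) • m = m := fun ⟨v, z, c⟩ hv => by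
    change v = 0 at hv
    subst hv
    exact chart2.j_inj ((hgε _).trans (hε1 ((0, z, c) : M)))
  have hquot : ∀ t : K, (ε ⟨t, 0, 0, 0⟩).t = t := fun t => by
    obtain ⟨k, t', hk⟩ := chart1.cover (ε ⟨t, 0, 0, 0⟩)
    have h := congrArg ε (chart1.conj t 1 0 0)
    rw [map_mul, map_mul, map_inv, hε1, hε1] at h
    change ε ⟨t, 0, 0, 0⟩ * _ * (ε ⟨t, 0, 0, 0⟩)⁻¹ = _ at h
    rw [hk, show chart1.j k * chart1.par t' * chart1.j (1, 0, 0) * (chart1.j k * chart1.par t')⁻¹ =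
      chart1.j k * (chart1.par t' * chart1.j (1, 0, 0) * (chart1.par t')⁻¹) * (chart1.j k)⁻¹ by group,
      chart1.conj, ← chart1.j_add, add_comm k, chart1.j_add, mul_inv_cancel_right] at h
    have h2 := congrArg (fun m : M => m.2.1) (chart1.j_inj h)
    simp at h2
    rw [hk]
    show (0 : K) + t' = t
    rw [zero_add, h2]
  have hdec : ∀ a : U4 K, a = chart1.j (a.u, a.x, a.y) * ⟨a.t, 0, 0, 0⟩ := fun a => by
    ext <;> simp [chart1, CharTwo.two_eq_zero]
  have hε : (gB⁻¹ * gA) ∈ (X.P : Subgroup (Aut' C e (chart2 (K := K)))) := by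
    rw [← X.chain_eq]
    refine ⟨hfixmid, fun m => ?_⟩
    show ((gB⁻¹ * gA) • m - m).1 = 0
    have h : (ε (chart2.j m)).t = m.1 := by
      conv_lhs => rw [hdec (chart2.j m), map_mul, hε1]
      show 0 + _ = _
      rw [zero_add, hquot]; rfl
    rw [← hgε] at h
    rw [Prod.fst_sub]
    exact sub_eq_zero.2 h
  obtain ⟨s, hs⟩ := X.exists_tr hε
  have hεc : ε = MulAut.conj (chart2.par s) := by
    refine MulEquiv.ext fun a => ?_
    have h2 : ∀ t, ε ⟨t, 0, 0, 0⟩ = MulAut.conj (chart2.par s) ⟨t, 0, 0, 0⟩ := fun t => by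
      show ε (chart2.j (t, 0, 0)) = _
      rw [← hgε, ← hs, show X.tr s = cj C e chart2 (chart2.par s) from rfl,
        (el_inj e).1 ((cj_smul (F := C) (ch := chart2) _ _).trans (conj_el e _ _))]
      rfl
    have hd := hdec a
    conv_lhs => rw [hd, map_mul, hε1, h2]
    conv_rhs => rw [hd, map_mul]
    congr 1
    rw [MulAut.conj_apply, rad1_comm (a := chart2.par s) (b := chart1.j (a.u, a.x, a.y)) rfl rfl,
      mul_inv_cancel_right]
  have : α = β * ε := by rw [hεdef, mul_inv_cancel_left]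
  rw [this, hεc]
  exact mul_mem hβ (inner_mem_AutU _)

/-- A frame gives a realisation. -/
theorem Frame.isRealizable {hS : IsPGroup 2 S} {hF : F.IsSaturated 2} {e : U4 K ≃* ↥S}
    (h : Frame F e hS hF) : F.IsRealizable 2 := by
  have : Fact (Nat.Prime 2) := ⟨Nat.prime_two⟩
  obtain ⟨D⟩ := h.plane
  have hK : ∀ r : K, r ≠ 0 → r ^ 3 = 1 := fun r hr => h.pow_three hr
  obtain ⟨E, iE, fE, ρ, ι, hinj, hρι, hker, himg, hsurj, hT, hconj⟩ := D.exists_group
  have hk1 : Function.Injective (kappa1 K) := inv_injective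
  obtain ⟨η1, hη1⟩ := autGroup_eq_of_match chart1 hS hF h.ess1 h.fix1 D.l1 (ι := ι)
    (fun g => by
      obtain ⟨p, q, r, s, h0, hk, hga⟩ := data_of_aut chart1 h.ess1 h.fix1 D.l1 D.w1 D.hw1 hK
        (kappa1 K) (phi1 hK) (fun c => rfl) g
      obtain ⟨β, hβ, hβa⟩ := eaut1_of_data D hinj hρι hker hsurj hconj h0 hk
      exact ⟨β, hβ, _, _, hga, hβa⟩)
    (fun β hβ => by
      obtain ⟨ε, hε⟩ := hβ
      obtain ⟨p, q, r, s, h0, hk, hβa, -⟩ := data_of_eaut1 D hinj hρι himg hconj hK hε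
      obtain ⟨g, hg⟩ := aut_of_data chart1 h.ess1 h.fix1 D.l1 D.w1 D.hw1 hK (kappa1 K) hk1
        (phi1 hK) (fun c => rfl) (fun α hα => (rad_invariant hS hF hα).1) hk
      exact ⟨g, _, _, hg, hβa⟩)
    (fun β hβ hid => by
      obtain ⟨ε, hε⟩ := hβ
      obtain ⟨p, q, r, s, -, -, hβa, h3⟩ := data_of_eaut1 D hinj hρι himg hconj hK hε
      obtain ⟨n, hn⟩ := h3 (funext fun x => by
        have e1 := hβa.1 (x.1, x.2 - D.l1 x.1, 0)
        have e2 := hid.1 (x.1, x.2 - D.l1 x.1, 0)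
        rw [e1] at e2
        simpa using e2)
      exact beta_eq_one chart1 ι hinj hρι hker (fun c => rfl) hε hid hn)
  obtain ⟨η2, hη2⟩ := autGroup_eq_of_match chart2 hS hF h.ess2 h.fix2 D.l2 (ι := ι)
    (fun g => by
      obtain ⟨p, q, r, s, h0, hk, hga⟩ := data_of_aut chart2 h.ess2 h.fix2 D.l2 D.w2 D.hw2 hK
        (MonoidHom.id K) (fun a b s v => phi2 a b s v) (fun c => rfl) g
      obtain ⟨β, hβ, hβa⟩ := eaut2_of_data D hinj hρι hker hsurj hconj hK h0 hk
      exact ⟨β, hβ, _, _, hga, hβa⟩)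
    (fun β hβ => by
      obtain ⟨ε, hε⟩ := hβ
      obtain ⟨p, q, r, s, h0, hk, hβa, -⟩ := data_of_eaut2 D hinj hρι himg hconj hK hε
      obtain ⟨g, hg⟩ := aut_of_data chart2 h.ess2 h.fix2 D.l2 D.w2 D.hw2 hK (MonoidHom.id K)
        Function.injective_id (fun a b s v => phi2 a b s v) (fun c => rfl)
        (fun α hα => (rad_invariant hS hF hα).2) hk
      exact ⟨g, _, _, hg, hβa⟩)
    (fun β hβ hid => by
      obtain ⟨ε, hε⟩ := hβ
      obtain ⟨p, q, r, s, -, -, hβa, h3⟩ := data_of_eaut2 D hinj hρι himg hconj hK hε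
      obtain ⟨n, hn⟩ := h3 (funext fun x => by
        have e1 := hβa.1 (x.1, x.2 - D.l2 x.1, 0)
        have e2 := hid.1 (x.1, x.2 - D.l2 x.1, 0)
        rw [e1] at e2
        simpa using e2)
      exact beta_eq_one chart2 ι hinj hρι hker (fun c => rfl) hε hid hn)
  let δ : U4 K →* U4 K := MonoidHom.mk' (fun a => ⟨a.t, a.u, a.x, a.y + η1 a.u + η2 a.t⟩) fun a b => by
    ext <;> simp [CharTwo.two_eq_zero] <;> ring
  have hδ : Function.Injective δ := fun a b hab => by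
    have h1 : a.t = b.t := (congrArg U4.t hab :)
    have h2 : a.u = b.u := (congrArg U4.u hab :)
    have h3 : a.x = b.x := (congrArg U4.x hab :)
    have h4 : a.y + η1 a.u + η2 a.t = b.y + η1 b.u + η2 b.t := congrArg (fun x : U4 K => x.y) hab
    rw [h1, h2] at h4
    exact U4.ext h1 h2 h3 (add_right_cancel (add_right_cancel h4))
  have hδ1 : ∀ m, δ (chart1.j m) = chart1.j (twist η1 • m) := fun m => by
    rw [twist_smul]; ext <;> simp [δ, chart1]
  have hδ2 : ∀ m, δ (chart2.j m) = chart2.j (twist η2 • m) := fun m => by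
    rw [twist_smul]; ext <;> simp [δ, chart2]
  set κ : S →* E := (ι.comp δ).comp e.symm.toMonoidHom with hκdef
  have hκ : Function.Injective κ := (hinj.comp hδ).comp e.symm.injective
  have hκe : ∀ a, κ (e a) = ι (δ a) := fun a => by simp [hκdef]
  set F1 := pullSystem κ hκ
  have hreal : F1.IsRealizedBy κ := isRealizedBy_pullSystem hκ
  have hrange : κ.range = ι.range := by
    refine le_antisymm ?_ ?_
    · rintro _ ⟨x, rfl⟩; exact ⟨_, rfl⟩
    · rintro _ ⟨a, rfl⟩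
      obtain ⟨b, hb⟩ := (Finite.injective_iff_surjective.1 hδ) a
      exact ⟨e b, by rw [hκe, hb]⟩
  have hF1 : F1.IsSaturated 2 := isSaturated_of_isRealizedBy hreal (hrange.symm ▸ hT)
  have hR1 := hη1 δ hδ1 κ hκ hκe
  have hR2 := hη2 δ hδ2 κ hκ hκe
  have hU1 := autU_le hS hF1 hF hF e h.ess2 hR1 hR2 rfl
  have hU2 := autU_le hS hF hF1 hF e h.ess2 hR1.symm rfl hR2
  have key : ∀ {A B : FusionSystem S}, AutU A e ≤ AutU B e → A.autGroup S ≤ B.autGroup S := by
    intro A B hAB α hα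
    obtain ⟨α', rfl⟩ := (MulAut.congr e).surjective α
    exact hAB hα
  have hle1 : F ≤ F1 := le_of_autGroup_le hS hF F1 (key hU2) fun P hP => by
    rcases essential_eq hS hF e hP with rfl | rfl
    exacts [hR1.ge, hR2.ge]
  have hle2 : F1 ≤ F := le_of_autGroup_le hS hF1 F (key hU1) fun P hP => by
    rcases essential_eq hS hF1 e hP with rfl | rfl
    exacts [hR1.le, hR2.le]
  have hFE : F.IsRealizedBy κ := ⟨hκ, fun P hP φ hφ =>
    ⟨fun hm => (hreal.2 P hP φ hφ).1 (hle1 P hm), fun hg => hle2 P ((hreal.2 P hP φ hφ).2 hg)⟩⟩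
  haveI : Small.{uΩ} E := Countable.toSmall.{uΩ} E
  let Φ : E ≃* Shrink.{uΩ} E := (Shrink.mulEquiv.{uΩ, uK} (α := E)).symm
  obtain ⟨T, hTr⟩ := hT
  refine ⟨Shrink.{uΩ} E, inferInstance, inferInstance, Φ.toMonoidHom.comp κ,
    ⟨Φ.injective.comp hκ, fun P hP φ hφ => ?_⟩, ?_⟩
  · rw [hFE.2 P hP φ hφ]
    constructor
    · rintro ⟨g, hg⟩
      exact ⟨Φ g, fun x => by simp [hg x]⟩
    · rintro ⟨g, hg⟩
      refine ⟨Φ.symm g, fun x => Φ.injective ?_⟩
      have := hg x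
      simpa using this
  · refine ⟨T.mapSurjective (f := Φ.toMonoidHom) Φ.surjective, ?_⟩
    rw [MonoidHom.range_comp, hrange, ← hTr]
    rfl

/-- The case of characteristic two. -/
theorem isRealizable_two (hS : IsPGroup 2 S) (hF : F.IsSaturated 2) (e : U4 K ≃* ↥S)
    (hcore : F.core ≠ ⊥) : F.IsRealizable 2 := by
  have : Fact (Nat.Prime 2) := ⟨Nat.prime_two⟩
  rcases constrained_or_frame hS hF e hcore with h | ⟨e', h⟩
  · obtain ⟨L, iL, fL, ι, hL⟩ := exists_model_of_isConstrained hS h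
    exact ⟨L, iL, fL, ι, hL.2.1, hL.2.2.1⟩
  · exact h.isRealizable

end Cfsg.Agent.Lib.SpFourExotic
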