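import Cfsg.Agent.Lib.SpFourExotic.Chart

/-!
Systems over the Sylow 2-subgroup of `Sp₄(2ⁿ)` with a non-trivial core are constrained, or both
radicals are essential, the core lies on one axis of the centre and `2ⁿ ≤ 4`.
-/

set_option autoImplicit false

namespace Cfsg.Agent.Lib.SpFourExotic

open Cfsg Cfsg.FusionSystem Cfsg.Agent.Lib.Fusion Cfsg.Agent.Lib.Fusion87

variable {Ω : Type*} [Group Ω] {S : Subgroup Ω} [Finite S] {K : Type*} [Field K] [CharP K 2]
variable {F : FusionSystem S}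

local notation "M" => (K × K × K)

omit [Finite S] in
theorem el_mem_union (e : U4 K ≃* ↥S) {x : Ω} (hx : x ∈ S) (h2 : x * x = 1) :
    x ∈ sub e (rad1 K) ∨ x ∈ sub e (rad2 K) := by
  obtain ⟨a, rfl⟩ := exists_el e hx
  rw [← el_mul, ← el_one e, el_inj] at h2
  exact (t_or_u_of_sq h2).imp (fun h => (el_mem_sub e).2 h) (fun h => (el_mem_sub e).2 h)

omit [Finite S] in
theorem sub_rad_sq (e : U4 K ≃* ↥S) {x : Ω} (hx : x ∈ sub e (rad1 K) ∨ x ∈ sub e (rad2 K)) :
    x * x = 1 := by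
  rcases hx with hx | hx <;> obtain ⟨a, ha, rfl⟩ := (mem_sub e).1 hx <;>
    rw [← el_mul, ← el_one e, el_inj]
  · exact sq_rad (Or.inl ha)
  · exact sq_rad (Or.inr ha)

omit [Finite S] in
theorem natCard_sub (e : U4 K ≃* ↥S) {R : Subgroup (U4 K)} {φ : K → K → K} (ch : Chart K R φ) :
    Nat.card (sub e R) = Nat.card M :=
  (Nat.card_eq_of_bijective _ (vec_bijective (e := e) (ch := ch))).symm

omit [Finite S] in
theorem centralizerIn_rad1 (e : U4 K ≃* ↥S) : centralizerIn S (sub e (rad1 K)) ≤ sub e (rad1 K) := by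
  rintro x ⟨hx, hc⟩
  obtain ⟨a, rfl⟩ := exists_el e hx
  have h := hc (el e ⟨0, 1, 0, 0⟩) ((el_mem_sub e).2 rfl)
  rw [commute_el, commute_iff] at h
  rw [el_mem_sub, mem_rad1]
  simpa [eq_comm] using h.1

omit [Finite S] in
theorem centralizerIn_rad2 (e : U4 K ≃* ↥S) : centralizerIn S (sub e (rad2 K)) ≤ sub e (rad2 K) := by
  rintro x ⟨hx, hc⟩
  obtain ⟨a, rfl⟩ := exists_el e hx
  have h := hc (el e ⟨1, 0, 0, 0⟩) ((el_mem_sub e).2 rfl)
  rw [commute_el, commute_iff] at h
  rw [el_mem_sub, mem_rad2]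
  simpa [eq_comm] using h.1

omit [Finite S] in
theorem rad_ne (e : U4 K ≃* ↥S) : sub e (rad1 K) ≠ sub e (rad2 K) := fun h => by
  have h1 : el e ⟨0, 1, 0, 0⟩ ∈ sub e (rad1 K) := (el_mem_sub e).2 rfl
  rw [h, el_mem_sub, mem_rad2] at h1
  exact one_ne_zero h1

/-- The image of a radical is a radical. -/
theorem image_rad (e : U4 K ≃* ↥S) {P : Subgroup Ω}
    (hP : P = sub e (rad1 K) ∨ P = sub e (rad2 K)) {φ : P →* Ω} (hφ : φ ∈ F.Hom P) :
    φ.range = sub e (rad1 K) ∨ φ.range = sub e (rad2 K) := by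
  have hφS := (F.le_of_mem hφ).2
  have hu : ∀ x : P, φ x ∈ sub e (rad1 K) ∨ φ x ∈ sub e (rad2 K) := fun x =>
    el_mem_union e (hφS x) (by
      rw [← map_mul, show x * x = 1 from Subtype.ext (sub_rad_sq e (by
        rcases hP with rfl | rfl
        · exact Or.inl x.2
        · exact Or.inr x.2)), map_one])
  have hle : φ.range ≤ sub e (rad1 K) ∨ φ.range ≤ sub e (rad2 K) := by
    by_contra h
    rw [not_or, SetLike.not_le_iff_exists, SetLike.not_le_iff_exists] at h
    obtain ⟨⟨y, hy, hy1⟩, z, hz, hz2⟩ := h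
    obtain ⟨x, rfl⟩ := hy
    obtain ⟨w, rfl⟩ := hz
    rcases hu (x * w) with h3 | h3 <;> rw [map_mul] at h3
    · exact hy1 ((Subgroup.mul_mem_cancel_right _ ((hu w).resolve_right hz2)).1 h3)
    · exact hz2 ((Subgroup.mul_mem_cancel_left _ ((hu x).resolve_left hy1)).1 h3)
  have hcard : ∀ Q, Q = sub e (rad1 K) ∨ Q = sub e (rad2 K) → Nat.card Q = Nat.card M := by
    rintro Q (rfl | rfl)
    · exact natCard_sub e chart1
    · exact natCard_sub e chart2
  have hr : Nat.card φ.range = Nat.card P :=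
    (Nat.card_congr (MonoidHom.ofInjective (F.injective_of_mem hφ)).toEquiv).symm
  rw [hcard P hP] at hr
  refine hle.imp (fun h => ?_) fun h => ?_
  · have := finite_of_le (sub_le e (rad1 K))
    exact Subgroup.eq_of_le_of_card_ge h (le_of_eq ((hcard _ (Or.inl rfl)).trans hr.symm))
  · have := finite_of_le (sub_le e (rad2 K))
    exact Subgroup.eq_of_le_of_card_ge h (le_of_eq ((hcard _ (Or.inr rfl)).trans hr.symm))

theorem isCentric_rad (e : U4 K ≃* ↥S) {P : Subgroup Ω}
    (hP : P = sub e (rad1 K) ∨ P = sub e (rad2 K)) : F.IsCentric P := by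
  refine ⟨by rcases hP with rfl | rfl <;> exact sub_le e _, ?_⟩
  rintro Q ⟨φ, hφ, rfl⟩
  rcases image_rad e hP hφ with h | h <;> rw [h]
  · exact centralizerIn_rad1 e
  · exact centralizerIn_rad2 e

/-- The automorphisms of `S` fix both radicals. -/
theorem aut_rad (hS : IsPGroup 2 S) (hF : F.IsSaturated 2) (e : U4 K ≃* ↥S) {α : MulAut S}
    (hα : α ∈ F.autGroup S) {P : Subgroup Ω} (hP : P = sub e (rad1 K) ∨ P = sub e (rad2 K)) :
    (P.subgroupOf S).map α.toMonoidHom = P.subgroupOf S := by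
  have : Fact (Nat.Prime 2) := ⟨Nat.prime_two⟩
  have := finite_autGroup (F := F) (le_rfl : S ≤ S)
  let R₁ := (sub e (rad1 K)).subgroupOf S
  let R₂ := (sub e (rad2 K)).subgroupOf S
  have hne : R₁ ≠ R₂ := fun h => rad_ne e (by
    have := congrArg (Subgroup.map S.subtype) h
    rwa [Subgroup.map_subgroupOf_eq_of_le (sub_le e _),
      Subgroup.map_subgroupOf_eq_of_le (sub_le e _)] at this)
  -- every automorphism permutes the two radicals
  have hperm : ∀ β ∈ F.autGroup S, ∀ R, R = R₁ ∨ R = R₂ →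
      R.map β.toMonoidHom = R₁ ∨ R.map β.toMonoidHom = R₂ := by
    intro β hβ R hR
    obtain ⟨Q, hQ, rfl⟩ : ∃ Q, (Q = sub e (rad1 K) ∨ Q = sub e (rad2 K)) ∧ R = Q.subgroupOf S := by
      rcases hR with rfl | rfl
      exacts [⟨_, Or.inl rfl, rfl⟩, ⟨_, Or.inr rfl, rfl⟩]
    have hQS : Q ≤ S := by rcases hQ with rfl | rfl <;> exact sub_le e _
    have hφ := restrict_mem (autGroup_hom_mem le_rfl hβ) hQS
    have key : ∀ Q', ((autHom β).comp (Subgroup.inclusion hQS)).range = Q' →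
        (Q.subgroupOf S).map β.toMonoidHom = Q'.subgroupOf S := by
      rintro Q' rfl
      ext x
      constructor
      · rintro ⟨y, hy, rfl⟩; exact ⟨⟨y, hy⟩, rfl⟩
      · rintro ⟨y, hy⟩; exact ⟨⟨y, hQS y.2⟩, y.2, Subtype.ext hy⟩
    exact (image_rad e hQ hφ).imp (key _) (key _)
  -- an odd power is inner
  haveI := finite_of_le (normalizerIn_le S : normalizerIn S S ≤ S)
  obtain ⟨-, T, hT⟩ := isFullyAutomized_of_isFullyNormalized hS hF (P := S)
    ⟨le_rfl, fun Q _ => Subgroup.card_le_of_le ((normalizerIn_le Q).trans (le_normalizerIn le_rfl))⟩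
  have hTn : (T : Subgroup (F.autGroup S)).Normal := by
    rw [hT, ← inn_eq_autInducedBy]
    exact inn_normal_subgroupOf F S
  have hm : Odd (T : Subgroup (F.autGroup S)).index := Nat.not_even_iff_odd.1 fun h =>
    T.not_dvd_index (even_iff_two_dvd.1 h)
  set m := (T : Subgroup (F.autGroup S)).index
  have hinn : ∀ R, R = R₁ ∨ R = R₂ → R.map (α ^ m).toMonoidHom = R := by
    have hmem : (⟨α, hα⟩ : F.autGroup S) ^ m ∈ (T : Subgroup (F.autGroup S)) :=
      Subgroup.pow_index_mem _ _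
    rw [hT, ← inn_eq_autInducedBy, Subgroup.mem_subgroupOf] at hmem
    obtain ⟨g, hg, hgm⟩ := mem_autInducedBy.1 ((inn_eq_autInducedBy S) ▸ hmem)
    intro R hR
    refine Subgroup.eq_of_le_of_card_ge ?_ (Subgroup.card_map_of_injective (α ^ m).injective).ge
    rintro _ ⟨x, hx, rfl⟩
    obtain ⟨a, rfl⟩ := exists_el e hg
    show ((α ^ m) x : S) ∈ R
    rcases hR with rfl | rfl <;> rw [Subgroup.mem_subgroupOf, show (((α ^ m) x : S) : Ω) = _ from hgm x]
    · exact sub_conj_mem chart1 a hx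
    · exact sub_conj_mem chart2 a hx
  have h1 : R₁.map α.toMonoidHom = R₁ := by
    by_contra h
    have h12 := (hperm α hα R₁ (Or.inl rfl)).resolve_left h
    have h21 : R₂.map α.toMonoidHom = R₁ := by
      refine (hperm α hα R₂ (Or.inr rfl)).resolve_right fun h2 => hne ?_
      exact Subgroup.map_injective α.injective (h12.trans h2.symm)
    have hpow : ∀ n : ℕ, R₁.map (α ^ n).toMonoidHom = if Even n then R₁ else R₂ := by
      intro n
      induction n with
      | zero =>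
        rw [pow_zero, if_pos (by decide)]
        exact Subgroup.map_id _
      | succ n ih =>
        rw [pow_succ', show (α * α ^ n).toMonoidHom = α.toMonoidHom.comp (α ^ n).toMonoidHom from rfl,
          ← Subgroup.map_map, ih]
        by_cases hn : Even n
        · rw [if_pos hn, if_neg (Nat.even_add_one.not.2 (not_not.2 hn)), h12]
        · rw [if_neg hn, if_pos (Nat.even_add_one.2 hn), h21]
    have h3 := hpow m
    rw [hinn R₁ (Or.inl rfl), if_neg (Nat.not_even_iff_odd.2 hm)] at h3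
    exact hne h3
  rcases hP with rfl | rfl
  · exact h1
  · exact (hperm α hα R₂ (Or.inr rfl)).resolve_left fun h2 =>
      hne (Subgroup.map_injective α.injective (h1.trans h2.symm))

/-- If only one radical is essential, the system is constrained. -/
theorem isConstrained_of_not_essential (hS : IsPGroup 2 S) (hF : F.IsSaturated 2)
    (e : U4 K ≃* ↥S)
    (h : ¬ F.IsEssential 2 (sub e (rad1 K)) ∨ ¬ F.IsEssential 2 (sub e (rad2 K))) :
    F.IsConstrained 2 := by
  have : Fact (Nat.Prime 2) := ⟨Nat.prime_two⟩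
  obtain ⟨Q, hQ, hess⟩ : ∃ Q, (Q = sub e (rad1 K) ∨ Q = sub e (rad2 K)) ∧
      ∀ P, F.IsEssential 2 P → P = Q := by
    rcases h with h | h
    · exact ⟨_, Or.inr rfl, fun P hP => (essential_eq hS hF e hP).resolve_left fun h' => h (h' ▸ hP)⟩
    · exact ⟨_, Or.inl rfl, fun P hP => (essential_eq hS hF e hP).resolve_right fun h' => h (h' ▸ hP)⟩
  have hQS : Q ≤ S := by rcases hQ with rfl | rfl <;> exact sub_le e _
  refine ⟨hF, Q, isNormal_of_aut hS hF ?_, isCentric_rad e hQ⟩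
  rintro P (rfl | hP)
  · exact ⟨hQS, fun α hα => aut_rad hS hF e hα hQ⟩
  · rw [hess P hP]
    refine ⟨le_rfl, fun α _ => ?_⟩
    rw [Subgroup.subgroupOf_self]
    exact Subgroup.map_top_of_surjective _ α.surjective

variable [Fintype K]

/-- The outer symmetry exchanging the two radicals. -/
noncomputable def swapEquiv : U4 K ≃* U4 K :=
  MulEquiv.ofBijective
    (MonoidHom.mk' (fun a : U4 K => (⟨a.u, a.t * a.t, a.y + a.t * a.t * a.u,
      (a.x + a.t * a.u) * (a.x + a.t * a.u)⟩ : U4 K)) fun a b => by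
        ext <;> simp [CharTwo.two_eq_zero, CharTwo.add_mul_self] <;> grind [CharTwo.two_eq_zero])
    (Finite.injective_iff_bijective.1 fun a b h => by
      have hsq : ∀ x y : K, x * x = y * y → x = y := fun x y hxy =>
        (mul_self_eq_mul_self_iff.1 hxy).elim id fun h => h.trans (CharTwo.neg_eq y)
      have h1 : a.u = b.u := congrArg U4.t h
      have h2 : a.t * a.t = b.t * b.t := congrArg U4.u h
      have h3 : a.y + a.t * a.t * a.u = b.y + b.t * b.t * b.u := congrArg U4.x h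
      have h4 : (a.x + a.t * a.u) * (a.x + a.t * a.u) = (b.x + b.t * b.u) * (b.x + b.t * b.u) :=
        congrArg U4.y h
      have h5 := hsq _ _ h2
      have h6 := hsq _ _ h4
      refine U4.ext h5 h1 ?_ ?_
      · rw [h1, h5] at h6; exact add_right_cancel h6
      · rw [h1, h5] at h3; exact add_right_cancel h3)

theorem swapEquiv_apply (a : U4 K) : swapEquiv a = ⟨a.u, a.t * a.t, a.y + a.t * a.t * a.u,
    (a.x + a.t * a.u) * (a.x + a.t * a.u)⟩ := rfl

omit [Finite S] in
theorem sub_swap (e : U4 K ≃* ↥S) :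
    sub (swapEquiv.symm.trans e) (rad1 K) = sub e (rad2 K) ∧
      sub (swapEquiv.symm.trans e) (rad2 K) = sub e (rad1 K) := by
  have hel : ∀ a, el (swapEquiv.symm.trans e) (swapEquiv a) = el e a := fun a => by simp [el]
  constructor <;> ext x <;> constructor <;> intro hx <;> obtain ⟨a, ha, rfl⟩ := (mem_sub _).1 hx
  · obtain ⟨b, rfl⟩ := swapEquiv.surjective a
    rw [hel, el_mem_sub]
    exact (show (swapEquiv b).t = 0 from ha)
  · rw [← hel, el_mem_sub]
    exact (show a.u = 0 from ha)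
  · obtain ⟨b, rfl⟩ := swapEquiv.surjective a
    rw [hel, el_mem_sub, mem_rad1]
    exact mul_self_eq_zero.1 (show (swapEquiv b).u = 0 from ha)
  · rw [← hel, el_mem_sub, mem_rad2, swapEquiv_apply]
    show a.t * a.t = 0
    rw [show a.t = 0 from ha, mul_zero]

/-- Both radicals are essential and the core meets the axis. -/
structure Frame (F : FusionSystem S) (e : U4 K ≃* ↥S) (hS : IsPGroup 2 S) (hF : F.IsSaturated 2) :
    Prop where
  ess1 : F.IsEssential 2 (sub e (rad1 K))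
  ess2 : F.IsEssential 2 (sub e (rad2 K))
  fix1 : (setting (ch := chart1) (e := e) hS hF ess1).HasFixed
  fix2 : (setting (ch := chart2) (e := e) hS hF ess2).HasFixed

/-- The core lies in the middle subgroup. -/
theorem core_le_mid (hS : IsPGroup 2 S) (hF : F.IsSaturated 2) (e : U4 K ≃* ↥S)
    (h1 : F.IsEssential 2 (sub e (rad1 K))) (h2 : F.IsEssential 2 (sub e (rad2 K))) :
    F.core ≤ sub e (mid K) := by
  have : Fact (Nat.Prime 2) := ⟨Nat.prime_two⟩
  intro x hx
  have hn := (isNormal_iff_aut hS hF).1 (isNormal_core (F := F))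
  obtain ⟨a, ha, rfl⟩ := (mem_sub e).1 ((hn _ (Or.inr h1)).1 hx)
  have := (el_mem_sub e).1 ((hn _ (Or.inr h2)).1 hx)
  exact (el_mem_sub e).2 (mem_mid.2 ⟨ha, this⟩)

theorem fix_core (hS : IsPGroup 2 S) (hF : F.IsSaturated 2) (e : U4 K ≃* ↥S)
    {R : Subgroup (U4 K)} {φ : K → K → K} (ch : Chart K R φ) (hE : F.IsEssential 2 (sub e R))
    (hv : ∀ m : M, ch.j m ∈ mid K → m.1 = 0) (hmid : F.core ≤ sub e (mid K)) {m : M}
    (hm : el e (ch.j m) ∈ F.core) (g : Aut' F e ch) (s : K) :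
    (g * (setting (ch := ch) (e := e) hS hF hE).tr s * g⁻¹) • m = m := by
  have : Fact (Nat.Prime 2) := ⟨Nat.prime_two⟩
  refine (setting (ch := ch) (e := e) hS hF hE).fixed_of_mem (hv _ ((el_mem_sub e).1 (hmid ?_))) s
  obtain ⟨hle, hmap⟩ := (isNormal_iff_aut hS hF).1 (isNormal_core (F := F)) _ (Or.inr hE)
  have hc := congrArg Subtype.val (vec_smul g⁻¹ m)
  show el e (ch.j (g⁻¹ • m)) ∈ F.core
  rw [show el e (ch.j (g⁻¹ • m)) = ((g⁻¹).val (vec e ch m) : Ω) from hc]
  exact (hmap _ (g⁻¹).mem).le ⟨vec e ch m, hm, rfl⟩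

theorem hv1 (m : M) (h : (chart1 (K := K)).j m ∈ mid K) : m.1 = 0 := (mem_mid.1 h).2
theorem hv2 (m : M) (h : (chart2 (K := K)).j m ∈ mid K) : m.1 = 0 := (mem_mid.1 h).1

theorem frame_of_core (hS : IsPGroup 2 S) (hF : F.IsSaturated 2) (e : U4 K ≃* ↥S)
    (h1 : F.IsEssential 2 (sub e (rad1 K))) (h2 : F.IsEssential 2 (sub e (rad2 K)))
    {c : K} (hc : c ≠ 0) (hm : el e ⟨0, 0, 0, c⟩ ∈ F.core) : Frame F e hS hF := by
  have hmid := core_le_mid hS hF e h1 h2
  exact ⟨h1, h2, ⟨c, hc, fun g s => fix_core hS hF e chart1 h1 hv1 hmid (m := (0, 0, c)) hm g s⟩,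
    ⟨c, hc, fun g s => fix_core hS hF e chart2 h2 hv2 hmid (m := (0, 0, c)) hm g s⟩⟩

/-- A non-trivial core gives a constrained system or a frame. -/
theorem constrained_or_frame (hS : IsPGroup 2 S) (hF : F.IsSaturated 2) (e : U4 K ≃* ↥S)
    (hcore : F.core ≠ ⊥) : F.IsConstrained 2 ∨ ∃ e' : U4 K ≃* ↥S, Frame F e' hS hF := by
  by_cases h12 : F.IsEssential 2 (sub e (rad1 K)) ∧ F.IsEssential 2 (sub e (rad2 K))
  swap
  · exact Or.inl (isConstrained_of_not_essential hS hF e (not_and_or.1 h12))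
  obtain ⟨h1, h2⟩ := h12
  right
  have hmid := core_le_mid hS hF e h1 h2
  have hax : ∀ x y : K, el e ⟨0, 0, x, y⟩ ∈ F.core → x = 0 ∨ y = 0 := by
    intro x y hxy
    set X := setting (ch := chart1) (e := e) hS hF h1
    obtain ⟨g, hg⟩ : ∃ g, X.Moves g := X.exists_move
    exact X.axis hg fun r => fix_core hS hF e chart1 h1 hv1 hmid (m := (0, x, y)) hxy g r
  by_cases hy : ∃ x y : K, y ≠ 0 ∧ el e ⟨0, 0, x, y⟩ ∈ F.core
  · obtain ⟨x, y, hy0, hxy⟩ := hy
    obtain rfl := (hax x y hxy).resolve_right hy0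
    exact ⟨e, frame_of_core hS hF e h1 h2 hy0 hxy⟩
  push Not at hy
  obtain ⟨w, hw, hw1⟩ := F.core.bot_or_exists_ne_one.resolve_left hcore
  obtain ⟨⟨t, u, x, y⟩, ha, rfl⟩ := (mem_sub e).1 (hmid hw)
  obtain ⟨ht, hu⟩ := mem_mid.1 ha
  change t = 0 at ht
  change u = 0 at hu
  subst ht hu
  obtain rfl : y = 0 := by_contra fun h => hy x y h hw
  have hx : x ≠ 0 := fun h => hw1 (by rw [h]; exact el_one e)
  refine ⟨swapEquiv.symm.trans e, frame_of_core hS hF _ ?_ ?_ (mul_ne_zero hx hx) ?_⟩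
  · rw [(sub_swap e).1]; exact h2
  · rw [(sub_swap e).2]; exact h1
  · have h : swapEquiv (⟨0, 0, x, 0⟩ : U4 K) = ⟨0, 0, 0, x * x⟩ := by rw [swapEquiv_apply]; simp
    rw [← h]
    simpa [el] using hw

/-- A frame exists only over two or four elements. -/
theorem Frame.pow_three {hS : IsPGroup 2 S} {hF : F.IsSaturated 2} {e : U4 K ≃* ↥S}
    (h : Frame F e hS hF) {r : K} (hr : r ≠ 0) : r ^ 3 = 1 := by
  by_cases hbig : ∃ a : K, a ≠ 0 ∧ a ≠ 1
  · obtain ⟨a, ha0, ha1⟩ := hbig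
    obtain ⟨η, hη⟩ := (setting (ch := chart1) (e := e) hS hF h.ess1).torus_phi h.fix1 hr
    have e1 := hη 1 1
    have e2 := hη a a⁻¹
    rw [mul_one] at e1
    rw [mul_inv_cancel₀ ha0] at e2
    field_simp at e1 e2
    have h2 : (2 : K) = 0 := CharTwo.two_eq_zero
    have e3 : (a - 1) * (r ^ 3 - 1) = 0 := by grind
    exact sub_eq_zero.1 ((mul_eq_zero.1 e3).resolve_left (sub_ne_zero.2 ha1))
  · push Not at hbig
    rw [hbig r hr, one_pow]

end Cfsg.Agent.Lib.SpFourExotic
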